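import Groth.Agent.SubDescent.EtaleHom
import Groth.Agent.SchDescent.StableOpen
import Groth.Agent.Purity.ConnFibFF
import Groth.Agent.ThickLib.Basic
import Mathlib.AlgebraicGeometry.Morphisms.Flat

/-!
# Descent data of étale schemes along universally submersive morphisms: compatible étale sections

`HasSec D`: every point of the underlying scheme of `D` lies in the image of a morphism
`X ×_S U ⟶ D.obj` compatible with the gluing bijections, with `U` étale over `S`.
-/

set_option autoImplicit false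
set_option backward.isDefEq.respectTransparency false
set_option backward.isDefEq.respectTransparency.types false
set_option linter.style.haveILetI false

universe u

open CategoryTheory CategoryTheory.Limits AlgebraicGeometry

namespace Groth.Agent.EtDD

open Groth.Agent.SchDescent

/-! ## universally submersive morphisms -/

theorem subm_of_isPullback {X Y X' Y' : Scheme.{u}} {f : X ⟶ Y} {f' : X' ⟶ Y'} {a : X' ⟶ X} {b : Y' ⟶ Y}
    (h : IsPullback a f' f b) (hf : SGA1.UnivSubmersive f) : SGA1.UnivSubmersive f' :=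
  (MorphismProperty.universally_isStableUnderBaseChange _).of_isPullback h hf

theorem subm_snd {X Y Z : Scheme.{u}} {f : X ⟶ Z} (g : Y ⟶ Z) (hf : SGA1.UnivSubmersive f) :
    SGA1.UnivSubmersive (pullback.snd f g) :=
  subm_of_isPullback (IsPullback.of_hasPullback f g) hf

theorem subm_fst {X Y Z : Scheme.{u}} (f : X ⟶ Z) {g : Y ⟶ Z} (hg : SGA1.UnivSubmersive g) :
    SGA1.UnivSubmersive (pullback.fst f g) :=
  subm_of_isPullback (IsPullback.of_hasPullback f g).flip hg

theorem subm_comp {X Y Z : Scheme.{u}} {f : X ⟶ Y} {g : Y ⟶ Z} (hf : SGA1.UnivSubmersive f)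
    (hg : SGA1.UnivSubmersive g) : SGA1.UnivSubmersive (f ≫ g) := by
  intro X' Z' a b h H
  let l := pullback.lift (f := g) (g := b) (a ≫ f) h (by rw [Category.assoc]; exact H.flip.w)
  have hl₁ : l ≫ pullback.fst g b = a ≫ f := pullback.lift_fst _ _ _
  have hl₂ : l ≫ pullback.snd g b = h := pullback.lift_snd _ _ _
  have H' : IsPullback a l f (pullback.fst g b) :=
    IsPullback.of_bot (by rw [hl₂]; exact H.flip) hl₁.symm (IsPullback.of_hasPullback g b)
  have e : (h : X' → Z') = pullback.snd g b ∘ l := by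
    rw [← hl₂]; exact funext fun x => Scheme.Hom.comp_apply _ _ x
  show Topology.IsQuotientMap (h : X' → Z')
  rw [e]
  exact (hg _ _ _ (IsPullback.of_hasPullback g b).flip).comp (hf _ _ _ H'.flip)

theorem surjective_subm {X Y : Scheme.{u}} {f : X ⟶ Y} (hf : SGA1.UnivSubmersive f) : Surjective f :=
  SubDescent.surjective_of_univSubmersive hf

theorem isQuotientMap_subm {X Y : Scheme.{u}} {f : X ⟶ Y} (hf : SGA1.UnivSubmersive f) :
    Topology.IsQuotientMap f :=
  SubDescent.isQuotientMap_of_univSubmersive hf (IsPullback.id_horiz f).flip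

theorem subm_of_isIso {X Y : Scheme.{u}} (f : X ⟶ Y) [IsIso f] : SGA1.UnivSubmersive f :=
  Purity.univSubmersive_of_universallyOpen f

theorem quasiCompact_of_pullback {X Y Z : Scheme.{u}} (f : X ⟶ Z) (g : Y ⟶ Z) [Surjective f] [QuasiCompact f]
    [QuasiCompact (pullback.fst f g)] : QuasiCompact g := by
  haveI : QuasiCompact (pullback.snd f g ≫ g) := by rw [← pullback.condition]; infer_instance
  exact ThickLib.quasiCompact_of_comp_surjective (pullback.snd f g) g

/-! ## field-valued points -/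

/-- a point of the base with values in a field lifts along a surjective morphism after extending the field -/
theorem exists_field_point {X S : Scheme.{u}} (f : X ⟶ S) [Surjective f] {K : Type u} [Field K]
    (s : Spec (CommRingCat.of K) ⟶ S) :
    ∃ (L : Type u) (_ : Field L) (k : Spec (CommRingCat.of L) ⟶ Spec (CommRingCat.of K))
      (x : Spec (CommRingCat.of L) ⟶ X), x ≫ f = k ≫ s ∧ Epi k ∧ Surjective k := by
  obtain ⟨w, -⟩ := (pullback.snd f s).surjective default
  let W := pullback f s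
  let k : Spec (CommRingCat.of (W.residueField w)) ⟶ Spec (CommRingCat.of K) :=
    W.fromSpecResidueField w ≫ pullback.snd f s
  haveI : Surjective k := ⟨fun o => ⟨default, Subsingleton.elim _ _⟩⟩
  obtain ⟨φ, hφ⟩ := Spec.map_surjective k
  haveI : Flat k := by
    rw [← hφ, HasRingHomProperty.Spec_iff (P := @Flat)]
    letI := φ.hom.toAlgebra
    show Module.Flat K (W.residueField w)
    haveI : Module.Free K (W.residueField w) := Module.Free.of_divisionRing _ _
    exact Module.Flat.of_free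
  exact ⟨W.residueField w, inferInstance, k, W.fromSpecResidueField w ≫ pullback.fst f s,
    by rw [Category.assoc, pullback.condition, ← Category.assoc], Flat.epi_of_flat_of_surjective k, inferInstance⟩

/-- a morphism from the spectrum of a field has one point in its image -/
theorem field_apply {W : Scheme.{u}} {K L : Type u} [Field K] [Field L]
    (k : Spec (CommRingCat.of L) ⟶ Spec (CommRingCat.of K)) (w : Spec (CommRingCat.of K) ⟶ W) :
    (k ≫ w) default = w default := by
  rw [Scheme.Hom.comp_apply]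
  exact congrArg w (Subsingleton.elim _ _)

/-! ## descending points with values in an étale scheme -/

/-- points with values in an étale scheme descend along universally submersive morphisms -/
theorem exists_desc {X Y T T' : Scheme.{u}} {g : T' ⟶ T} (hg : SGA1.UnivSubmersive g) (x : T ⟶ X)
    (q : Y ⟶ X) [Etale q] (v' : T' ⟶ Y) (hv : v' ≫ q = g ≫ x)
    (hc : ∀ {Z : Scheme.{u}} (a b : Z ⟶ T'), a ≫ g = b ≫ g → a ≫ v' = b ≫ v') :
    ∃! v : T ⟶ Y, v ≫ q = x ∧ g ≫ v = v' := by
  let ψ : pullback (𝟙 T) g ⟶ pullback x q := pullback.lift (pullback.fst (𝟙 T) g) (pullback.snd (𝟙 T) g ≫ v') (by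
    rw [Category.assoc, hv, ← Category.assoc, ← pullback.condition, Category.comp_id])
  have hsub : ∀ {Z : Scheme.{u}} (t : Z ⟶ pullback (𝟙 T) g),
      t ≫ pullback.snd (𝟙 T) g ≫ g = t ≫ pullback.fst (𝟙 T) g := fun t => by
    rw [← pullback.condition, Category.comp_id]
  obtain ⟨w, ⟨hw₁, hw₂⟩, -⟩ := SubDescent.exists_desc_etale g (𝟙 T) (pullback.fst x q) hg ψ
    ((pullback.lift_fst _ _ _).trans (Category.comp_id _).symm) fun t₁ t₂ h => by
      apply pullback.hom_ext
      · simpa [ψ] using h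
      · simp only [ψ, Category.assoc, pullback.lift_snd]
        have := hc (t₁ ≫ pullback.snd (𝟙 T) g) (t₂ ≫ pullback.snd (𝟙 T) g) (by
          rw [Category.assoc, Category.assoc, hsub, hsub, h])
        simpa only [Category.assoc] using this
  have h1 : (w ≫ pullback.snd x q) ≫ q = x := by
    rw [Category.assoc, ← pullback.condition, ← Category.assoc, hw₁, Category.id_comp]
  have h2 : g ≫ w ≫ pullback.snd x q = v' := by
    have := congr(pullback.lift g (𝟙 T') (by simp) ≫ $hw₂ ≫ pullback.snd x q)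
    simp only [ψ, Category.assoc, pullback.lift_snd, pullback.lift_fst_assoc, pullback.lift_snd_assoc, Category.id_comp] at this
    exact this
  refine ⟨w ≫ pullback.snd x q, ⟨h1, h2⟩, fun v ⟨hv₁, hv₂⟩ => ?_⟩
  have := surjective_subm hg
  exact EtaleSections.eq_of_surjective q v (w ≫ pullback.snd x q) g (hv₂.trans h2.symm) (hv₁.trans h1.symm)

/-- uniqueness of descended points -/
theorem desc_ext {X Y T T' : Scheme.{u}} (g : T' ⟶ T) [Surjective g] (q : Y ⟶ X) [Etale q] {v w : T ⟶ Y}
    (h : v ≫ q = w ≫ q) (h' : g ≫ v = g ≫ w) : v = w :=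
  EtaleSections.eq_of_surjective q v w g h' h

/-! ## transport -/

variable {X S : Scheme.{u}} {f : X ⟶ S} (D : Desc.SchDD f)

theorem tr_congr {T : Scheme.{u}} {x x' : T ⟶ X} (hx : x = x') {v v' : T ⟶ D.obj.left} (hv : v = v')
    {h : (v ≫ D.obj.hom) ≫ f = x ≫ f} {h' : (v' ≫ D.obj.hom) ≫ f = x' ≫ f} :
    tr D x v h = tr D x' v' h' := by
  subst hx hv; rfl

theorem phi_eq_tr {T : Scheme.{u}} (x₀ x₁ : T ⟶ X) (h : x₀ ≫ f = x₁ ≫ f) (v : T ⟶ D.obj.left)
    (hv : v ≫ D.obj.hom = x₀) : (D.φ x₀ x₁ h ⟨v, hv⟩).1 = tr D x₁ v ((congrArg (· ≫ f) hv).trans h) := by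
  subst hv; rfl

/-- transporting twice -/
theorem tr_tr' {T : Scheme.{u}} {x x' : T ⟶ X} {v v' : T ⟶ D.obj.left} {h : (v ≫ D.obj.hom) ≫ f = x' ≫ f}
    (e : tr D x' v h = v') {h₁ : (v' ≫ D.obj.hom) ≫ f = x ≫ f} {h₂ : (v ≫ D.obj.hom) ≫ f = x ≫ f} :
    tr D x v' h₁ = tr D x v h₂ := by
  subst e
  exact tr_tr D x x' v h h₁

/-- two points related to a common one are related -/
theorem tr_eq_of_tr {T : Scheme.{u}} {x₁ x₂ : T ⟶ X} {v v₁ v₂ : T ⟶ D.obj.left}
    {h₁ : (v ≫ D.obj.hom) ≫ f = x₁ ≫ f} {h₂ : (v ≫ D.obj.hom) ≫ f = x₂ ≫ f}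
    (e₁ : tr D x₁ v h₁ = v₁) (e₂ : tr D x₂ v h₂ = v₂) {h : (v₁ ≫ D.obj.hom) ≫ f = x₂ ≫ f} :
    tr D x₂ v₁ h = v₂ :=
  (tr_tr' D e₁).trans e₂

/-- transport is injective -/
theorem tr_inj {T : Scheme.{u}} {x : T ⟶ X} {v v' : T ⟶ D.obj.left} (hvv : v ≫ D.obj.hom = v' ≫ D.obj.hom)
    {h : (v ≫ D.obj.hom) ≫ f = x ≫ f} {h' : (v' ≫ D.obj.hom) ≫ f = x ≫ f} (e : tr D x v h = tr D x v' h') :
    v = v' := by
  have k : (tr D x v h ≫ D.obj.hom) ≫ f = (v ≫ D.obj.hom) ≫ f := by rw [tr_over, h]
  have k' : (tr D x v' h' ≫ D.obj.hom) ≫ f = (v ≫ D.obj.hom) ≫ f := by rw [tr_over, h]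
  calc v = tr D (v ≫ D.obj.hom) v rfl := (tr_self D rfl).symm
    _ = tr D (v ≫ D.obj.hom) (tr D x v h) k := (tr_tr' D rfl).symm
    _ = tr D (v ≫ D.obj.hom) (tr D x v' h') k' := tr_congr D rfl e
    _ = tr D (v ≫ D.obj.hom) v' (congrArg (· ≫ f) hvv.symm) := tr_tr' D rfl
    _ = v' := tr_self D hvv.symm

/-! ## compatible sections -/

/-- a morphism `X ×_S U ⟶ D.obj` over `X` compatible with the gluing bijections -/
structure SecCompat {U : Scheme.{u}} (a : U ⟶ S) (σ : pullback f a ⟶ D.obj.left) : Prop where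
  lies : σ ≫ D.obj.hom = pullback.fst f a
  compat : ∀ ⦃T : Scheme.{u}⦄ (t₀ t₁ : T ⟶ pullback f a) (h : t₀ ≫ pullback.snd f a = t₁ ≫ pullback.snd f a),
    tr D (t₁ ≫ pullback.fst f a) (t₀ ≫ σ) (by
      rw [Category.assoc, Category.assoc, reassoc_of% lies, pullback.condition, ← Category.assoc, h,
        Category.assoc, Category.assoc, pullback.condition]) = t₁ ≫ σ

/-- every point lies in the image of a compatible section over an étale scheme over the base -/
def HasSec : Prop :=
  ∀ d : D.obj.left, ∃ (U : Scheme.{u}) (a : U ⟶ S) (_ : Etale a) (σ : pullback f a ⟶ D.obj.left),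
    SecCompat D a σ ∧ d ∈ Set.range σ

/-- every étale separated descent datum along `f` has compatible sections -/
def HasSecAll {X S : Scheme.{u}} (f : X ⟶ S) : Prop :=
  ∀ D : Desc.SchDD f, Etale D.obj.hom → IsSeparated D.obj.hom → HasSec D

/-- every étale separated quasi-compact descent datum along `f` has compatible sections -/
def HasSecQC {X S : Scheme.{u}} (f : X ⟶ S) : Prop :=
  ∀ D : Desc.SchDD f, Etale D.obj.hom → IsSeparated D.obj.hom → QuasiCompact D.obj.hom → HasSec D

theorem HasSecAll.qc {X S : Scheme.{u}} {f : X ⟶ S} (h : HasSecAll f) : HasSecQC f := fun D h₁ h₂ _ => h D h₁ h₂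

variable {D}

theorem SecCompat.comp_lies {U : Scheme.{u}} {a : U ⟶ S} {σ : pullback f a ⟶ D.obj.left} (h : SecCompat D a σ)
    {T : Scheme.{u}} (t : T ⟶ pullback f a) : (t ≫ σ) ≫ D.obj.hom = t ≫ pullback.fst f a := by
  rw [Category.assoc, h.lies]

theorem SecCompat.etale {U : Scheme.{u}} {a : U ⟶ S} [Etale a] {σ : pullback f a ⟶ D.obj.left}
    (h : SecCompat D a σ) [Etale D.obj.hom] : Etale σ := by
  haveI : Etale (σ ≫ D.obj.hom) := by rw [h.lies]; infer_instance
  exact Etale.of_comp σ D.obj.hom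

/-- composing with a morphism over the base -/
theorem SecCompat.precomp {U : Scheme.{u}} {a : U ⟶ S} {σ : pullback f a ⟶ D.obj.left} (h : SecCompat D a σ)
    {V : Scheme.{u}} {b : V ⟶ S} (j : pullback f b ⟶ pullback f a)
    (hj : j ≫ pullback.fst f a = pullback.fst f b) {i : V ⟶ U} (hj' : j ≫ pullback.snd f a = pullback.snd f b ≫ i) :
    SecCompat D b (j ≫ σ) := by
  refine ⟨by rw [Category.assoc, h.lies, hj], fun T t₀ t₁ e => ?_⟩
  have e' : (t₀ ≫ j) ≫ pullback.snd f a = (t₁ ≫ j) ≫ pullback.snd f a := by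
    rw [Category.assoc, Category.assoc, hj', ← Category.assoc, e, Category.assoc]
  refine (tr_congr D ?_ (Category.assoc _ _ _).symm).trans ((h.compat _ _ e').trans (Category.assoc _ _ _))
  rw [Category.assoc, hj]

end Groth.Agent.EtDD
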