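import Groth.Agent.EtDD.RepSec

/-!
# Compatible sections along universally closed morphisms with base change for sheaves of sets
-/

set_option autoImplicit false
set_option backward.isDefEq.respectTransparency false
set_option backward.isDefEq.respectTransparency.types false
set_option linter.style.haveILetI false
set_option maxHeartbeats 1000000

universe u

open CategoryTheory CategoryTheory.Limits AlgebraicGeometry Opposite

noncomputable section

namespace Groth.Agent.EtDD

open Groth.Agent.SchDescent Groth.Agent.EtShLib Groth.Agent.EtShSep Groth.Agent.EtShDesc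

/-- **the base case**: universally closed morphisms with base change for sheaves of sets -/
theorem hasSecAll_of_univClosed {X S : Scheme.{u}} (f : X ⟶ S) [UniversallyClosed f]
    (hBC : ∀ F : EtDesc.Sh X, IsIso (EtBC.baseChange0Sh f f (pullback.snd f f) (pullback.fst f f)
      pullback.condition F)) : HasSecAll f := by
  intro D hDe hDs d
  let W : X.Etale := Scheme.Etale.mk D.obj.hom
  let P₁ := pullback W.hom (pullback.snd f f)
  let v₁ : P₁ ⟶ D.obj.left := pullback.fst W.hom (pullback.snd f f)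
  let x₁ : P₁ ⟶ X := pullback.snd W.hom (pullback.snd f f) ≫ pullback.fst f f
  have hτ : (v₁ ≫ D.obj.hom) ≫ f = x₁ ≫ f := by
    show (pullback.fst W.hom (pullback.snd f f) ≫ W.hom) ≫ f = _
    rw [pullback.condition, Category.assoc, ← pullback.condition, Category.assoc]
  haveI := hBC (repS W)
  obtain ⟨A₁, c, U, m, hm, s, ⟨α, hα⟩, hs⟩ :=
    exists_bc_preimage f f (repS W) W (pt W x₁ (tr D x₁ v₁ hτ) (tr_over D _ _ _)) d
  let σ₀ : ((EtCoh.bc f).obj U).left ⟶ D.obj.left := (ULift.down (s : ULift.{u + 1} ((EtCoh.bc f).obj U ⟶ W))).left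
  have hσ₀ : σ₀ ≫ D.obj.hom = pullback.snd U.hom f :=
    MorphismProperty.Over.w (ULift.down (s : ULift.{u + 1} ((EtCoh.bc f).obj U ⟶ W)))
  let PU := pullback f U.hom
  let σ : PU ⟶ D.obj.left := (pullbackSymmetry f U.hom).hom ≫ σ₀
  have hσ : σ ≫ D.obj.hom = pullback.fst f U.hom := by
    rw [Category.assoc, hσ₀, pullbackSymmetry_hom_comp_snd]
  have hc : c.left ≫ D.obj.hom = A₁.hom := MorphismProperty.Over.w c
  -- the section near the chosen point
  have key : ∀ {Z : Scheme.{u}} (z₁ : Z ⟶ A₁.left) (t : Z ⟶ PU),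
      t ≫ pullback.snd f U.hom = z₁ ≫ m →
      ∃ hh, t ≫ σ = tr D (t ≫ pullback.fst f U.hom) (z₁ ≫ c.left) hh := by
    intro Z z₁ t ht
    have hxf : (t ≫ pullback.fst f U.hom) ≫ f = (z₁ ≫ A₁.hom) ≫ f := by
      rw [Category.assoc, pullback.condition, ← Category.assoc, ht, Category.assoc, hm, Category.assoc]
    let z₂ := pullback.lift (t ≫ pullback.fst f U.hom) (z₁ ≫ A₁.hom) hxf
    have hz : z₁ ≫ A₁.hom = z₂ ≫ pullback.snd f f := (pullback.lift_snd _ _ _).symm
    have h1 := hs Z z₁ z₂ hz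
    let l : Z ⟶ P₁ := pullback.lift (z₁ ≫ c.left) z₂ (by
      rw [Category.assoc]; exact (congrArg (z₁ ≫ ·) hc).trans hz)
    have hl₁ : l ≫ x₁ = t ≫ pullback.fst f U.hom := by
      rw [← Category.assoc, pullback.lift_snd, pullback.lift_fst]
    have hhh : ((z₁ ≫ c.left) ≫ D.obj.hom) ≫ f = (t ≫ pullback.fst f U.hom) ≫ f := by
      rw [Category.assoc z₁, hc, hxf]
    have h2 := (res_pt W l x₁ (z₂ ≫ pullback.fst f f) (by rw [← Category.assoc, pullback.lift_snd]) _
      (tr_over D x₁ v₁ hτ)).symm.trans (h1.trans (pb_eq_pt W _ _ _ (ULift.down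
        (s : ULift.{u + 1} ((EtCoh.bc f).obj U ⟶ W)))))
    have h3 := pt_injective W _ _ _ h2
    have hn : nMap f f m hm z₁ z₂ hz = t ≫ (pullbackSymmetry f U.hom).hom := by
      apply pullback.hom_ext
      · rw [nMap_fst, Category.assoc, pullbackSymmetry_hom_comp_fst, ht]
      · refine (nMap_snd f f m hm z₁ z₂ hz).trans ?_
        rw [Category.assoc, pullbackSymmetry_hom_comp_snd, pullback.lift_fst]
    refine ⟨hhh, ?_⟩
    calc t ≫ σ = nMap f f m hm z₁ z₂ hz ≫ σ₀ := by rw [hn]; exact (Category.assoc _ _ _).symm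
      _ = l ≫ tr D x₁ v₁ hτ := h3.symm
      _ = _ := comp_tr D l hl₁ (pullback.lift_fst _ _ _)
  -- where the section is compatible
  let R := pullback (pullback.snd f U.hom) (pullback.snd f U.hom)
  let r₀ : R ⟶ PU := pullback.fst (pullback.snd f U.hom) (pullback.snd f U.hom)
  let r₁ : R ⟶ PU := pullback.snd (pullback.snd f U.hom) (pullback.snd f U.hom)
  let q₂ : R ⟶ U.left := r₀ ≫ pullback.snd f U.hom
  haveI : UniversallyClosed q₂ := inferInstance
  have hR : ((r₀ ≫ σ) ≫ D.obj.hom) ≫ f = (r₁ ≫ pullback.fst f U.hom) ≫ f := by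
    rw [Category.assoc r₀, hσ]
    simp only [Category.assoc, pullback.condition]
    exact pullback.condition_assoc _
  let e₀ : R ⟶ D.obj.left := tr D (r₁ ≫ pullback.fst f U.hom) (r₀ ≫ σ) hR
  have he : e₀ ≫ D.obj.hom = (r₁ ≫ σ) ≫ D.obj.hom := by
    rw [Category.assoc, hσ]; exact tr_over D _ _ _
  let B : Set R := (EtaleSections.eqLocus D.obj.hom e₀ (r₁ ≫ σ) he)ᶜ
  have hB : IsClosed (q₂ '' B) :=
    q₂.isClosedMap _ (EtaleSections.isOpen_eqLocus D.obj.hom e₀ (r₁ ≫ σ) he).isClosed_compl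
  let O : U.left.Opens := ⟨(q₂ '' B)ᶜ, hB.isOpen_compl⟩
  have hmα : m α ∈ O := by
    rintro ⟨r, hr, hrm⟩
    apply hr
    obtain ⟨w, hw, -⟩ := Scheme.Pullback.exists_preimage_pullback (f := q₂) (g := m) r α hrm
    let τ := (pullback q₂ m).fromSpecResidueField w
    let ρ := τ ≫ pullback.fst q₂ m
    let a' := τ ≫ pullback.snd q₂ m
    have h0 : (ρ ≫ r₀) ≫ pullback.snd f U.hom = a' ≫ m := by
      simp only [ρ, a', Category.assoc]; rw [show r₀ ≫ pullback.snd f U.hom = q₂ from rfl, pullback.condition]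
    have h1 : (ρ ≫ r₁) ≫ pullback.snd f U.hom = a' ≫ m :=
      (Category.assoc _ _ _).trans ((congrArg (ρ ≫ ·) pullback.condition.symm).trans
        ((Category.assoc _ _ _).symm.trans h0))
    obtain ⟨_, k₀⟩ := key a' (ρ ≫ r₀) h0
    obtain ⟨_, k₁⟩ := key a' (ρ ≫ r₁) h1
    have heq : ρ ≫ e₀ = ρ ≫ r₁ ≫ σ := by
      refine Eq.trans ?_ (k₁.symm.trans (Category.assoc _ _ _))
      refine (comp_tr D ρ (Category.assoc _ _ _).symm ((Category.assoc _ _ _).symm.trans k₀) (h' := ?_)).trans ?_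
      · rw [tr_over, Category.assoc, pullback.condition, ← Category.assoc, h0, ← h1, Category.assoc,
          Category.assoc (ρ ≫ r₁) (pullback.fst f U.hom) f, pullback.condition]
      · exact tr_tr' D rfl
    refine EtaleSections.range_subset_eqLocus D.obj.hom e₀ (r₁ ≫ σ) he ρ heq ⟨IsLocalRing.closedPoint _, ?_⟩
    show ρ _ = r
    rw [Scheme.Hom.comp_apply, Scheme.fromSpecResidueField_apply]
    exact hw
  haveI := U.prop
  let a : (O : Scheme.{u}) ⟶ S := O.ι ≫ U.hom
  let j : pullback f a ⟶ PU := pullback.lift (pullback.fst f a) (pullback.snd f a ≫ O.ι)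
    (pullback.condition.trans (Category.assoc _ _ _).symm)
  have hj₁ : j ≫ pullback.fst f U.hom = pullback.fst f a := pullback.lift_fst _ _ _
  have hj₂ : j ≫ pullback.snd f U.hom = pullback.snd f a ≫ O.ι := pullback.lift_snd _ _ _
  refine ⟨(O : Scheme.{u}), a, inferInstance, j ≫ σ, ⟨by rw [Category.assoc, hσ, hj₁], fun T t₀ t₁ h => ?_⟩, ?_⟩
  · have hh : (t₀ ≫ j) ≫ pullback.snd f U.hom = (t₁ ≫ j) ≫ pullback.snd f U.hom := by
      simp only [Category.assoc, hj₂]; rw [reassoc_of% h]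
    let l : T ⟶ R := pullback.lift (t₀ ≫ j) (t₁ ≫ j) hh
    have hl₀ : l ≫ r₀ = t₀ ≫ j := pullback.lift_fst _ _ _
    have hl₁ : l ≫ r₁ = t₁ ≫ j := pullback.lift_snd _ _ _
    have hrange : Set.range l ⊆ EtaleSections.eqLocus D.obj.hom e₀ (r₁ ≫ σ) he := by
      rintro _ ⟨o, rfl⟩
      by_contra hno
      have hmem : q₂ (l o) ∈ O := by
        rw [← Scheme.Hom.comp_apply, show l ≫ q₂ = (t₀ ≫ pullback.snd f a) ≫ O.ι by
          rw [← Category.assoc, hl₀, Category.assoc, hj₂, Category.assoc], Scheme.Hom.comp_apply]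
        exact ((t₀ ≫ pullback.snd f a) o).2
      exact hmem ⟨l o, hno, rfl⟩
    have e := EtaleSections.eq_of_range_subset_eqLocus D.obj.hom e₀ (r₁ ≫ σ) he l hrange
    refine Eq.trans (comp_tr D l ?_ ?_).symm (e.trans ?_)
    · rw [reassoc_of% hl₁, hj₁]
    · rw [reassoc_of% hl₀]
    · rw [reassoc_of% hl₁]
  · let a' := A₁.left.fromSpecResidueField α
    have hx : (a' ≫ A₁.hom) ≫ f = (a' ≫ m) ≫ U.hom := by rw [Category.assoc, Category.assoc, hm]
    let t₀ : Spec (A₁.left.residueField α) ⟶ PU := pullback.lift (a' ≫ A₁.hom) (a' ≫ m) hx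
    have hr : Set.range (t₀ ≫ pullback.snd f U.hom) ⊆ Set.range O.ι := by
      rintro _ ⟨o, rfl⟩
      rw [pullback.lift_snd, Scheme.Opens.range_ι, Scheme.Hom.comp_apply, Scheme.fromSpecResidueField_apply]
      exact hmα
    let n := IsOpenImmersion.lift O.ι _ hr
    have hn : n ≫ O.ι = t₀ ≫ pullback.snd f U.hom := IsOpenImmersion.lift_fac _ _ _
    let t : Spec (A₁.left.residueField α) ⟶ pullback f a := pullback.lift (t₀ ≫ pullback.fst f U.hom) n (by
      rw [Category.assoc, pullback.condition, ← Category.assoc, ← hn, Category.assoc])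
    have htj : t ≫ j = t₀ := by
      apply pullback.hom_ext
      · rw [Category.assoc, hj₁, pullback.lift_fst]
      · rw [Category.assoc, hj₂, ← Category.assoc, pullback.lift_snd, hn]
    obtain ⟨_, k⟩ := key a' t₀ (pullback.lift_snd _ _ _)
    refine ⟨t (IsLocalRing.closedPoint _), ?_⟩
    rw [← Scheme.Hom.comp_apply, reassoc_of% htj, k, tr_self D (by rw [pullback.lift_fst, Category.assoc, hc]),
      Scheme.Hom.comp_apply, Scheme.fromSpecResidueField_apply]
    exact hα

theorem hasSecAll_integral {X S : Scheme.{u}} (f : X ⟶ S) [IsIntegralHom f] : HasSecAll f :=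
  hasSecAll_of_univClosed f fun F =>
    isIso_baseChange0Sh_integral f f _ _ (IsPullback.of_hasPullback f f) F

end Groth.Agent.EtDD
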