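import Groth.Agent.EtDD.Basic
import Groth.Agent.EtDD.Quot

/-!
# Effectivity from compatible sections

A descent datum of a separated étale scheme along a universally submersive morphism which has
compatible étale sections is effective.
-/

set_option autoImplicit false
set_option backward.isDefEq.respectTransparency false
set_option backward.isDefEq.respectTransparency.types false
set_option linter.style.haveILetI false
set_option maxHeartbeats 1000000

universe u

open CategoryTheory CategoryTheory.Limits AlgebraicGeometry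

namespace Groth.Agent.EtDD

open Groth.Agent.SchDescent Groth.Agent.EtPieceQuot

variable {X S : Scheme.{u}} {f : X ⟶ S} {D : Desc.SchDD f}

/-- a morphism of descent data which is an isomorphism of schemes is an isomorphism -/
theorem nonempty_iso_of_isIso {D₁ D₂ : Desc.SchDD f} (m : D₁ ⟶ D₂) [IsIso m.hom.left] :
    Nonempty (D₁ ≅ D₂) := by
  have h1 : inv m.hom.left ≫ D₁.obj.hom = D₂.obj.hom := by rw [IsIso.inv_comp_eq, Over.w m.hom]
  let n : D₂ ⟶ D₁ := ⟨Over.homMk (inv m.hom.left) h1, fun T x₀ x₁ h v w hw => by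
    have e := m.comm x₀ x₁ h w v (by rw [hw]; simp)
    rw [e]
    simp⟩
  exact ⟨⟨m, n, Desc.SchDD.hom_ext (by ext; simp [n]), Desc.SchDD.hom_ext (by ext; simp [n])⟩⟩

/-- compatible sections glue to one surjective compatible section -/
theorem exists_surjective_sec (H : HasSec D) :
    ∃ (U : Scheme.{u}) (A : U ⟶ S) (_ : Etale A) (σ : pullback f A ⟶ D.obj.left),
      SecCompat D A σ ∧ Surjective σ := by
  choose U a ha σ hσ hd using H
  let U₁ := ∐ U
  let A : U₁ ⟶ S := Sigma.desc a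
  haveI : Etale A := IsZariskiLocalAtSource.sigmaDesc (P := @Etale) ha
  let 𝒰 := Scheme.Pullback.openCoverOfRight (sigmaOpenCover U) f A
  have hιA : ∀ d, (sigmaOpenCover U).f d ≫ A = a d := fun d => Sigma.ι_desc _ _
  let k : ∀ d, 𝒰.X d ⟶ pullback f (a d) := fun d => (pullback.congrHom rfl (hιA d)).hom
  have hk₁ : ∀ d, k d ≫ pullback.fst f (a d) = 𝒰.f d ≫ pullback.fst f A := fun d => by
    simp [k, 𝒰, Scheme.Pullback.openCoverOfRight]
  have hk₂ : ∀ d, 𝒰.f d ≫ pullback.snd f A = (k d ≫ pullback.snd f (a d)) ≫ Sigma.ι U d := fun d => by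
    simp [k, 𝒰, Scheme.Pullback.openCoverOfRight, U₁, sigmaOpenCover]
  have hglue : ∀ d e, pullback.fst (𝒰.f d) (𝒰.f e) ≫ k d ≫ σ d = pullback.snd (𝒰.f d) (𝒰.f e) ≫ k e ≫ σ e := by
    intro d e
    rcases eq_or_ne d e with rfl | hne
    · haveI : Mono (𝒰.f d) := inferInstance
      rw [(cancel_mono (𝒰.f d)).1 pullback.condition]
    · haveI := isEmpty_pullback_sigmaι_of_ne U hne
      let l : pullback (𝒰.f d) (𝒰.f e) ⟶ pullback (Sigma.ι U d) (Sigma.ι U e) :=
        pullback.lift (pullback.fst _ _ ≫ k d ≫ pullback.snd f (a d)) (pullback.snd _ _ ≫ k e ≫ pullback.snd f (a e)) (by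
          simp only [Category.assoc]
          rw [← Category.assoc (k d), ← hk₂, ← Category.assoc (k e), ← hk₂, pullback.condition_assoc])
      haveI : IsEmpty ↑(pullback (𝒰.f d) (𝒰.f e)) := Function.isEmpty l
      exact (isInitialOfIsEmpty).hom_ext _ _
  let τ : pullback f A ⟶ D.obj.left := 𝒰.glueMorphisms (fun d => k d ≫ σ d) hglue
  have hτ : ∀ d, 𝒰.f d ≫ τ = k d ≫ σ d := fun d => 𝒰.ι_glueMorphisms _ hglue d
  have hlies : τ ≫ D.obj.hom = pullback.fst f A := 𝒰.hom_ext _ _ fun d => by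
    rw [reassoc_of% hτ d, (hσ d).lies, hk₁]
  refine ⟨U₁, A, inferInstance, τ, ⟨hlies, fun T t₀ t₁ h => ?_⟩, ⟨fun d => ?_⟩⟩
  · refine Scheme.Cover.hom_ext ((sigmaOpenCover U).pullback₁ (t₀ ≫ pullback.snd f A)) _ _ fun d => ?_
    let g := pullback.fst (t₀ ≫ pullback.snd f A) ((sigmaOpenCover U).f d)
    let u₀ := pullback.snd (t₀ ≫ pullback.snd f A) ((sigmaOpenCover U).f d)
    have hu₀ : (g ≫ t₀) ≫ pullback.snd f A = u₀ ≫ Sigma.ι U d := by
      rw [Category.assoc]; exact pullback.condition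
    have hu₁ : (g ≫ t₁) ≫ pullback.snd f A = u₀ ≫ Sigma.ι U d :=
      (Category.assoc _ _ _).trans ((congrArg (g ≫ ·) h.symm).trans ((Category.assoc _ _ _).symm.trans hu₀))
    have hf : ∀ {t : T ⟶ pullback f A}, (g ≫ t) ≫ pullback.snd f A = u₀ ≫ Sigma.ι U d →
        ((g ≫ t) ≫ pullback.fst f A) ≫ f = u₀ ≫ a d := fun {t} ht => by
      rw [Category.assoc, pullback.condition, ← Category.assoc, ht, Category.assoc]
      exact congrArg (u₀ ≫ ·) (Sigma.ι_desc a d)
    let l : ∀ {t : T ⟶ pullback f A}, (g ≫ t) ≫ pullback.snd f A = u₀ ≫ Sigma.ι U d →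
        (pullback (t₀ ≫ pullback.snd f A) ((sigmaOpenCover U).f d) ⟶ 𝒰.X d) := fun {t} ht =>
      pullback.lift ((g ≫ t) ≫ pullback.fst f A) u₀ ((hf ht).trans (congrArg (u₀ ≫ ·) (hιA d).symm))
    have hl : ∀ {t : T ⟶ pullback f A} (ht : (g ≫ t) ≫ pullback.snd f A = u₀ ≫ Sigma.ι U d),
        l ht ≫ 𝒰.f d = g ≫ t ∧ l ht ≫ k d ≫ pullback.snd f (a d) = u₀ := fun {t} ht => by
      refine ⟨pullback.hom_ext ?_ ?_, ?_⟩
      · simp [l, 𝒰, Scheme.Pullback.openCoverOfRight]
      · rw [Category.assoc, hk₂]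
        refine Eq.trans ?_ ht.symm
        simp [l, k]
      · simp [l, k]
    have hσl : ∀ {t : T ⟶ pullback f A} (ht : (g ≫ t) ≫ pullback.snd f A = u₀ ≫ Sigma.ι U d),
        g ≫ t ≫ τ = (l ht ≫ k d) ≫ σ d := fun {t} ht => by
      rw [← Category.assoc, ← (hl ht).1, Category.assoc, hτ, ← Category.assoc]
    have hfst : ∀ {t : T ⟶ pullback f A} (ht : (g ≫ t) ≫ pullback.snd f A = u₀ ≫ Sigma.ι U d),
        (l ht ≫ k d) ≫ pullback.fst f (a d) = g ≫ t ≫ pullback.fst f A := fun {t} ht => by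
      rw [Category.assoc, hk₁, ← Category.assoc, (hl ht).1, Category.assoc]
    have key := (hσ d).compat (l hu₀ ≫ k d) (l hu₁ ≫ k d) (by
      rw [Category.assoc, Category.assoc, (hl hu₀).2, (hl hu₁).2])
    show g ≫ tr D _ _ _ = g ≫ t₁ ≫ τ
    refine (comp_tr D g (hfst hu₁).symm (hσl hu₀)).trans (key.trans (hσl hu₁).symm)
  · obtain ⟨p, hp⟩ := hd d
    obtain ⟨z, hz⟩ : ∃ z, k d z = p := (inferInstance : Surjective (k d)).surj p
    refine ⟨𝒰.f d z, ?_⟩
    rw [← Scheme.Hom.comp_apply, hτ, Scheme.Hom.comp_apply, hz, hp]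

section Quotient

variable {U₁ : Scheme.{u}} {A : U₁ ⟶ S} {σ : pullback f A ⟶ D.obj.left}

/-- the scheme descending a datum with a surjective compatible section -/
theorem exists_of_sec [Etale D.obj.hom] [IsSeparated D.obj.hom] [Etale A] (hf : SGA1.UnivSubmersive f)
    (hσ : SecCompat D A σ) (hs : Surjective σ) :
    ∃ U : Over S, Etale U.hom ∧ IsSeparated U.hom ∧ Nonempty ((Desc.toDD f).obj U ≅ D) := by
  let π₀ := D.obj.hom
  let w := pullback.fst A A ≫ A
  let P := pullback f w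
  let q : P ⟶ pullback A A := pullback.snd f w
  let j₁ : P ⟶ pullback f A := pullback.lift (pullback.fst f w) (q ≫ pullback.fst A A)
    ((pullback.condition).trans (Category.assoc _ _ _).symm)
  let j₂ : P ⟶ pullback f A := pullback.lift (pullback.fst f w) (q ≫ pullback.snd A A)
    (pullback.condition.trans ((congrArg (q ≫ ·) pullback.condition).trans (Category.assoc _ _ _).symm))
  have hσ₁ : (j₁ ≫ σ) ≫ π₀ = pullback.fst f w := (hσ.comp_lies j₁).trans (pullback.lift_fst _ _ _)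
  have hσ₂ : (j₂ ≫ σ) ≫ π₀ = pullback.fst f w := (hσ.comp_lies j₂).trans (pullback.lift_fst _ _ _)
  let Z : Set P := EtaleSections.eqLocus π₀ (j₁ ≫ σ) (j₂ ≫ σ) (hσ₁.trans hσ₂.symm)
  have hq : Topology.IsQuotientMap q := isQuotientMap_subm (subm_snd w hf)
  have hsat : q ⁻¹' (q '' Z) = Z := by
    refine Set.Subset.antisymm ?_ (Set.subset_preimage_image q Z)
    rintro z' ⟨z, hz, hzz⟩
    obtain ⟨v, hv₁, hv₂⟩ := Scheme.Pullback.exists_preimage_pullback (f := q) (g := q) z z' hzz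
    let τ := (pullback q q).fromSpecResidueField v
    let t := τ ≫ pullback.fst q q
    let t' := τ ≫ pullback.snd q q
    have ht : t ≫ j₁ ≫ σ = t ≫ j₂ ≫ σ := by
      refine EtaleSections.eq_of_range_subset_eqLocus π₀ _ _ (hσ₁.trans hσ₂.symm) t ?_
      rintro _ ⟨o, rfl⟩
      show t o ∈ Z
      rw [show t o = z by rw [Scheme.Hom.comp_apply, Scheme.fromSpecResidueField_apply]; exact hv₁]
      exact hz
    have hj : ∀ (j : P ⟶ pullback f A) (pr : pullback A A ⟶ U₁), j ≫ pullback.snd f A = q ≫ pr →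
        (t ≫ j) ≫ pullback.snd f A = (t' ≫ j) ≫ pullback.snd f A := fun j pr e => by
      simp only [t, t', Category.assoc, e, pullback.condition_assoc]
    have hj' : (t' ≫ j₁) ≫ pullback.fst f A = (t' ≫ j₂) ≫ pullback.fst f A := by
      simp [j₁, j₂]
    have ht' : t' ≫ j₁ ≫ σ = t' ≫ j₂ ≫ σ := by
      rw [← Category.assoc, ← Category.assoc, ← hσ.compat _ _ (hj j₁ _ (pullback.lift_snd _ _ _)),
        ← hσ.compat _ _ (hj j₂ _ (pullback.lift_snd _ _ _))]
      exact tr_congr D hj' ((Category.assoc _ _ _).trans (ht.trans (Category.assoc _ _ _).symm))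
    have := EtaleSections.range_subset_eqLocus π₀ _ _ (hσ₁.trans hσ₂.symm) t' ht'
    refine this ⟨IsLocalRing.closedPoint _, ?_⟩
    show t' _ = z'
    rw [Scheme.Hom.comp_apply, Scheme.fromSpecResidueField_apply]
    exact hv₂
  let E : (pullback A A).Opens := ⟨q '' Z, hq.isOpen_preimage.mp (by
    rw [hsat]; exact EtaleSections.isOpen_eqLocus _ _ _ _)⟩
  have hEc : IsClosed (E : Set ↥(pullback A A)) := hq.isClosed_preimage.mp (by
    show IsClosed (q ⁻¹' (q '' Z)); rw [hsat]; exact EtaleSections.isClosed_eqLocus _ _ _ _)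
  -- the relation in terms of sections
  have hiff : ∀ {K : Type u} [Field K] (x y : Spec (CommRingCat.of K) ⟶ U₁) (h : x ≫ A = y ≫ A)
      {L : Type u} [Field L] (k : Spec (CommRingCat.of L) ⟶ Spec (CommRingCat.of K))
      (ξ : Spec (CommRingCat.of L) ⟶ X) (hx : ξ ≫ f = (k ≫ x) ≫ A) (hy : ξ ≫ f = (k ≫ y) ≫ A),
      RelPt A E x y ↔ pullback.lift ξ (k ≫ x) hx ≫ σ = pullback.lift ξ (k ≫ y) hy ≫ σ := by
    intro K _ x y h L _ k ξ hx hy
    let p : Spec (CommRingCat.of L) ⟶ P := pullback.lift ξ (k ≫ pullback.lift x y h) (by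
      rw [hx]; simp [w])
    have hp₁ : p ≫ j₁ = pullback.lift ξ (k ≫ x) hx := by apply pullback.hom_ext <;> simp [p, j₁, q]
    have hp₂ : p ≫ j₂ = pullback.lift ξ (k ≫ y) hy := by apply pullback.hom_ext <;> simp [p, j₂, q]
    have hpq : q (p default) = pullback.lift x y h default := by
      rw [← Scheme.Hom.comp_apply, show p ≫ q = k ≫ pullback.lift x y h from pullback.lift_snd _ _ _, field_apply]
    rw [← hp₁, ← hp₂, Category.assoc, Category.assoc]
    constructor
    · rintro ⟨_, hE⟩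
      refine EtaleSections.eq_of_range_subset_eqLocus π₀ _ _ (hσ₁.trans hσ₂.symm) p ?_
      rintro _ ⟨o, rfl⟩
      rw [Subsingleton.elim o default]
      show p default ∈ Z
      rw [← hsat, Set.mem_preimage, hpq]
      exact hE default
    · intro e
      refine ⟨h, fun o => ?_⟩
      rw [Subsingleton.elim o default, ← hpq]
      exact ⟨p default, EtaleSections.range_subset_eqLocus π₀ _ _ (hσ₁.trans hσ₂.symm) p e ⟨default, rfl⟩, rfl⟩
  haveI := surjective_subm hf
  obtain ⟨Q, π, b, hπb, hbe, hbs, hπe, hπs, sq⟩ := exists_quotient A E hEc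
    (fun K _ x => by
      obtain ⟨L, _, k, ξ, hξ, -, -⟩ := exists_field_point f (x ≫ A)
      have hx : ξ ≫ f = (k ≫ x) ≫ A := hξ.trans (Category.assoc _ _ _).symm
      exact (hiff x x rfl k ξ hx hx).2 rfl)
    (fun K _ x y hr => by
      obtain ⟨L, _, k, ξ, hξ, -, -⟩ := exists_field_point f (x ≫ A)
      have hx : ξ ≫ f = (k ≫ x) ≫ A := hξ.trans (Category.assoc _ _ _).symm
      have hy : ξ ≫ f = (k ≫ y) ≫ A := hx.trans (by rw [Category.assoc, hr.1, Category.assoc])
      exact (hiff y x hr.1.symm k ξ hy hx).2 ((hiff x y hr.1 k ξ hx hy).1 hr).symm)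
    (fun K _ x y z hr hr' => by
      obtain ⟨L, _, k, ξ, hξ, -, -⟩ := exists_field_point f (x ≫ A)
      have hx : ξ ≫ f = (k ≫ x) ≫ A := hξ.trans (Category.assoc _ _ _).symm
      have hy : ξ ≫ f = (k ≫ y) ≫ A := hx.trans (by rw [Category.assoc, hr.1, Category.assoc])
      have hz : ξ ≫ f = (k ≫ z) ≫ A := hy.trans (by rw [Category.assoc, hr'.1, Category.assoc])
      exact (hiff x z (hr.1.trans hr'.1) k ξ hx hz).2
        (((hiff x y hr.1 k ξ hx hy).1 hr).trans ((hiff y z hr'.1 k ξ hy hz).1 hr')))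
  let π' : pullback f A ⟶ pullback f b := pullback.lift (pullback.fst f A) (pullback.snd f A ≫ π) (by
    rw [Category.assoc, hπb, pullback.condition])
  have hπ'₁ : π' ≫ pullback.fst f b = pullback.fst f A := pullback.lift_fst _ _ _
  have hπ'₂ : π' ≫ pullback.snd f b = pullback.snd f A ≫ π := pullback.lift_snd _ _ _
  have sqπ : IsPullback π' (pullback.snd f A) (pullback.snd f b) π := by
    refine IsPullback.of_right ?_ hπ'₂ (IsPullback.of_hasPullback f b)
    rw [hπ'₁, hπb]; exact IsPullback.of_hasPullback f A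
  haveI : Etale π' := MorphismProperty.of_isPullback (P := @Etale) sqπ.flip hπe
  haveI : Surjective π' := MorphismProperty.of_isPullback (P := @Surjective) sqπ.flip hπs
  obtain ⟨ψ, ⟨hψ₁, hψ₂⟩, -⟩ := exists_desc (Purity.univSubmersive_of_universallyOpen π')
    (pullback.fst f b) π₀ σ (by rw [hπ'₁]; exact hσ.lies) fun {T} t₁ t₂ e => by
      have e₁ : t₁ ≫ pullback.fst f A = t₂ ≫ pullback.fst f A := by rw [← hπ'₁, reassoc_of% e]
      have e₂ : (t₁ ≫ pullback.snd f A) ≫ π = (t₂ ≫ pullback.snd f A) ≫ π := by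
        simp only [Category.assoc, ← hπ'₂, reassoc_of% e]
      let r := sq.lift _ _ e₂
      let l : T ⟶ P := pullback.lift (t₁ ≫ pullback.fst f A) (r ≫ E.ι) (by
        calc (t₁ ≫ pullback.fst f A) ≫ f = (t₁ ≫ pullback.snd f A) ≫ A := by
              rw [Category.assoc, pullback.condition, Category.assoc]
          _ = (r ≫ E.ι ≫ pullback.fst A A) ≫ A := congrArg (· ≫ A) (sq.lift_fst _ _ e₂).symm
          _ = (r ≫ E.ι) ≫ w := by simp only [w, Category.assoc])
      have hl₁ : l ≫ j₁ = t₁ := by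
        apply pullback.hom_ext
        · simp [l, j₁]
        · simp only [l, j₁, q, Category.assoc, pullback.lift_snd, pullback.lift_snd_assoc]
          exact sq.lift_fst _ _ _
      have hl₂ : l ≫ j₂ = t₂ := by
        apply pullback.hom_ext
        · simp [l, j₂, e₁]
        · simp only [l, j₂, q, Category.assoc, pullback.lift_snd, pullback.lift_snd_assoc]
          exact sq.lift_snd _ _ _
      rw [← hl₁, ← hl₂, Category.assoc, Category.assoc]
      refine EtaleSections.eq_of_range_subset_eqLocus π₀ _ _ (hσ₁.trans hσ₂.symm) l ?_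
      rintro _ ⟨o, rfl⟩
      show l o ∈ Z
      rw [← hsat, Set.mem_preimage, ← Scheme.Hom.comp_apply,
        show l ≫ q = r ≫ E.ι from pullback.lift_snd _ _ _, Scheme.Hom.comp_apply]
      exact (r o).2
  haveI : Etale ψ := by
    haveI : Etale (ψ ≫ π₀) := by rw [hψ₁]; infer_instance
    exact Etale.of_comp ψ π₀
  haveI : Surjective ψ := by
    haveI : Surjective (π' ≫ ψ) := by rw [hψ₂]; exact hs
    exact Surjective.of_comp π' ψ
  haveI : UniversallyInjective ψ := by
    rw [UniversallyInjective.iff_diagonal]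
    refine ⟨fun z => ?_⟩
    let τ := (pullback ψ ψ).fromSpecResidueField z
    let t₁ := τ ≫ pullback.fst ψ ψ
    let t₂ := τ ≫ pullback.snd ψ ψ
    have hψt : t₁ ≫ ψ = t₂ ≫ ψ := by simp only [t₁, t₂, Category.assoc, pullback.condition]
    have ht₁₂ : t₁ = t₂ := by
      have hfst : t₁ ≫ pullback.fst f b = t₂ ≫ pullback.fst f b := by
        rw [← hψ₁, reassoc_of% hψt]
      apply pullback.hom_ext hfst
      obtain ⟨L, _, k, l₁, hl₁, hk, -⟩ := exists_field_point π' t₁
      obtain ⟨M, _, k', l₂, hl₂, hk', -⟩ := exists_field_point π' (k ≫ t₂)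
      let x := (k' ≫ l₁) ≫ pullback.snd f A
      let y := l₂ ≫ pullback.snd f A
      let ξ := l₂ ≫ pullback.fst f A
      have hξ₁ : (k' ≫ l₁) ≫ pullback.fst f A = ξ := by
        simp only [ξ, ← hπ'₁, Category.assoc, reassoc_of% hl₁, reassoc_of% hl₂, hfst]
      have hxy : x ≫ A = y ≫ A := by
        simp only [x, y, Category.assoc, ← pullback.condition]
        rw [← Category.assoc l₁, ← Category.assoc k', ← Category.assoc k' l₁, hξ₁]
        simp only [ξ, Category.assoc]
      have hx : ξ ≫ f = (𝟙 _ ≫ x) ≫ A := by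
        rw [Category.id_comp, hxy]; simp only [ξ, y, Category.assoc, pullback.condition]
      have hy : ξ ≫ f = (𝟙 _ ≫ y) ≫ A := by
        rw [Category.id_comp]; simp only [ξ, y, Category.assoc, pullback.condition]
      have elx : pullback.lift ξ (𝟙 _ ≫ x) hx = k' ≫ l₁ := by
        apply pullback.hom_ext
        · rw [pullback.lift_fst, hξ₁]
        · simp [x]
      have ely : pullback.lift ξ (𝟙 _ ≫ y) hy = l₂ := by
        apply pullback.hom_ext <;> simp [ξ, y]
      have hr : RelPt A E x y := (hiff x y hxy (𝟙 _) ξ hx hy).2 (by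
        rw [elx, ely, ← hψ₂]
        simp only [Category.assoc, reassoc_of% hl₁, reassoc_of% hl₂, hψt])
      obtain ⟨h, hE⟩ := hr
      let r := IsOpenImmersion.lift E.ι (pullback.lift x y h) (by
        rintro _ ⟨o, rfl⟩; rw [Scheme.Opens.range_ι]; exact hE o)
      have hxr : r ≫ E.ι ≫ pullback.fst A A = x := by
        rw [← Category.assoc, IsOpenImmersion.lift_fac, pullback.lift_fst]
      have hyr : r ≫ E.ι ≫ pullback.snd A A = y := by
        rw [← Category.assoc, IsOpenImmersion.lift_fac, pullback.lift_snd]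
      have hπxy : x ≫ π = y ≫ π := by
        rw [← hxr, ← hyr]; simp only [Category.assoc]
        exact congrArg (r ≫ ·) (by simpa only [Category.assoc] using sq.w)
      rw [← cancel_epi k, ← cancel_epi k']
      simp only [x, y, Category.assoc, ← hπ'₂] at hπxy
      simpa only [Category.assoc, reassoc_of% hl₁, reassoc_of% hl₂] using hπxy
    refine ⟨pullback.fst ψ ψ z, ?_⟩
    have hd : t₁ ≫ pullback.diagonal ψ = τ := by
      apply pullback.hom_ext
      · simp [t₁]
      · simp only [Category.assoc, pullback.diagonal_snd, Category.comp_id]; rw [ht₁₂]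
    have := congr($hd (IsLocalRing.closedPoint _))
    rw [Scheme.Hom.comp_apply, Scheme.Hom.comp_apply] at this
    simpa [τ, Scheme.fromSpecResidueField_apply] using this
  haveI := EtaleSections.isOpenImmersion_of_etale_universallyInjective ψ
  haveI : IsIso ψ := by
    haveI : Epi ψ.base := (TopCat.epi_iff_surjective _).mpr ‹Surjective ψ›.surj
    exact IsOpenImmersion.isIso ψ
  let m : (Desc.toDD f).obj (Over.mk b) ⟶ D := ⟨Over.homMk ψ hψ₁, fun T x₀ x₁ h v v' hv' => by
    let u' := v.1 ≫ pullback.snd f b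
    let g := pullback.fst u' π
    have hgu : g ≫ u' = pullback.snd u' π ≫ π := pullback.condition
    haveI : Surjective g := inferInstance
    have hv₁ : v.1 ≫ pullback.fst f b = x₀ := v.2
    have hφ : ((((Desc.toDD f).obj (Over.mk b)).φ x₀ x₁ h) v).1 ≫ pullback.fst f b = x₁ :=
      ((((Desc.toDD f).obj (Over.mk b)).φ x₀ x₁ h) v).2
    have hφ₂ : ((((Desc.toDD f).obj (Over.mk b)).φ x₀ x₁ h) v).1 ≫ pullback.snd f b = u' :=
      pullback.lift_snd _ _ _
    show (D.φ x₀ x₁ h v').1 = ((((Desc.toDD f).obj (Over.mk b)).φ x₀ x₁ h) v).1 ≫ ψ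
    generalize ((((Desc.toDD f).obj (Over.mk b)).φ x₀ x₁ h) v).1 = z at hφ hφ₂ ⊢
    obtain ⟨v'', hv''⟩ := v'
    change v'' = v.1 ≫ ψ at hv'
    subst hv'
    refine (phi_eq_tr D x₀ x₁ h _ hv'').trans ?_
    refine desc_ext g π₀ ((tr_over D _ _ _).trans ?_) ?_
    · exact hφ.symm.trans ((congrArg (z ≫ ·) hψ₁.symm).trans (Category.assoc _ _ _).symm)
    have hc : ∀ (x : T ⟶ X) (z : T ⟶ pullback f b), z ≫ pullback.fst f b = x → z ≫ pullback.snd f b = u' →
        ∃ t : pullback u' π ⟶ pullback f A, t ≫ π' = g ≫ z ∧ t ≫ pullback.snd f A = pullback.snd u' π := by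
      intro x z hz₁ hz₂
      refine ⟨sqπ.lift (g ≫ z) (pullback.snd u' π) ?_, sqπ.lift_fst _ _ _, sqπ.lift_snd _ _ _⟩
      rw [Category.assoc, hz₂, hgu]
    obtain ⟨t₀, ht₀, ht₀'⟩ := hc x₀ v.1 hv₁ rfl
    obtain ⟨t₁, ht₁, ht₁'⟩ := hc x₁ z hφ hφ₂
    have e₀ : g ≫ v.1 ≫ ψ = t₀ ≫ σ := by rw [← hψ₂, reassoc_of% ht₀]
    have e₁ : g ≫ z ≫ ψ = t₁ ≫ σ := by rw [← hψ₂, reassoc_of% ht₁]
    refine (comp_tr D g ?_ e₀).trans ((hσ.compat t₀ t₁ (ht₀'.trans ht₁'.symm)).trans e₁.symm)
    rw [← hπ'₁, reassoc_of% ht₁, hφ]⟩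
  haveI : IsIso m.hom.left := inferInstanceAs (IsIso ψ)
  exact ⟨Over.mk b, hbe, hbs, nonempty_iso_of_isIso m⟩

end Quotient

/-- **effectivity from compatible sections** -/
theorem exists_effective [Etale D.obj.hom] [IsSeparated D.obj.hom] (hf : SGA1.UnivSubmersive f)
    (H : HasSec D) : ∃ U : Over S, Etale U.hom ∧ IsSeparated U.hom ∧ Nonempty ((Desc.toDD f).obj U ≅ D) := by
  obtain ⟨U₁, A, _, σ, hσ, hs⟩ := exists_surjective_sec H
  exact exists_of_sec hf hσ hs

/-- the quasi-compact case -/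
theorem exists_effective_qc [Etale D.obj.hom] [IsSeparated D.obj.hom] [QuasiCompact D.obj.hom] [QuasiCompact f]
    (hf : SGA1.UnivSubmersive f) (H : HasSec D) :
    ∃ U : Over S, QuasiCompact U.hom ∧ IsSeparated U.hom ∧ Etale U.hom ∧ Nonempty ((Desc.toDD f).obj U ≅ D) := by
  obtain ⟨U, he, hs, ⟨e⟩⟩ := exists_effective hf H
  haveI := surjective_subm hf
  haveI : IsIso e.hom.hom := ⟨e.inv.hom, congrArg (fun g => Desc.SchDD.Hom.hom g) e.hom_inv_id,
    congrArg (fun g => Desc.SchDD.Hom.hom g) e.inv_hom_id⟩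
  haveI : IsIso e.hom.hom.left := inferInstanceAs (IsIso ((Over.forget _).map e.hom.hom))
  haveI : QuasiCompact (pullback.fst f U.hom) := by
    rw [show pullback.fst f U.hom = e.hom.hom.left ≫ D.obj.hom from (Over.w e.hom.hom).symm]
    infer_instance
  exact ⟨U, quasiCompact_of_pullback f U.hom, hs, he, ⟨e⟩⟩

end Groth.Agent.EtDD
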