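import Groth.Agent.EtDD.Proper
import Groth.Agent.FlatBlowUp.Refine
import Groth.Agent.S9726

/-!
# Compatible sections along subtrusive morphisms of finite presentation
-/

set_option autoImplicit false
set_option backward.isDefEq.respectTransparency false
set_option backward.isDefEq.respectTransparency.types false
set_option linter.style.haveILetI false

universe u

open CategoryTheory CategoryTheory.Limits AlgebraicGeometry Topology

noncomputable section

namespace Groth.Agent.EtDD

theorem subm_of_comp {X Y Z : Scheme.{u}} {k : X ⟶ Y} {f : Y ⟶ Z} (h : SGA1.UnivSubmersive (k ≫ f)) :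
    SGA1.UnivSubmersive f := by
  intro Y' Z' a b f' H
  let c := pullback.fst b (k ≫ f)
  let p := pullback.snd b (k ≫ f)
  let l := H.lift c (p ≫ k) (by rw [Category.assoc]; exact pullback.condition)
  have hl : l ≫ f' = c := H.lift_fst _ _ _
  have hq : IsQuotientMap c := h _ _ _ (IsPullback.of_hasPullback b (k ≫ f))
  have e : (c : ↥(pullback b (k ≫ f)) → Z') = f' ∘ l := by
    rw [← hl]; exact funext fun x => Scheme.Hom.comp_apply _ _ x
  show IsQuotientMap (f' : Y' → Z')
  rw [e] at hq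
  exact IsQuotientMap.of_comp l.continuous f'.continuous hq

/-- universally submersive is local on the target -/
theorem subm_of_local {X S : Scheme.{u}} (f : X ⟶ S)
    (H : ∀ s : S, ∃ O : S.Opens, s ∈ O ∧ SGA1.UnivSubmersive (pullback.snd f O.ι)) : SGA1.UnivSubmersive f := by
  choose O hO hf using H
  intro X' S' b a f' sq
  have sq' : IsPullback b f' f a := sq.flip
  show IsQuotientMap (f' : X' → S')
  have key : ∀ t : S', IsQuotientMap (f' ∣_ (a ⁻¹ᵁ O (a t))) := fun t => by
    have h1 := (isPullback_morphismRestrict f' (a ⁻¹ᵁ O (a t))).flip.paste_horiz sq'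
    rw [← morphismRestrict_ι a (O (a t))] at h1
    let l := pullback.lift (f := f) (g := (O (a t)).ι) ((f' ⁻¹ᵁ (a ⁻¹ᵁ O (a t))).ι ≫ b)
      ((f' ∣_ (a ⁻¹ᵁ O (a t))) ≫ (a ∣_ O (a t))) (by rw [Category.assoc (f' ∣_ _)]; exact h1.w)
    have h2 : IsPullback l (f' ∣_ (a ⁻¹ᵁ O (a t))) (pullback.snd f (O (a t)).ι) (a ∣_ O (a t)) :=
      IsPullback.of_right (by rw [pullback.lift_fst]; exact h1) (pullback.lift_snd _ _ _) (IsPullback.of_hasPullback _ _)
    exact SubDescent.isQuotientMap_of_univSubmersive (hf (a t)) h2.flip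
  refine ⟨isCoinducing_iff.mpr fun E => ⟨fun hE => isOpen_iff_forall_mem_open.mpr fun t ht => ?_,
    fun hE => hE.preimage f'.continuous⟩, fun t => ?_⟩
  · let V := a ⁻¹ᵁ O (a t)
    have h1 : IsOpen ((f' ∣_ V) ⁻¹' (V.ι ⁻¹' E)) := by
      rw [← Set.preimage_comp, show (V.ι ∘ (f' ∣_ V) : _ → S') = f' ∘ (f' ⁻¹ᵁ V).ι by
        funext x; rw [Function.comp_apply, Function.comp_apply, ← Scheme.Hom.comp_apply, morphismRestrict_ι, Scheme.Hom.comp_apply],
        Set.preimage_comp]
      exact hE.preimage (f' ⁻¹ᵁ V).ι.continuous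
    have h2 : IsOpen (V.ι ⁻¹' E) := (key t).isOpen_preimage.mp h1
    obtain ⟨v, hv⟩ := (Scheme.Opens.range_ι V).ge (show t ∈ V from hO (a t))
    exact ⟨V.ι '' (V.ι ⁻¹' E), Set.image_preimage_subset _ _, V.ι.isOpenEmbedding.isOpenMap _ h2,
      v, by rw [Set.mem_preimage, hv]; exact ht, hv⟩
  · let V := a ⁻¹ᵁ O (a t)
    obtain ⟨v, hv⟩ := (Scheme.Opens.range_ι V).ge (show t ∈ V from hO (a t))
    obtain ⟨w, hw⟩ := (key t).surjective v
    refine ⟨(f' ⁻¹ᵁ V).ι w, ?_⟩
    rw [← Scheme.Hom.comp_apply, ← morphismRestrict_ι, Scheme.Hom.comp_apply, hw, hv]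

theorem exists_affine_nhd {S : Scheme.{u}} (s : S) : ∃ O : S.Opens, IsAffineOpen O ∧ s ∈ O := by
  obtain ⟨O, hO, hs, -⟩ := TopologicalSpace.Opens.isBasis_iff_nbhd.mp S.isBasis_affineOpens
    (U := (⊤ : S.Opens)) (show s ∈ (⊤ : S.Opens) from trivial)
  exact ⟨O, hO, hs⟩

theorem hasSecAll_fppf {X S : Scheme.{u}} (f : X ⟶ S) [Flat f] [Surjective f] [LocallyOfFinitePresentation f] :
    HasSecAll f := by
  intro D hDe hDs
  haveI := FpqcDescent.locallyQuasiFinite_of_etale D.obj.hom
  obtain ⟨U, ⟨e⟩⟩ := Groth.Agent.S9726.result f D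
  haveI : IsIso e.hom.hom := ⟨e.inv.hom, congrArg (fun g => Desc.SchDD.Hom.hom g) e.hom_inv_id,
    congrArg (fun g => Desc.SchDD.Hom.hom g) e.inv_hom_id⟩
  haveI : IsIso e.hom.hom.left := inferInstanceAs (IsIso ((Over.forget _).map e.hom.hom))
  have hP : Etale (pullback.fst f U.hom) := by
    rw [show pullback.fst f U.hom = e.hom.hom.left ≫ D.obj.hom from (Over.w e.hom.hom).symm]
    exact (MorphismProperty.cancel_left_of_respectsIso @Etale e.hom.hom.left D.obj.hom).2 hDe
  haveI : Etale U.hom := MorphismProperty.of_pullback_fst_of_descendsAlong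
    (Q := @Surjective ⊓ @Flat ⊓ @LocallyOfFinitePresentation) ⟨⟨‹_›, ‹_›⟩, ‹_›⟩ hP
  exact hasSec_of_effective U e

theorem hasSecAll_of_refine {X Y S : Scheme.{u}} (f : X ⟶ S) (k : Y ⟶ X) (hk : SGA1.UnivSubmersive (k ≫ f))
    (H : HasSecAll (k ≫ f)) : HasSecAll f := fun D hDe hDs =>
  haveI := hDe
  haveI := hDs
  hasSec_of_refine D k hk (H _ inferInstance inferInstance)

theorem hasSecQC_of_refine {X Y S : Scheme.{u}} (f : X ⟶ S) (k : Y ⟶ X) (hk : SGA1.UnivSubmersive (k ≫ f))
    (H : HasSecQC (k ≫ f)) : HasSecQC f := fun D hDe hDs hDq =>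
  haveI := hDe
  haveI := hDs
  haveI := hDq
  hasSec_of_refine D k hk (H _ inferInstance inferInstance inferInstance)

theorem subtr_fp_affine {X S : Scheme.{u}} [IsAffine S] (f : X ⟶ S) [LocallyOfFinitePresentation f] [QuasiCompact f]
    [QuasiSeparated f] (hf : Subtr.UnivSSubtrusive f) : SGA1.UnivSubmersive f ∧ HasSecAll f := by
  obtain ⟨Y', q, X', r, _, _, _, _, -, _, _, _, _, _⟩ := FlatBlowUp.exists_refinement f (Or.inl ‹_›) hf
  let f' := r ≫ pullback.snd f q
  let k := r ≫ pullback.fst f q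
  have hkf : k ≫ f = f' ≫ q := by simp only [k, f', Category.assoc, pullback.condition]
  have h₁ : SGA1.UnivSubmersive f' := Purity.univSubmersive_of_universallyOpen f'
  have h₂ : SGA1.UnivSubmersive q := Purity.univSubmersive_of_universallyClosed q
  have hk : SGA1.UnivSubmersive (k ≫ f) := hkf ▸ subm_comp h₁ h₂
  have H : HasSecAll (k ≫ f) := hkf ▸ hasSecAll_comp h₁ (hasSecAll_fppf f') (hasSecAll_proper q)
  exact ⟨subm_of_comp hk, hasSecAll_of_refine f k hk H⟩

theorem subm_of_subtr_fp {X S : Scheme.{u}} (f : X ⟶ S) [LocallyOfFinitePresentation f] [QuasiCompact f]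
    [QuasiSeparated f] (hf : Subtr.UnivSSubtrusive f) : SGA1.UnivSubmersive f := by
  refine subm_of_local f fun s => ?_
  obtain ⟨O, hO, hs⟩ := exists_affine_nhd s
  haveI : IsAffine (O : Scheme.{u}) := hO
  exact ⟨O, hs, (subtr_fp_affine (pullback.snd f O.ι)
    ((MorphismProperty.universally_isStableUnderBaseChange _).of_isPullback (IsPullback.of_hasPullback f O.ι) hf)).1⟩

theorem hasSecAll_subtr_fp {X S : Scheme.{u}} (f : X ⟶ S) [LocallyOfFinitePresentation f] [QuasiCompact f]
    [QuasiSeparated f] (hf : Subtr.UnivSSubtrusive f) : HasSecAll f := by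
  intro D hDe hDs
  refine hasSec_of_local D fun s => ?_
  obtain ⟨O, hO, hs⟩ := exists_affine_nhd s
  haveI : IsAffine (O : Scheme.{u}) := hO
  exact ⟨O, O.ι, inferInstance, (Scheme.Opens.range_ι O).ge hs, (subtr_fp_affine (pullback.snd f O.ι)
    ((MorphismProperty.universally_isStableUnderBaseChange _).of_isPullback (IsPullback.of_hasPullback f O.ι) hf)).2
      _ inferInstance inferInstance⟩

theorem univSSubtrusive_of_universallyClosed {X S : Scheme.{u}} (f : X ⟶ S) [UniversallyClosed f] [Surjective f] :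
    Subtr.UnivSSubtrusive f := by
  intro X' S' a b f' sq y y' hy
  haveI : UniversallyClosed f' := MorphismProperty.of_isPullback (P := @UniversallyClosed) sq.flip ‹_›
  haveI : Surjective f' := MorphismProperty.of_isPullback (P := @Surjective) sq.flip ‹_›
  obtain ⟨x', hx'⟩ := f'.surjective y'
  have hy' : y ∈ f' '' closure {x'} := by
    refine (IsClosed.closure_subset_iff (f'.isClosedMap _ isClosed_closure)).mpr ?_ hy.mem_closure
    rw [Set.singleton_subset_iff, ← hx']
    exact ⟨x', subset_closure rfl, rfl⟩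
  obtain ⟨x, hx, hxy⟩ := hy'
  exact ⟨x, x', specializes_iff_mem_closure.mpr hx, hxy, hx'⟩

end Groth.Agent.EtDD
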