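import Groth.Agent.EtDD.FP
import Groth.Prelude.Def_DescFam
import Groth.Agent.SubtrLib.ValLift

/-!
# Effectivity for one-member families over locally noetherian bases
-/

set_option autoImplicit false
set_option backward.isDefEq.respectTransparency false
set_option backward.isDefEq.respectTransparency.types false
set_option linter.style.haveILetI false

universe u

open CategoryTheory CategoryTheory.Limits AlgebraicGeometry

noncomputable section

namespace Groth.Agent.EtDD

/-- over a locally noetherian base universally submersive morphisms of finite type give effective descent -/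
theorem exists_effective_noeth {S S' : Scheme.{u}} [IsLocallyNoetherian S] (g : S' ⟶ S)
    (hg : SGA1.UnivSubmersive g) [LocallyOfFiniteType g] [QuasiCompact g]
    (D : Desc.SchDD g) [QuasiCompact D.obj.hom] [IsSeparated D.obj.hom] [Etale D.obj.hom] :
    ∃ U : Over S, QuasiCompact U.hom ∧ IsSeparated U.hom ∧ Etale U.hom ∧ Nonempty ((Desc.toDD g).obj U ≅ D) := by
  haveI : LocallyOfFinitePresentation g := LocallyOfFinitePresentation.iff_locallyOfFiniteType.mpr ‹_›
  haveI : IsLocallyNoetherian S' := LocallyOfFiniteType.isLocallyNoetherian g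
  haveI : QuasiSeparated g := inferInstance
  exact exists_effective_qc hg
    (hasSecAll_subtr_fp g (SubtrLib.univSSubtrusive_of_univSubmersive g hg) D ‹_› ‹_›)

/-- the same for a one-member family -/
theorem exists_effective_noeth_fam {S S' : Scheme.{u}} [IsLocallyNoetherian S] (g : S' ⟶ S)
    (hg : SGA1.UnivSubmersive g) [LocallyOfFiniteType g] [QuasiCompact g]
    (D : Desc.SchDDFam (fun _ : PUnit.{1} => g)) (hq : QuasiCompact (D.obj PUnit.unit).hom)
    (hs : IsSeparated (D.obj PUnit.unit).hom) (he : Etale (D.obj PUnit.unit).hom) :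
    ∃ U : Over S, Etale U.hom ∧ Nonempty ((Desc.toDDFam (fun _ : PUnit.{1} => g)).obj U ≅ D) := by
  haveI : QuasiCompact ((Desc.SchDDFam.toSchDD g).obj D).obj.hom := hq
  haveI : IsSeparated ((Desc.SchDDFam.toSchDD g).obj D).obj.hom := hs
  haveI : Etale ((Desc.SchDDFam.toSchDD g).obj D).obj.hom := he
  obtain ⟨U, -, -, hU, ⟨e⟩⟩ := exists_effective_noeth g hg ((Desc.SchDDFam.toSchDD g).obj D)
  exact ⟨U, hU, ⟨(Desc.SchDDFam.oneEquiv g).fullyFaithfulFunctor.preimageIso e⟩⟩

/-- effectivity of the base change -/
theorem exists_effective_noeth_pull {S S' S₁ : Scheme.{u}} [IsLocallyNoetherian S₁] (g : S' ⟶ S)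
    (hg : SGA1.UnivSubmersive g) [LocallyOfFiniteType g] [QuasiCompact g]
    (D : Desc.SchDDFam (fun _ : PUnit.{1} => g)) [Etale (D.obj PUnit.unit).hom]
    [QuasiCompact (D.obj PUnit.unit).hom] [IsSeparated (D.obj PUnit.unit).hom] (p : S₁ ⟶ S) :
    ∃ U : Over S₁, Etale U.hom ∧
      Nonempty ((Desc.toDDFam (fun _ : PUnit.{1} => pullback.snd g p)).obj U ≅
        (Desc.pullDDFam (f := fun _ : PUnit.{1} => g) (f' := fun _ : PUnit.{1} => pullback.snd g p)
          (α := id) (p := p) (p' := fun _ => pullback.fst g p) (fun _ => pullback.condition)).obj D) :=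
  exists_effective_noeth_fam (pullback.snd g p) (subm_snd p hg) _
    (inferInstanceAs (QuasiCompact (pullback.snd (D.obj PUnit.unit).hom (pullback.fst g p))))
    (inferInstanceAs (IsSeparated (pullback.snd (D.obj PUnit.unit).hom (pullback.fst g p))))
    (inferInstanceAs (Etale (pullback.snd (D.obj PUnit.unit).hom (pullback.fst g p))))

end Groth.Agent.EtDD
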