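import Groth.Agent.EtDD.Glue
import Groth.Agent.SchDescent.PullFam

/-!
# Base change of one-member family descent data
-/

set_option autoImplicit false
set_option backward.isDefEq.respectTransparency false
set_option backward.isDefEq.respectTransparency.types false
set_option linter.style.haveILetI false
set_option maxHeartbeats 1000000

universe u

open CategoryTheory CategoryTheory.Limits AlgebraicGeometry

noncomputable section

namespace Groth.Agent.EtDD

open Groth.Agent.SchDescent

variable {X S : Scheme.{u}} {f : X ⟶ S}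

/-- a morphism from a canonical datum is a compatible section -/
theorem secCompat_of_hom {D : Desc.SchDD f} {W : Over S} (m : (Desc.toDD f).obj W ⟶ D) :
    SecCompat D W.hom m.hom.left := by
  have hlies : m.hom.left ≫ D.obj.hom = pullback.fst f W.hom := Over.w m.hom
  refine ⟨hlies, fun T t₀ t₁ h => ?_⟩
  have hx : (t₀ ≫ pullback.fst f W.hom) ≫ f = (t₁ ≫ pullback.fst f W.hom) ≫ f := by
    simp only [Category.assoc, pullback.condition, reassoc_of% h]
  have key := m.comm (t₀ ≫ pullback.fst f W.hom) (t₁ ≫ pullback.fst f W.hom) hx ⟨t₀, rfl⟩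
    ⟨t₀ ≫ m.hom.left, by rw [Category.assoc, hlies]⟩ rfl
  rw [phi_eq_tr D] at key
  refine key.trans (congrArg (· ≫ m.hom.left) ?_)
  apply pullback.hom_ext
  · exact pullback.lift_fst _ _ _
  · exact (pullback.lift_snd _ _ _).trans h

variable {Y S₁ : Scheme.{u}} (k : Y ⟶ X) (f₁ : Y ⟶ S₁) (j : S₁ ⟶ S) (w : k ≫ f = f₁ ≫ j)

/-- pulled back family data are pulled back data -/
theorem nonempty_iso_pullDD (D : Desc.SchDDFam (fun _ : PUnit.{1} => f)) :
    Nonempty (pullDD ((Desc.SchDDFam.toSchDD f).obj D) k f₁ j w ≅ (Desc.SchDDFam.toSchDD f₁).obj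
      ((Desc.pullDDFam (f := fun _ : PUnit.{1} => f) (f' := fun _ : PUnit.{1} => f₁) (α := id) (p := j)
        (p' := fun _ => k) (fun _ => w)).obj D)) := by
  let P := pullDD ((Desc.SchDDFam.toSchDD f).obj D) k f₁ j w
  let Q := (Desc.SchDDFam.toSchDD f₁).obj
      ((Desc.pullDDFam (f := fun _ : PUnit.{1} => f) (f' := fun _ : PUnit.{1} => f₁) (α := id) (p := j)
        (p' := fun _ => k) (fun _ => w)).obj D)
  let m : P ⟶ Q := ⟨Over.homMk (𝟙 (pullback (D.obj PUnit.unit).hom k)) (Category.id_comp _), fun T x₀ x₁ h v v' hv' => by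
    obtain ⟨v, hv⟩ := v
    obtain ⟨v', hv''⟩ := v'
    change v' = v ≫ 𝟙 _ at hv'
    rw [Category.comp_id] at hv'
    subst hv'
    refine Eq.trans ?_ (Category.comp_id _).symm
    apply pullback.hom_ext
    · refine (pullback.lift_fst _ _ _).trans ?_
      refine Eq.trans ?_ (pullTr_fst ((Desc.SchDDFam.toSchDD f).obj D) k f₁ j w x₁ v' hv'' h).symm
      exact phi_eq_tr ((Desc.SchDDFam.toSchDD f).obj D) (x₀ ≫ k) (x₁ ≫ k) _ _ _
    · exact (pullback.lift_snd _ _ _).trans (pullTr_snd ((Desc.SchDDFam.toSchDD f).obj D) k f₁ j w x₁ v' hv'' h).symm⟩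
  haveI : IsIso m.hom.left := inferInstanceAs (IsIso (𝟙 _))
  exact nonempty_iso_of_isIso m

/-- canonical data pull back to canonical data -/
theorem nonempty_pull_toDDFam (W : Over S) :
    Nonempty ((Desc.toDDFam (fun _ : PUnit.{1} => f₁)).obj (Over.mk (pullback.fst j W.hom)) ≅
      (Desc.pullDDFam (f := fun _ : PUnit.{1} => f) (f' := fun _ : PUnit.{1} => f₁) (α := id) (p := j)
        (p' := fun _ => k) (fun _ => w)).obj ((Desc.toDDFam (fun _ : PUnit.{1} => f)).obj W)) := by
  let P := (Desc.toDDFam (fun _ : PUnit.{1} => f₁)).obj (Over.mk (pullback.fst j W.hom))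
  let Q := (Desc.pullDDFam (f := fun _ : PUnit.{1} => f) (f' := fun _ : PUnit.{1} => f₁) (α := id) (p := j)
    (p' := fun _ => k) (fun _ => w)).obj ((Desc.toDDFam (fun _ : PUnit.{1} => f)).obj W)
  let a : pullback f₁ (pullback.fst j W.hom) ⟶ pullback (pullback.fst f W.hom) k :=
    pullback.lift (pullback.lift (pullback.fst _ _ ≫ k) (pullback.snd _ _ ≫ pullback.snd j W.hom) (by
      rw [Category.assoc, w, pullback.condition_assoc, pullback.condition, Category.assoc]))
      (pullback.fst _ _) (pullback.lift_fst _ _ _)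
  let b : pullback (pullback.fst f W.hom) k ⟶ pullback f₁ (pullback.fst j W.hom) :=
    pullback.lift (pullback.snd _ _) (pullback.lift (pullback.snd _ _ ≫ f₁) (pullback.fst _ _ ≫ pullback.snd f W.hom) (by
      rw [Category.assoc, ← w, ← pullback.condition_assoc, Category.assoc, pullback.condition]))
      (pullback.lift_fst _ _ _).symm
  have hab : a ≫ b = 𝟙 _ := by
    apply pullback.hom_ext
    · simp [a, b]
    · apply pullback.hom_ext
      · simp [a, b, pullback.condition]
      · simp [a, b]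
  have hba : b ≫ a = 𝟙 _ := by
    apply pullback.hom_ext
    · apply pullback.hom_ext
      · simp [a, b, pullback.condition]
      · simp [a, b]
    · simp [a, b]
  let m : P ⟶ Q := ⟨fun _ => Over.homMk a (pullback.lift_snd _ _ _), fun T i i' x₀ x₁ h v v' hv' => by
    change v'.1 = v.1 ≫ a at hv'
    apply pullback.hom_ext
    · apply pullback.hom_ext
      · simp [P, Q, a, Desc.pullDDFam, Desc.pullDDFamObj, Desc.liftsPullbackEquiv, Desc.toDDFam, Desc.canonicalDDFam,
          hv']
      · simp [P, Q, a, Desc.pullDDFam, Desc.pullDDFamObj, Desc.liftsPullbackEquiv, Desc.toDDFam, Desc.canonicalDDFam,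
          hv']
    · simp [P, Q, a, Desc.pullDDFam, Desc.pullDDFamObj, Desc.liftsPullbackEquiv, Desc.toDDFam, Desc.canonicalDDFam,
        hv']⟩
  haveI : IsIso ((Desc.SchDDFam.toSchDD f₁).map m).hom.left := ⟨b, hab, hba⟩
  obtain ⟨e⟩ := nonempty_iso_of_isIso ((Desc.SchDDFam.toSchDD f₁).map m)
  exact ⟨(Desc.SchDDFam.oneEquiv f₁).fullyFaithfulFunctor.preimageIso e⟩

/-- base change of an effective datum -/
theorem nonempty_pull_of_iso (D : Desc.SchDDFam (fun _ : PUnit.{1} => f)) (W : Over S)
    (e : (Desc.toDDFam (fun _ : PUnit.{1} => f)).obj W ≅ D) :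
    Nonempty ((Desc.toDDFam (fun _ : PUnit.{1} => f₁)).obj (Over.mk (pullback.fst j W.hom)) ≅
      (Desc.pullDDFam (f := fun _ : PUnit.{1} => f) (f' := fun _ : PUnit.{1} => f₁) (α := id) (p := j)
        (p' := fun _ => k) (fun _ => w)).obj D) := by
  obtain ⟨e'⟩ := nonempty_pull_toDDFam k f₁ j w W
  exact ⟨e' ≪≫ (Desc.pullDDFam (f := fun _ : PUnit.{1} => f) (f' := fun _ : PUnit.{1} => f₁) (α := id) (p := j)
        (p' := fun _ => k) (fun _ => w)).mapIso e⟩

/-- an effective pulled back family datum, as pulled back datum -/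
theorem nonempty_toDD_pullDD (D : Desc.SchDDFam (fun _ : PUnit.{1} => f)) (W₁ : Over S₁)
    (e : (Desc.toDDFam (fun _ : PUnit.{1} => f₁)).obj W₁ ≅
      (Desc.pullDDFam (f := fun _ : PUnit.{1} => f) (f' := fun _ : PUnit.{1} => f₁) (α := id) (p := j)
        (p' := fun _ => k) (fun _ => w)).obj D) :
    Nonempty ((Desc.toDD f₁).obj W₁ ≅ pullDD ((Desc.SchDDFam.toSchDD f).obj D) k f₁ j w) := by
  obtain ⟨e'⟩ := nonempty_iso_pullDD k f₁ j w D
  exact ⟨(Desc.SchDDFam.toSchDD f₁).mapIso e ≪≫ e'.symm⟩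

/-- an effective datum as effective family datum -/
theorem nonempty_toDDFam_of_toDD (D : Desc.SchDDFam (fun _ : PUnit.{1} => f)) (W : Over S)
    (e : (Desc.toDD f).obj W ≅ (Desc.SchDDFam.toSchDD f).obj D) :
    Nonempty ((Desc.toDDFam (fun _ : PUnit.{1} => f)).obj W ≅ D) :=
  ⟨(Desc.SchDDFam.oneEquiv f).fullyFaithfulFunctor.preimageIso e⟩

/-- compatible sections do not depend on the spelling of the morphism -/
theorem hasSec_pullDD_congr (D : Desc.SchDD f) {f₁ f₁' : Y ⟶ S₁} (h : f₁ = f₁') (w : k ≫ f = f₁ ≫ j)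
    (w' : k ≫ f = f₁' ≫ j) (H : HasSec (pullDD D k f₁ j w)) : HasSec (pullDD D k f₁' j w') := by
  subst h; exact H

/-- over an open of the base: a bijective compatible section gives an open compatible section onto the preimage -/
theorem exists_open_sec (D : Desc.SchDD f) (V : S.Opens) (W : Over (V : Scheme.{u}))
    (e : (Desc.toDD (pullback.snd f V.ι)).obj W ≅
      pullDD D (pullback.fst f V.ι) (pullback.snd f V.ι) V.ι pullback.condition) :
    ∃ σ : pullback f (W.hom ≫ V.ι) ⟶ D.obj.left, SecCompat D (W.hom ≫ V.ι) σ ∧ IsOpenImmersion σ ∧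
      ∀ d : D.obj.left, f (D.obj.hom d) ∈ V → d ∈ Set.range σ := by
  let j := V.ι
  have hs := secCompat_of_hom e.hom
  let σ₁ : pullback (pullback.snd f j) W.hom ⟶ pullback D.obj.hom (pullback.fst f j) := e.hom.hom.left
  haveI : IsIso σ₁ := ⟨e.inv.hom.left, congrArg (fun g : (Desc.toDD (pullback.snd f j)).obj W ⟶
      (Desc.toDD (pullback.snd f j)).obj W => g.hom.left) e.hom_inv_id,
    congrArg (fun g : pullDD D (pullback.fst f j) (pullback.snd f j) j pullback.condition ⟶
      pullDD D (pullback.fst f j) (pullback.snd f j) j pullback.condition => g.hom.left) e.inv_hom_id⟩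
  let i : pullback f (W.hom ≫ j) ⟶ pullback (pullback.snd f j) W.hom :=
    pullback.lift (pullback.lift (pullback.fst _ _) (pullback.snd _ _ ≫ W.hom)
      (by rw [Category.assoc]; exact pullback.condition)) (pullback.snd _ _) (pullback.lift_snd _ _ _)
  let i' : pullback (pullback.snd f j) W.hom ⟶ pullback f (W.hom ≫ j) :=
    pullback.lift (pullback.fst _ _ ≫ pullback.fst f j) (pullback.snd (pullback.snd f j) W.hom) (by
      rw [Category.assoc, pullback.condition (f := f), ← Category.assoc, pullback.condition, Category.assoc])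
  have hi₁ : i ≫ pullback.fst (pullback.snd f j) W.hom ≫ pullback.fst f j = pullback.fst f (W.hom ≫ j) := by simp [i]
  have hlies : σ₁ ≫ pullback.snd D.obj.hom (pullback.fst f j) = pullback.fst (pullback.snd f j) W.hom := hs.lies
  haveI : IsIso i := ⟨i', by apply pullback.hom_ext <;> simp [i, i'], by
    apply pullback.hom_ext
    · apply pullback.hom_ext
      · simp [i, i']
      · simp [i, i', pullback.condition]
    · simp [i, i']⟩
  refine ⟨i ≫ σ₁ ≫ pullback.fst D.obj.hom (pullback.fst f j), ⟨?_, fun T t₀ t₁ h => ?_⟩, inferInstance, fun d hd => ?_⟩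
  · simp only [Category.assoc, pullback.condition]
    rw [reassoc_of% hlies]
    exact hi₁
  · have e' : (t₀ ≫ i) ≫ pullback.snd (pullback.snd f j) W.hom = (t₁ ≫ i) ≫ pullback.snd (pullback.snd f j) W.hom := by
      simpa [i] using h
    refine (tr_congr D ?_ (Category.assoc _ _ _).symm).trans
      ((pull_compat D _ _ _ _ hs (t₀ ≫ i) (t₁ ≫ i) e' (hh := pull_hh D _ _ _ _ hs (t₀ ≫ i) (t₁ ≫ i) e')).trans
        (Category.assoc _ _ _))
    simp only [Category.assoc]
    exact (congrArg (t₁ ≫ ·) hi₁).symm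
  · obtain ⟨x₁, hx₁, -⟩ := Scheme.Pullback.exists_preimage_pullback (f := f) (g := j) (D.obj.hom d) ⟨_, hd⟩ rfl
    obtain ⟨d₁, hd₁, -⟩ := Scheme.Pullback.exists_preimage_pullback (f := D.obj.hom) (g := pullback.fst f j) d x₁
      hx₁.symm
    obtain ⟨z, hz⟩ := (i ≫ σ₁).surjective d₁
    exact ⟨z, by rw [← Category.assoc, Scheme.Hom.comp_apply, hz, hd₁]⟩

end Groth.Agent.EtDD
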