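import Groth.Agent.EtDD.FamPull
import Mathlib.AlgebraicGeometry.Morphisms.LocalFlatDescent

/-!
# Quasi-compactness after base change
-/

set_option autoImplicit false
set_option backward.isDefEq.respectTransparency false
set_option backward.isDefEq.respectTransparency.types false
set_option linter.style.haveILetI false
set_option maxHeartbeats 1000000

universe u

open CategoryTheory CategoryTheory.Limits AlgebraicGeometry

noncomputable section

namespace Groth.Agent.EtDD

/-- faithfully flat quasi-compact morphisms are universally submersive -/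
theorem subm_of_fpqc {X Y : Scheme.{u}} (p : X ⟶ Y) [Flat p] [Surjective p] [QuasiCompact p] :
    SGA1.UnivSubmersive p := by
  intro X' Y' a b h H
  haveI : Flat h := MorphismProperty.of_isPullback (P := @Flat) H.flip ‹_›
  haveI : Surjective h := MorphismProperty.of_isPullback (P := @Surjective) H.flip ‹_›
  haveI : QuasiCompact h := MorphismProperty.of_isPullback (P := @QuasiCompact) H.flip ‹_›
  exact Flat.isQuotientMap_of_surjective h

/-- if the base change of an étale scheme has the canonical datum of a quasi-compact scheme it is quasi-compact -/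
theorem quasiCompact_of_iso {X S₁ S : Scheme.{u}} {g₁ : X ⟶ S₁} (hg₁ : SGA1.UnivSubmersive g₁) (p : S₁ ⟶ S)
    [Surjective p] [QuasiCompact p] (U : Over S) [Etale U.hom] (U₁ : Over S₁) (hq : QuasiCompact U₁.hom)
    (e : (Desc.toDD g₁).obj U₁ ≅ (Desc.toDD g₁).obj (Over.mk (pullback.fst p U.hom))) : QuasiCompact U.hom := by
  let V : Over S₁ := Over.mk (pullback.fst p U.hom)
  haveI : Etale V.hom := inferInstanceAs (Etale (pullback.fst p U.hom))
  let φ : pullback g₁ U₁.hom ⟶ pullback g₁ V.hom := e.hom.hom.left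
  let q := pullback.snd g₁ U₁.hom
  have hs := secCompat_of_hom e.hom
  have hlies : φ ≫ pullback.fst g₁ V.hom = pullback.fst g₁ U₁.hom := hs.lies
  have hover : (φ ≫ pullback.snd g₁ V.hom) ≫ V.hom = q ≫ U₁.hom := by
    rw [Category.assoc, ← pullback.condition, reassoc_of% hlies, pullback.condition]
  obtain ⟨v, ⟨hv₁, hv₂⟩, -⟩ := exists_desc (subm_snd U₁.hom hg₁) U₁.hom V.hom (φ ≫ pullback.snd g₁ V.hom) hover
    fun {T} t₀ t₁ h => by
      have key := congrArg (· ≫ pullback.snd g₁ V.hom) (hs.compat t₀ t₁ h)
      refine Eq.trans ?_ (key.trans (Category.assoc _ _ _))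
      exact ((pullback.lift_snd _ _ _).trans (Category.assoc _ _ _)).symm
  haveI : IsIso φ := ⟨e.inv.hom.left, congrArg (fun g : (Desc.toDD g₁).obj U₁ ⟶ (Desc.toDD g₁).obj U₁ => g.hom.left)
    e.hom_inv_id, congrArg (fun g : (Desc.toDD g₁).obj V ⟶ (Desc.toDD g₁).obj V => g.hom.left) e.inv_hom_id⟩
  haveI := surjective_subm (subm_snd V.hom hg₁)
  haveI : Surjective (q ≫ v) := by rw [hv₂]; infer_instance
  haveI : Surjective v := Surjective.of_comp q v
  haveI : QuasiCompact (v ≫ V.hom) := by rw [hv₁]; exact hq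
  haveI : QuasiCompact (pullback.fst p U.hom) := (quasiCompact_iff _).mpr fun O hO hc => by
    have h1 : IsCompact ((v ≫ V.hom) ⁻¹' O) := QuasiCompact.isCompact_preimage (f := v ≫ V.hom) O hO hc
    have h2 : (pullback.fst p U.hom : _ → _) ⁻¹' O = (v : _ → _) '' ((v ≫ V.hom) ⁻¹' O) := by
      rw [show ((v ≫ V.hom) ⁻¹' O) = (v : _ → _) ⁻¹' ((V.hom : _ → _) ⁻¹' O) from by
        ext x; simp [Scheme.Hom.comp_apply], Set.image_preimage_eq _ v.surjective]
      rfl
    rw [h2]
    exact h1.image v.continuous
  exact quasiCompact_of_pullback p U.hom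

end Groth.Agent.EtDD
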