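import Groth.Agent.EtDD.Transfer
import Groth.Agent.SchDescent.Refine
import Groth.Prelude.Def_DescFam

/-!
# Gluing effective étale descent data over an open covering of the base
-/

set_option autoImplicit false
set_option backward.isDefEq.respectTransparency false
set_option backward.isDefEq.respectTransparency.types false
set_option linter.style.haveILetI false
set_option maxHeartbeats 2000000

universe u

open CategoryTheory CategoryTheory.Limits AlgebraicGeometry

noncomputable section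

namespace Groth.Agent.EtDD

open Groth.Agent.SchDescent

variable {X S : Scheme.{u}} {f : X ⟶ S} {D : Desc.SchDD f}

/-- a bijective compatible section identifies the datum with the canonical one -/
theorem nonempty_iso_of_sec {U : Scheme.{u}} (a : U ⟶ S) (σ : pullback f a ⟶ D.obj.left)
    (hσ : SecCompat D a σ) [IsIso σ] : Nonempty ((Desc.toDD f).obj (Over.mk a) ≅ D) := by
  let m : (Desc.toDD f).obj (Over.mk a) ⟶ D := ⟨Over.homMk σ hσ.lies, fun T x₀ x₁ h v v' hv' => by
    have e₁ : ((((Desc.toDD f).obj (Over.mk a)).φ x₀ x₁ h) v).1 ≫ pullback.fst f a = x₁ :=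
      ((((Desc.toDD f).obj (Over.mk a)).φ x₀ x₁ h) v).2
    have e₂ : ((((Desc.toDD f).obj (Over.mk a)).φ x₀ x₁ h) v).1 ≫ pullback.snd f a = v.1 ≫ pullback.snd f a :=
      pullback.lift_snd _ _ _
    show (D.φ x₀ x₁ h v').1 = ((((Desc.toDD f).obj (Over.mk a)).φ x₀ x₁ h) v).1 ≫ σ
    generalize ((((Desc.toDD f).obj (Over.mk a)).φ x₀ x₁ h) v).1 = z at e₁ e₂ ⊢
    obtain ⟨v'', hv''⟩ := v'
    change v'' = v.1 ≫ σ at hv'
    subst hv'
    refine (phi_eq_tr D x₀ x₁ h _ hv'').trans ?_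
    exact (tr_congr D e₁.symm rfl).trans (hσ.compat v.1 z e₂.symm)⟩
  haveI : IsIso m.hom.left := inferInstanceAs (IsIso σ)
  exact nonempty_iso_of_isIso m

/-- a morphism into an open subscheme -/
theorem exists_lift_open {P Q R : Scheme.{u}} (σ : P ⟶ Q) [IsOpenImmersion σ] (w : R ⟶ Q)
    (h : ∀ r, w r ∈ Set.range σ) : ∃ w' : R ⟶ P, w' ≫ σ = w :=
  ⟨IsOpenImmersion.lift σ w (by rintro _ ⟨r, rfl⟩; exact h r), IsOpenImmersion.lift_fac _ _ _⟩

/-- **gluing**: compatible sections which are open immersions onto the preimages of an open covering -/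
theorem exists_effective_of_openSections (hf : SGA1.UnivSubmersive f) [Etale D.obj.hom] {ι : Type u}
    (V : ι → S.Opens) (hV : ⨆ i, V i = ⊤) (U : ι → Scheme.{u}) (b : ∀ i, U i ⟶ (V i : Scheme.{u}))
    (hb : ∀ i, Etale (b i)) (σ : ∀ i, pullback f (b i ≫ (V i).ι) ⟶ D.obj.left)
    (hσ : ∀ i, SecCompat D (b i ≫ (V i).ι) (σ i)) (hσo : ∀ i, IsOpenImmersion (σ i))
    (hr : ∀ i (d : D.obj.left), f (D.obj.hom d) ∈ V i → d ∈ Set.range (σ i)) :
    ∃ W : Over S, Etale W.hom ∧ Nonempty ((Desc.toDD f).obj W ≅ D) := by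
  let a : ∀ i, U i ⟶ S := fun i => b i ≫ (V i).ι
  -- the relation between sections
  let Rel : ∀ {T : Scheme.{u}} {i j : ι}, (T ⟶ U i) → (T ⟶ U j) → Prop := fun {T i j} v v' =>
    ∀ ⦃T' : Scheme.{u}⦄ (g : T' ⟶ T) (x : T' ⟶ X) (h : x ≫ f = (g ≫ v) ≫ a i) (h' : x ≫ f = (g ≫ v') ≫ a j),
      pullback.lift x (g ≫ v) h ≫ σ i = pullback.lift x (g ≫ v') h' ≫ σ j
  have huniq : ∀ {T : Scheme.{u}} {i j : ι} {v : T ⟶ U i} {v₁ v₂ : T ⟶ U j}, v₁ ≫ b j = v₂ ≫ b j →
      v ≫ a i = v₁ ≫ a j → Rel v v₁ → Rel v v₂ → v₁ = v₂ := by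
    intro T i j v v₁ v₂ hb12 hv h₁ h₂
    haveI := hb j
    haveI := hσo j
    let g := pullback.snd f (v ≫ a i)
    haveI : Surjective g := surjective_subm (subm_snd _ hf)
    have e₀ : pullback.fst f (v ≫ a i) ≫ f = (g ≫ v) ≫ a i := pullback.condition.trans (Category.assoc _ _ _).symm
    have e₁ : pullback.fst f (v ≫ a i) ≫ f = (g ≫ v₁) ≫ a j :=
      e₀.trans ((Category.assoc _ _ _).trans ((congrArg (g ≫ ·) hv).trans (Category.assoc _ _ _).symm))
    have e₂ : pullback.fst f (v ≫ a i) ≫ f = (g ≫ v₂) ≫ a j := by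
      rw [e₁, Category.assoc g, Category.assoc g]
      exact congrArg (g ≫ ·) (by simp only [a, ← Category.assoc, hb12])
    refine desc_ext g (b j) hb12 ?_
    have key := (cancel_mono (σ j)).1 ((h₁ g _ e₀ e₁).symm.trans (h₂ g _ e₀ e₂))
    simpa using congrArg (· ≫ pullback.snd f (a j)) key
  have hex : ∀ {T : Scheme.{u}} {i j : ι} (y₀ : T ⟶ (V i : Scheme.{u})) (y₁ : T ⟶ (V j : Scheme.{u})),
      y₀ ≫ (V i).ι = y₁ ≫ (V j).ι → ∀ v : T ⟶ U i, v ≫ b i = y₀ →
        ∃ v' : T ⟶ U j, v' ≫ b j = y₁ ∧ Rel v v' := by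
    intro T i j y₀ y₁ hy v hv
    haveI := hb j
    haveI := hσo j
    let g := pullback.snd f (v ≫ a i)
    let x := pullback.fst f (v ≫ a i)
    have e₀ : x ≫ f = (g ≫ v) ≫ a i := pullback.condition.trans (Category.assoc _ _ _).symm
    have hgy : x ≫ f = (g ≫ y₁) ≫ (V j).ι := by
      rw [e₀, Category.assoc g y₁, ← hy, ← hv]; simp only [a, Category.assoc]
    let w := pullback.lift x (g ≫ v) e₀ ≫ σ i
    have hw : w ≫ D.obj.hom = x := by rw [Category.assoc, (hσ i).lies, pullback.lift_fst]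
    obtain ⟨w', hw'⟩ := exists_lift_open (σ j) w fun r => hr j _ (by
      rw [show f (D.obj.hom (w r)) = ((w ≫ D.obj.hom) ≫ f) r by simp only [Scheme.Hom.comp_apply], hw, hgy,
        Scheme.Hom.comp_apply]
      exact ((g ≫ y₁) r).2)
    have hw'₁ : w' ≫ pullback.fst f (a j) = x := by
      rw [← hw, ← hw', Category.assoc, (hσ j).lies]
    have hover : (w' ≫ pullback.snd f (a j)) ≫ b j = g ≫ y₁ := by
      rw [← cancel_mono (V j).ι, ← hgy, ← hw'₁]
      simp only [Category.assoc]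
      exact congrArg (w' ≫ ·) pullback.condition.symm
    have hag : ∀ {Z : Scheme.{u}} (t₀ t₁ : Z ⟶ pullback f (v ≫ a i)), t₀ ≫ g = t₁ ≫ g →
        (t₀ ≫ w') ≫ pullback.snd f (a j) = (t₁ ≫ w') ≫ pullback.snd f (a j) := by
      intro Z t₀ t₁ e
      have hs : (t₀ ≫ pullback.lift x (g ≫ v) e₀) ≫ pullback.snd f (a i) =
          (t₁ ≫ pullback.lift x (g ≫ v) e₀) ≫ pullback.snd f (a i) := by
        rw [Category.assoc, Category.assoc, pullback.lift_snd, reassoc_of% e]
      have hx : ∀ t : Z ⟶ pullback f (v ≫ a i), (t ≫ pullback.lift x (g ≫ v) e₀) ≫ pullback.fst f (a i) = t ≫ x :=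
        fun t => by rw [Category.assoc, pullback.lift_fst]
      have k := (hσ i).compat _ _ hs
      let z : Z ⟶ pullback f (a j) := pullback.lift (t₁ ≫ x) ((t₀ ≫ w') ≫ pullback.snd f (a j)) (by
        rw [Category.assoc (t₀ ≫ w'), ← pullback.condition, ← Category.assoc (t₀ ≫ w'), Category.assoc t₀, hw'₁,
          Category.assoc, Category.assoc, e₀, Category.assoc, reassoc_of% e])
      have hz : (t₀ ≫ w') ≫ pullback.snd f (a j) = z ≫ pullback.snd f (a j) := (pullback.lift_snd _ _ _).symm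
      have k' := (hσ j).compat (t₀ ≫ w') z hz
      have hzz : z ≫ σ j = (t₁ ≫ w') ≫ σ j := by
        refine k'.symm.trans ?_
        refine (tr_congr D ((pullback.lift_fst _ _ _).trans (hx t₁).symm) ?_).trans (k.trans ?_)
        · rw [Category.assoc, hw']; exact (Category.assoc _ _ _).symm
        · rw [Category.assoc t₁ w', hw']; exact (Category.assoc _ _ _)
      rw [hz, (cancel_mono (σ j)).1 hzz]
    obtain ⟨v', ⟨hv'₁, hv'₂⟩, -⟩ := exists_desc (subm_snd (v ≫ a i) hf) y₁ (b j)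
      (w' ≫ pullback.snd f (a j)) hover fun {Z} t₀ t₁ e => by
        simpa only [Category.assoc] using hag t₀ t₁ e
    refine ⟨v', hv'₁, fun T' g' x' h h' => ?_⟩
    let l : T' ⟶ pullback f (v ≫ a i) := pullback.lift x' g' (h.trans (Category.assoc _ _ _))
    have h1 : pullback.lift x' (g' ≫ v) h = l ≫ pullback.lift x (g ≫ v) e₀ := by
      apply pullback.hom_ext
      · simp only [l, x, Category.assoc, pullback.lift_fst]
      · simp only [l, g, Category.assoc, pullback.lift_snd, pullback.lift_snd_assoc]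
    have h2 : pullback.lift x' (g' ≫ v') h' = l ≫ w' := by
      apply pullback.hom_ext
      · rw [pullback.lift_fst, Category.assoc, hw'₁, pullback.lift_fst]
      · rw [pullback.lift_snd, Category.assoc, ← hv'₂, ← Category.assoc, pullback.lift_snd]
    rw [h1, h2, Category.assoc, Category.assoc, hw']
  choose ev hev hev' using @hex
  let D' : Desc.SchDDFam (fun i : ι => (V i).ι) :=
    { obj := fun i => Over.mk (b i)
      φ := fun T i j y₀ y₁ h =>
        { toFun := fun v => ⟨ev y₀ y₁ h v.1 v.2, hev y₀ y₁ h v.1 v.2⟩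
          invFun := fun v => ⟨ev y₁ y₀ h.symm v.1 v.2, hev y₁ y₀ h.symm v.1 v.2⟩
          left_inv := fun v => Subtype.ext (by
            refine huniq ((hev _ _ _ _ _).trans v.2.symm) ?_ (hev' _ _ _ _ _)
              fun T' g x h₁ h₂ => (hev' y₀ y₁ h v.1 v.2 g x h₂ h₁).symm
            show ev y₀ y₁ h v.1 v.2 ≫ a j = ev y₁ y₀ h.symm _ _ ≫ a i
            simp only [a, ← Category.assoc, hev, h])
          right_inv := fun v => Subtype.ext (by
            refine huniq ((hev _ _ _ _ _).trans v.2.symm) ?_ (hev' _ _ _ _ _)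
              fun T' g x h₁ h₂ => (hev' y₁ y₀ h.symm v.1 v.2 g x h₂ h₁).symm
            show ev y₁ y₀ h.symm v.1 v.2 ≫ a i = ev y₀ y₁ h _ _ ≫ a j
            simp only [a, ← Category.assoc, hev, h]) }
      φ_natural := fun T T' g i j x₀ x₁ h y₀ y₁ hy₀ hy₁ h' v v' hv' => by
        obtain ⟨v', hv''⟩ := v'
        change v' = g ≫ v.1 at hv'
        subst hv'
        show ev y₀ y₁ h' (g ≫ v.1) hv'' = g ≫ ev x₀ x₁ h v.1 v.2
        refine huniq ((hev _ _ _ _ _).trans (by rw [Category.assoc, hev, hy₁])) ?_ (hev' _ _ _ _ _)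
          fun T'' g' x h₁ h₂ => ?_
        · calc (g ≫ v.1) ≫ a i = y₀ ≫ (V i).ι := by
                simp only [a, ← Category.assoc]; exact congrArg (· ≫ (V i).ι) hv''
            _ = _ := by simp only [a, ← Category.assoc, hev, h']
        · have key := hev' x₀ x₁ h v.1 v.2 (g' ≫ g) x
            (by simpa only [Category.assoc] using h₁) (by simpa only [Category.assoc] using h₂)
          simpa only [Category.assoc] using key
      φ_self := fun T i x v => Subtype.ext (by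
        refine huniq ((hev _ _ _ _ _).trans v.2.symm) ?_ (hev' _ _ _ _ _) fun T' g y h₁ h₂ => rfl
        show v.1 ≫ a i = ev x x rfl v.1 v.2 ≫ a i
        simp only [a, ← Category.assoc, hev]
        exact congrArg (· ≫ (V i).ι) v.2)
      φ_comp := fun T i j k x₀ x₁ x₂ h h' v => Subtype.ext (by
        refine huniq ((hev _ _ _ _ _).trans (hev _ _ _ _ _).symm) ?_ ?_ (hev' x₀ x₂ (h.trans h') v.1 v.2)
        · show v.1 ≫ a i = ev x₁ x₂ h' _ _ ≫ a k
          simp only [a, ← Category.assoc, hev]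
          exact (congrArg (· ≫ (V i).ι) v.2).trans (h.trans h')
        · intro T' g y h₁ h₃
          have h₂ : y ≫ f = (g ≫ ev x₀ x₁ h v.1 v.2) ≫ a j := by
            rw [h₁, Category.assoc g, Category.assoc g]
            refine congrArg (g ≫ ·) ?_
            simp only [a, ← Category.assoc, hev]
            exact (congrArg (· ≫ (V i).ι) v.2).trans h
          exact (hev' x₀ x₁ h v.1 v.2 g y h₁ h₂).trans (hev' x₁ x₂ h' _ _ g y h₂ h₃)) }
  have hcov : Presieve.ofArrows (fun i => (V i : Scheme.{u})) (fun i => (V i).ι) ∈ Scheme.zariskiPrecoverage S := by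
    refine (Scheme.ofArrows_mem_precoverage_iff (P := @IsOpenImmersion)).mpr ⟨fun s => ?_, fun i => inferInstance⟩
    obtain ⟨i, hi⟩ := TopologicalSpace.Opens.mem_iSup.mp (show s ∈ ⨆ i, V i from hV ▸ trivial)
    exact ⟨i, ⟨s, hi⟩, rfl⟩
  obtain ⟨W, ⟨e⟩⟩ := SchDescent.isEffective_of_zariski hcov D'
  let η : ∀ i, pullback (V i).ι W.hom ⟶ U i := fun i => (e.hom.hom i).left
  let ζ : ∀ i, U i ⟶ pullback (V i).ι W.hom := fun i => (e.inv.hom i).left
  have hη : ∀ i, η i ≫ b i = pullback.fst (V i).ι W.hom := fun i => Over.w (e.hom.hom i)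
  have hζ : ∀ i, ζ i ≫ pullback.fst (V i).ι W.hom = b i := fun i => Over.w (e.inv.hom i)
  have hζη : ∀ i, ζ i ≫ η i = 𝟙 _ := fun i =>
    congrArg (fun m : D' ⟶ D' => (m.hom i).left) e.inv_hom_id
  have hηζ : ∀ i, η i ≫ ζ i = 𝟙 _ := fun i =>
    congrArg (fun m : (Desc.toDDFam (fun i : ι => (V i).ι)).obj W ⟶ (Desc.toDDFam (fun i : ι => (V i).ι)).obj W =>
      (m.hom i).left) e.hom_inv_id
  let j : ∀ i, U i ⟶ W.left := fun i => ζ i ≫ pullback.snd (V i).ι W.hom
  have hj : ∀ i, j i ≫ W.hom = a i := fun i => by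
    simp only [j, a, Category.assoc]
    rw [← pullback.condition, ← Category.assoc, hζ]
  have hjiso : ∀ i, IsIso (ζ i) := fun i => ⟨η i, hζη i, hηζ i⟩
  have hjo : ∀ i, IsOpenImmersion (j i) := fun i => by haveI := hjiso i; infer_instance
  -- two points of the pieces with the same image are related
  have hrel : ∀ {T : Scheme.{u}} {i k : ι} (v : T ⟶ U i) (v' : T ⟶ U k), v ≫ j i = v' ≫ j k → Rel v v' := by
    intro T i k v v' hvv
    have h : (v ≫ b i) ≫ (V i).ι = (v' ≫ b k) ≫ (V k).ι := by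
      have := congrArg (· ≫ W.hom) hvv
      simpa only [Category.assoc, hj] using this
    have key := e.inv.comm (v ≫ b i) (v' ≫ b k) h ⟨v, rfl⟩
      ⟨v ≫ ζ i, by show (v ≫ ζ i) ≫ pullback.fst (V i).ι W.hom = v ≫ b i; rw [Category.assoc, hζ]⟩ rfl
    have e' : ev (v ≫ b i) (v' ≫ b k) h v rfl = v' := by
      have k1 : ev (v ≫ b i) (v' ≫ b k) h v rfl ≫ ζ k = v' ≫ ζ k := by
        refine key.symm.trans (pullback.hom_ext ?_ ?_)
        · refine (pullback.lift_fst _ _ _).trans ?_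
          rw [Category.assoc, hζ]
        · refine (pullback.lift_snd _ _ _).trans ?_
          simpa only [j, Category.assoc] using hvv
      haveI := hjiso k
      exact (cancel_mono (ζ k)).1 k1
    have := hev' (v ≫ b i) (v' ≫ b k) h v rfl
    rwa [e'] at this
  have hcovW : ∀ w : W.left, ∃ i, w ∈ Set.range (j i) := fun w => by
    obtain ⟨i, hi⟩ := TopologicalSpace.Opens.mem_iSup.mp (show W.hom w ∈ ⨆ i, V i from hV ▸ trivial)
    obtain ⟨p, -, hp⟩ := Scheme.Pullback.exists_preimage_pullback (f := (V i).ι) (g := W.hom) ⟨_, hi⟩ w rfl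
    haveI := hjiso i
    obtain ⟨u, hu⟩ := (ζ i).surjective p
    exact ⟨i, u, by rw [Scheme.Hom.comp_apply, hu, hp]⟩
  let WW : W.left.OpenCover := Scheme.Cover.mkOfCovers ι U j (fun w => by
    obtain ⟨i, u, hu⟩ := hcovW w
    exact ⟨i, u, hu⟩) hjo
  let PP := Scheme.Pullback.openCoverOfRight WW f W.hom
  let k : ∀ i, PP.X i ⟶ pullback f (a i) := fun i => (pullback.congrHom rfl (hj i)).hom
  have hk₁ : ∀ i, k i ≫ pullback.fst f (a i) = PP.f i ≫ pullback.fst f W.hom := fun i => by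
    simp [k, PP, Scheme.Pullback.openCoverOfRight] <;> rfl
  have hk₂ : ∀ i, PP.f i ≫ pullback.snd f W.hom = (k i ≫ pullback.snd f (a i)) ≫ j i := fun i => by
    simp [k, PP, WW, Scheme.Pullback.openCoverOfRight, Scheme.Cover.mkOfCovers] <;> rfl
  -- comparison on the pieces
  have hcmp : ∀ {T : Scheme.{u}} {i l : ι} (p : T ⟶ pullback f (a i)) (q : T ⟶ pullback f (a l)),
      p ≫ pullback.fst f (a i) = q ≫ pullback.fst f (a l) →
      (p ≫ pullback.snd f (a i)) ≫ j i = (q ≫ pullback.snd f (a l)) ≫ j l → p ≫ σ i = q ≫ σ l := by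
    intro T i l p q h₁ h₂
    have e₁ : (p ≫ pullback.fst f (a i)) ≫ f = (𝟙 T ≫ p ≫ pullback.snd f (a i)) ≫ a i := by
      rw [Category.id_comp, Category.assoc, pullback.condition, Category.assoc]
    have e₂ : (p ≫ pullback.fst f (a i)) ≫ f = (𝟙 T ≫ q ≫ pullback.snd f (a l)) ≫ a l := by
      rw [h₁, Category.id_comp, Category.assoc, pullback.condition, Category.assoc]
    have key := hrel _ _ h₂ (𝟙 T) _ e₁ e₂
    have hp : pullback.lift (p ≫ pullback.fst f (a i)) (𝟙 T ≫ p ≫ pullback.snd f (a i)) e₁ = p := by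
      apply pullback.hom_ext <;> simp
    have hq : pullback.lift (p ≫ pullback.fst f (a i)) (𝟙 T ≫ q ≫ pullback.snd f (a l)) e₂ = q := by
      apply pullback.hom_ext <;> simp [h₁]
    rwa [hp, hq] at key
  have hglue : ∀ i l, pullback.fst (PP.f i) (PP.f l) ≫ k i ≫ σ i = pullback.snd (PP.f i) (PP.f l) ≫ k l ≫ σ l := by
    intro i l
    rw [← Category.assoc, ← Category.assoc]
    refine hcmp _ _ ?_ ?_
    · simp only [Category.assoc, hk₁, pullback.condition_assoc]
    · simp only [Category.assoc]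
      rw [← Category.assoc (k i), ← hk₂, ← Category.assoc (k l), ← hk₂, pullback.condition_assoc]
  let τ : pullback f W.hom ⟶ D.obj.left := PP.glueMorphisms (fun i => k i ≫ σ i) hglue
  have hτ : ∀ i, PP.f i ≫ τ = k i ≫ σ i := fun i => PP.ι_glueMorphisms _ hglue i
  have hlies : τ ≫ D.obj.hom = pullback.fst f W.hom := PP.hom_ext _ _ fun i => by
    rw [reassoc_of% hτ i, (hσ i).lies, hk₁]
  -- lifting points to a piece
  have hpiece : ∀ {T : Scheme.{u}} (i : ι) (t : T ⟶ pullback f W.hom),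
      (∀ o, W.hom (pullback.snd f W.hom (t o)) ∈ V i) →
      ∃ (p : T ⟶ pullback f (a i)), p ≫ pullback.fst f (a i) = t ≫ pullback.fst f W.hom ∧
        (p ≫ pullback.snd f (a i)) ≫ j i = t ≫ pullback.snd f W.hom ∧ p ≫ σ i = t ≫ τ := by
    intro T i t ht
    haveI := hjiso i
    haveI := hjo i
    obtain ⟨u, hu⟩ := exists_lift_open (j i) (t ≫ pullback.snd f W.hom) fun o => by
      obtain ⟨p, -, hp⟩ := Scheme.Pullback.exists_preimage_pullback (f := (V i).ι) (g := W.hom) ⟨_, ht o⟩ _ rfl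
      obtain ⟨u, hu⟩ := (ζ i).surjective p
      exact ⟨u, by rw [Scheme.Hom.comp_apply, hu, hp, Scheme.Hom.comp_apply]⟩
    have hc : (t ≫ pullback.fst f W.hom) ≫ f = u ≫ a i := by
      rw [← hj i, ← Category.assoc u, hu, Category.assoc, Category.assoc, pullback.condition]
    let l : T ⟶ PP.X i := pullback.lift (t ≫ pullback.fst f W.hom) u (hc.trans (congrArg (u ≫ ·) (hj i).symm))
    have hl : l ≫ PP.f i = t := by
      apply pullback.hom_ext
      · simp [l, PP, Scheme.Pullback.openCoverOfRight]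
      · simp [l, PP, WW, Scheme.Pullback.openCoverOfRight, Scheme.Cover.mkOfCovers, hu]
    refine ⟨l ≫ k i, ?_, ?_, ?_⟩
    · rw [Category.assoc, hk₁, ← Category.assoc, hl]
    · rw [Category.assoc l, Category.assoc l, ← hk₂, ← Category.assoc, hl]
    · rw [Category.assoc, ← hτ, ← Category.assoc, hl]
  let Wc : ∀ i, W.left.Opens := fun i => W.hom ⁻¹ᵁ V i
  have hWc : ∀ w : W.left, ∃ i, w ∈ Wc i := fun w => by
    obtain ⟨i, hi⟩ := TopologicalSpace.Opens.mem_iSup.mp (show W.hom w ∈ ⨆ i, V i from hV ▸ trivial)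
    exact ⟨i, hi⟩
  let cov : ∀ {T : Scheme.{u}} (t : T ⟶ pullback f W.hom), T.OpenCover := fun {T} t =>
    T.openCoverOfIsOpenCover (fun i => (t ≫ pullback.snd f W.hom) ⁻¹ᵁ Wc i) (by
      rw [TopologicalSpace.IsOpenCover, eq_top_iff]
      intro o _
      obtain ⟨i, hi⟩ := hWc ((t ≫ pullback.snd f W.hom) o)
      exact TopologicalSpace.Opens.mem_iSup.mpr ⟨i, hi⟩)
  have hmem : ∀ {T : Scheme.{u}} (t : T ⟶ pullback f W.hom) (i : ι) (o : ((t ≫ pullback.snd f W.hom) ⁻¹ᵁ Wc i).toScheme),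
      W.hom (pullback.snd f W.hom ((((t ≫ pullback.snd f W.hom) ⁻¹ᵁ Wc i).ι ≫ t) o)) ∈ V i := fun t i o => by
    rw [Scheme.Hom.comp_apply, ← Scheme.Hom.comp_apply t]
    exact o.2
  haveI hmono : Mono τ := ⟨fun {T} t₀ t₁ e => by
    have efst : t₀ ≫ pullback.fst f W.hom = t₁ ≫ pullback.fst f W.hom := by rw [← hlies, reassoc_of% e]
    have esnd : (t₀ ≫ pullback.snd f W.hom) ≫ W.hom = (t₁ ≫ pullback.snd f W.hom) ≫ W.hom := by
      simp only [Category.assoc, ← pullback.condition, reassoc_of% efst]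
    refine (cov t₀).hom_ext _ _ fun i => ?_
    let g := ((t₀ ≫ pullback.snd f W.hom) ⁻¹ᵁ Wc i).ι
    show g ≫ t₀ = g ≫ t₁
    obtain ⟨p₀, hp₀, hp₀', hp₀''⟩ := hpiece i (g ≫ t₀) (hmem t₀ i)
    obtain ⟨p₁, hp₁, hp₁', hp₁''⟩ := hpiece i (g ≫ t₁) fun o => by
      have h := hmem t₀ i o
      simp only [← Scheme.Hom.comp_apply] at h ⊢
      simp only [Category.assoc] at h esnd ⊢
      rwa [← esnd]
    haveI := hσo i
    have hp : p₀ = p₁ := (cancel_mono (σ i)).1 (by rw [hp₀'', hp₁'', Category.assoc, e, Category.assoc])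
    apply pullback.hom_ext
    · rw [← hp₀, ← hp₁, hp]
    · rw [← hp₀', ← hp₁', hp]⟩
  have hcompat : SecCompat D W.hom τ := ⟨hlies, fun T t₀ t₁ h => by
    refine (cov t₀).hom_ext _ _ fun i => ?_
    let g := ((t₀ ≫ pullback.snd f W.hom) ⁻¹ᵁ Wc i).ι
    obtain ⟨p₀, hp₀, hp₀', hp₀''⟩ := hpiece i (g ≫ t₀) (hmem t₀ i)
    have hh : (g ≫ t₁) ≫ pullback.snd f W.hom = (g ≫ t₀) ≫ pullback.snd f W.hom := by
      simpa only [Category.assoc] using congrArg (g ≫ ·) h.symm
    obtain ⟨p₁, hp₁, hp₁', hp₁''⟩ := hpiece i (g ≫ t₁) fun o => by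
      have h := hmem t₀ i o
      rw [← Scheme.Hom.comp_apply (g ≫ t₀)] at h
      rw [← Scheme.Hom.comp_apply (g ≫ t₁), hh]
      exact h
    haveI := hjo i
    have hs : p₀ ≫ pullback.snd f (a i) = p₁ ≫ pullback.snd f (a i) :=
      (cancel_mono (j i)).1 (by rw [hp₀', hp₁', hh])
    show g ≫ tr D _ _ _ = g ≫ t₁ ≫ τ
    refine (comp_tr D g (hp₁.trans (Category.assoc _ _ _)).symm
      ((hp₀''.trans (Category.assoc _ _ _)).symm) (h' := by rw [Category.assoc p₀, (hσ i).lies, Category.assoc p₀,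
        Category.assoc p₁, pullback.condition, ← Category.assoc p₀, hs, Category.assoc])).trans ?_
    exact ((hσ i).compat p₀ p₁ hs).trans (hp₁''.trans (Category.assoc _ _ _))⟩
  haveI hWe : Etale W.hom := IsZariskiLocalAtSource.of_openCover (P := @Etale) WW fun i => by
    show Etale (j i ≫ W.hom)
    rw [hj i]
    haveI := hb i
    infer_instance
  haveI : Etale τ := by
    haveI : Etale (τ ≫ D.obj.hom) := by rw [hlies]; infer_instance
    exact Etale.of_comp τ D.obj.hom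
  haveI : IsOpenImmersion τ := IsOpenImmersion.of_flat_of_mono _
  haveI : Surjective τ := ⟨fun d => by
    obtain ⟨i, hi⟩ := TopologicalSpace.Opens.mem_iSup.mp (show f (D.obj.hom d) ∈ ⨆ i, V i from hV ▸ trivial)
    obtain ⟨p, hp⟩ := hr i d hi
    obtain ⟨z, hz⟩ := (inferInstance : Surjective (k i)).surj p
    exact ⟨PP.f i z, by rw [← Scheme.Hom.comp_apply, hτ, Scheme.Hom.comp_apply, hz, hp]⟩⟩
  haveI : IsIso τ := by
    haveI : Epi τ.base := (TopCat.epi_iff_surjective _).mpr ‹Surjective τ›.surj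
    exact IsOpenImmersion.isIso τ
  exact ⟨W, hWe, nonempty_iso_of_sec W.hom τ hcompat⟩

end Groth.Agent.EtDD
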