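import Groth.Agent.EtDD.FamPull

/-!
# Effectivity of base changed data in terms of sections of the datum
-/

set_option autoImplicit false
set_option backward.isDefEq.respectTransparency false
set_option backward.isDefEq.respectTransparency.types false
set_option linter.style.haveILetI false
set_option maxHeartbeats 1000000

universe u

open CategoryTheory CategoryTheory.Limits AlgebraicGeometry

noncomputable section

namespace Groth.Agent.EtDD

open Groth.Agent.SchDescent

variable {X S S₁ : Scheme.{u}} {f : X ⟶ S} (j : S₁ ⟶ S)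

/-- from a canonical pulled back datum to a cartesian compatible section -/
theorem exists_sec_of_iso (D : Desc.SchDD f) (U : Over S₁)
    (e : (Desc.toDD (pullback.snd f j)).obj U ≅
      pullDD D (pullback.fst f j) (pullback.snd f j) j pullback.condition) :
    ∃ σ : pullback f (U.hom ≫ j) ⟶ D.obj.left, SecCompat D (U.hom ≫ j) σ ∧
      IsPullback σ (pullback.snd f (U.hom ≫ j) ≫ U.hom) (D.obj.hom ≫ f) j := by
  have hs := secCompat_of_hom e.hom
  let σ₁ : pullback (pullback.snd f j) U.hom ⟶ pullback D.obj.hom (pullback.fst f j) := e.hom.hom.left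
  haveI : IsIso σ₁ := ⟨e.inv.hom.left, congrArg (fun g : (Desc.toDD (pullback.snd f j)).obj U ⟶
      (Desc.toDD (pullback.snd f j)).obj U => g.hom.left) e.hom_inv_id,
    congrArg (fun g : pullDD D (pullback.fst f j) (pullback.snd f j) j pullback.condition ⟶
      pullDD D (pullback.fst f j) (pullback.snd f j) j pullback.condition => g.hom.left) e.inv_hom_id⟩
  let i : pullback f (U.hom ≫ j) ⟶ pullback (pullback.snd f j) U.hom :=
    pullback.lift (pullback.lift (pullback.fst _ _) (pullback.snd _ _ ≫ U.hom)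
      (by rw [Category.assoc]; exact pullback.condition)) (pullback.snd _ _) (pullback.lift_snd _ _ _)
  let i' : pullback (pullback.snd f j) U.hom ⟶ pullback f (U.hom ≫ j) :=
    pullback.lift (pullback.fst _ _ ≫ pullback.fst f j) (pullback.snd (pullback.snd f j) U.hom) (by
      rw [Category.assoc, pullback.condition (f := f), ← Category.assoc, pullback.condition, Category.assoc])
  have hi₁ : i ≫ pullback.fst (pullback.snd f j) U.hom ≫ pullback.fst f j = pullback.fst f (U.hom ≫ j) := by simp [i]
  have hlies : σ₁ ≫ pullback.snd D.obj.hom (pullback.fst f j) = pullback.fst (pullback.snd f j) U.hom := hs.lies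
  haveI : IsIso i := ⟨i', by apply pullback.hom_ext <;> simp [i, i'], by
    apply pullback.hom_ext
    · apply pullback.hom_ext
      · simp [i, i']
      · simp [i, i', pullback.condition]
    · simp [i, i']⟩
  refine ⟨i ≫ σ₁ ≫ pullback.fst D.obj.hom (pullback.fst f j), ⟨?_, fun T t₀ t₁ h => ?_⟩, ?_⟩
  · simp only [Category.assoc, pullback.condition]
    rw [reassoc_of% hlies]
    exact hi₁
  · have e' : (t₀ ≫ i) ≫ pullback.snd (pullback.snd f j) U.hom = (t₁ ≫ i) ≫ pullback.snd (pullback.snd f j) U.hom := by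
      simpa [i] using h
    refine (tr_congr D ?_ (Category.assoc _ _ _).symm).trans
      ((pull_compat D _ _ _ _ hs (t₀ ≫ i) (t₁ ≫ i) e' (hh := pull_hh D _ _ _ _ hs (t₀ ≫ i) (t₁ ≫ i) e')).trans
        (Category.assoc _ _ _))
    simp only [Category.assoc]
    exact (congrArg (t₁ ≫ ·) hi₁).symm
  · have H := (IsPullback.of_hasPullback D.obj.hom (pullback.fst f j)).paste_vert (IsPullback.of_hasPullback f j)
    refine H.of_iso (asIso (i ≫ σ₁)).symm (Iso.refl _) (Iso.refl _) (Iso.refl _) ?_ ?_ (by simp) (by simp)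
    · simp
    · simp only [Iso.symm_hom, asIso_inv, Iso.refl_hom, Category.comp_id, IsIso.inv_comp, Category.assoc]
      rw [IsIso.eq_inv_comp, IsIso.eq_inv_comp]
      rw [reassoc_of% hlies]
      simp [i, pullback.condition_assoc]

/-- from a cartesian compatible section to a canonical pulled back datum -/
theorem nonempty_iso_of_sec_pullback (D : Desc.SchDDFam (fun _ : PUnit.{1} => f)) (U : Over S₁)
    (σ : pullback f (U.hom ≫ j) ⟶ (D.obj PUnit.unit).left)
    (hσ : SecCompat ((Desc.SchDDFam.toSchDD f).obj D) (U.hom ≫ j) σ)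
    (hP : IsPullback σ (pullback.snd f (U.hom ≫ j) ≫ U.hom) ((D.obj PUnit.unit).hom ≫ f) j) :
    Nonempty ((Desc.toDDFam (fun _ : PUnit.{1} => pullback.snd f j)).obj U ≅
      (Desc.pullDDFam (f := fun _ : PUnit.{1} => f) (f' := fun _ : PUnit.{1} => pullback.snd f j) (α := id) (p := j)
        (p' := fun _ => pullback.fst f j) (fun _ => pullback.condition)).obj D) := by
  let D₀ := (Desc.SchDDFam.toSchDD f).obj D
  let i' : pullback (pullback.snd f j) U.hom ⟶ pullback f (U.hom ≫ j) :=
    pullback.lift (pullback.fst _ _ ≫ pullback.fst f j) (pullback.snd (pullback.snd f j) U.hom) (by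
      rw [Category.assoc, pullback.condition (f := f), ← Category.assoc, pullback.condition, Category.assoc])
  let i : pullback f (U.hom ≫ j) ⟶ pullback (pullback.snd f j) U.hom :=
    pullback.lift (pullback.lift (pullback.fst _ _) (pullback.snd _ _ ≫ U.hom)
      (by rw [Category.assoc]; exact pullback.condition)) (pullback.snd _ _) (pullback.lift_snd _ _ _)
  let σ₁ : pullback (pullback.snd f j) U.hom ⟶ pullback D₀.obj.hom (pullback.fst f j) :=
    pullback.lift (i' ≫ σ) (pullback.fst _ _) (by
      rw [Category.assoc, hσ.lies, pullback.lift_fst])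
  have H := (IsPullback.of_hasPullback D₀.obj.hom (pullback.fst f j)).paste_vert (IsPullback.of_hasPullback f j)
  let τ : pullback D₀.obj.hom (pullback.fst f j) ⟶ pullback f (U.hom ≫ j) :=
    hP.lift (pullback.fst _ _) (pullback.snd _ _ ≫ pullback.snd f j) H.w
  have hτ₁ : τ ≫ σ = pullback.fst _ _ := hP.lift_fst _ _ _
  have hτ₂ : τ ≫ pullback.snd f (U.hom ≫ j) ≫ U.hom = pullback.snd D₀.obj.hom (pullback.fst f j) ≫ pullback.snd f j :=
    hP.lift_snd _ _ _
  have hii : i' ≫ i = 𝟙 _ := by
    apply pullback.hom_ext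
    · apply pullback.hom_ext
      · simp [i, i']
      · simp [i, i', pullback.condition]
    · simp [i, i']
  have hii' : i ≫ i' = 𝟙 _ := by apply pullback.hom_ext <;> simp [i, i']
  haveI : IsIso σ₁ := ⟨τ ≫ i, by
    have : σ₁ ≫ τ = i' := by
      refine hP.hom_ext ?_ ?_
      · rw [Category.assoc, hτ₁, pullback.lift_fst]
      · rw [Category.assoc, hτ₂, pullback.lift_snd_assoc]
        simp [i', pullback.condition]
    rw [reassoc_of% this, hii], by
    apply pullback.hom_ext
    · rw [Category.assoc, Category.assoc, pullback.lift_fst, reassoc_of% hii', hτ₁, Category.id_comp]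
    · rw [Category.assoc, Category.assoc, pullback.lift_snd, Category.id_comp]
      apply pullback.hom_ext
      · simp only [i, Category.assoc, pullback.lift_fst]
        rw [← hσ.lies, reassoc_of% hτ₁]
        exact pullback.condition
      · simp only [i, Category.assoc, pullback.lift_fst_assoc, pullback.lift_snd]
        exact hτ₂⟩
  have hcomp : SecCompat (pullDD D₀ (pullback.fst f j) (pullback.snd f j) j pullback.condition) U.hom σ₁ := by
    refine ⟨pullback.lift_snd _ _ _, fun T t₀ t₁ h => ?_⟩
    have h' : (t₀ ≫ i') ≫ pullback.snd f (U.hom ≫ j) = (t₁ ≫ i') ≫ pullback.snd f (U.hom ≫ j) := by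
      simpa [i'] using h
    have hσs : σ₁ ≫ pullback.snd D₀.obj.hom (pullback.fst f j) = pullback.fst (pullback.snd f j) U.hom :=
      pullback.lift_snd _ _ _
    have hx : ((t₀ ≫ σ₁) ≫ pullback.snd D₀.obj.hom (pullback.fst f j)) ≫ pullback.snd f j =
        (t₁ ≫ pullback.fst (pullback.snd f j) U.hom) ≫ pullback.snd f j := by
      rw [Category.assoc t₀, hσs]
      simp only [Category.assoc, pullback.condition, reassoc_of% h]
    apply pullback.hom_ext
    · refine (pullTr_fst D₀ (pullback.fst f j) (pullback.snd f j) j pullback.condition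
        (t₁ ≫ pullback.fst (pullback.snd f j) U.hom) (t₀ ≫ σ₁) rfl hx).trans ?_
      refine (tr_congr D₀ ?_ ?_).trans ((hσ.compat (t₀ ≫ i') (t₁ ≫ i') h').trans ?_)
      · simp [i', Category.assoc]
      · simp [σ₁, Category.assoc]
      · simp [σ₁, Category.assoc]
    · refine (pullTr_snd D₀ (pullback.fst f j) (pullback.snd f j) j pullback.condition
        (t₁ ≫ pullback.fst (pullback.snd f j) U.hom) (t₀ ≫ σ₁) rfl hx).trans ?_
      simp [σ₁, Category.assoc]
  obtain ⟨e⟩ := nonempty_iso_of_sec (D := pullDD D₀ (pullback.fst f j) (pullback.snd f j) j pullback.condition) U.hom σ₁ hcomp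
  obtain ⟨e'⟩ := nonempty_iso_pullDD (pullback.fst f j) (pullback.snd f j) j pullback.condition D
  exact nonempty_toDDFam_of_toDD _ _ (e ≪≫ e')

/-- restricting a cartesian compatible section -/
theorem exists_sec_precomp (D : Desc.SchDD f) (U : Over S₁) [Etale U.hom] (σ : pullback f (U.hom ≫ j) ⟶ D.obj.left)
    (hσ : SecCompat D (U.hom ≫ j) σ) (hP : IsPullback σ (pullback.snd f (U.hom ≫ j) ≫ U.hom) (D.obj.hom ≫ f) j)
    {S₂ : Scheme.{u}} (l : S₂ ⟶ S₁) {b : S₂ ⟶ S} (hb : l ≫ j = b) :
    ∃ (U' : Over S₂) (σ' : pullback f (U'.hom ≫ b) ⟶ D.obj.left), Etale U'.hom ∧ SecCompat D (U'.hom ≫ b) σ' ∧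
      IsPullback σ' (pullback.snd f (U'.hom ≫ b) ≫ U'.hom) (D.obj.hom ≫ f) b := by
  subst hb
  let u' := pullback.snd U.hom l
  let ρ := pullback.fst U.hom l
  let m : pullback f (u' ≫ l ≫ j) ⟶ pullback f (U.hom ≫ j) :=
    pullback.lift (pullback.fst _ _) (pullback.snd _ _ ≫ ρ) (by
      rw [pullback.condition, Category.assoc, pullback.condition_assoc])
  have hm₁ : m ≫ pullback.fst f (U.hom ≫ j) = pullback.fst _ _ := pullback.lift_fst _ _ _
  have hm₂ : m ≫ pullback.snd f (U.hom ≫ j) = pullback.snd _ _ ≫ ρ := pullback.lift_snd _ _ _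
  refine ⟨Over.mk u', m ≫ σ, inferInstanceAs (Etale (pullback.snd U.hom l)), hσ.precomp m hm₁ hm₂, ?_⟩
  have H₁ : IsPullback m (pullback.snd f (u' ≫ l ≫ j)) (pullback.snd f (U.hom ≫ j)) ρ := by
    refine IsPullback.of_right ?_ hm₂ (IsPullback.of_hasPullback f (U.hom ≫ j))
    rw [hm₁, show ρ ≫ U.hom ≫ j = u' ≫ l ≫ j from pullback.condition_assoc _]
    exact IsPullback.of_hasPullback f (u' ≫ l ≫ j)
  exact (H₁.paste_vert (IsPullback.of_hasPullback U.hom l)).paste_horiz hP

end Groth.Agent.EtDD
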