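import Groth.Agent.EtDD.SpreadDD
import Groth.Agent.EtDD.SecBC

/-!
# Effectivity near a point and over the local scheme
-/

set_option autoImplicit false
set_option backward.isDefEq.respectTransparency false
set_option backward.isDefEq.respectTransparency.types false
set_option linter.style.haveILetI false
set_option maxHeartbeats 1000000

universe u

open CategoryTheory CategoryTheory.Limits AlgebraicGeometry

noncomputable section

namespace Groth.Agent.EtDD

variable {X S : Scheme.{u}} {g : X ⟶ S}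

theorem isPullback_of_openImmersion (D : Desc.SchDD g) (V : S.Opens) (U : Over (V : Scheme.{u}))
    (σ : pullback g (U.hom ≫ V.ι) ⟶ D.obj.left) (hσ : SecCompat D (U.hom ≫ V.ι) σ) [IsOpenImmersion σ]
    (hr : ∀ d, g (D.obj.hom d) ∈ V → d ∈ Set.range σ) :
    IsPullback σ (pullback.snd g (U.hom ≫ V.ι) ≫ U.hom) (D.obj.hom ≫ g) V.ι := by
  have e : (pullback.snd g (U.hom ≫ V.ι) ≫ U.hom) ≫ V.ι = σ ≫ D.obj.hom ≫ g := by
    rw [reassoc_of% hσ.lies, pullback.condition, Category.assoc]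
  refine (IsOpenImmersion.isPullback _ σ V.ι (D.obj.hom ≫ g) e.symm ?_).flip
  ext d
  constructor
  · intro hd
    refine hr d ?_
    have hd' : (D.obj.hom ≫ g) d ∈ Set.range V.ι := hd
    rw [Scheme.Opens.range_ι, Scheme.Hom.comp_apply] at hd'
    exact hd'
  · rintro ⟨x, rfl⟩
    refine (Set.mem_range.mpr ⟨(pullback.snd g (U.hom ≫ V.ι) ≫ U.hom) x, ?_⟩ : _ ∈ Set.range V.ι)
    rw [← Scheme.Hom.comp_apply, e, Scheme.Hom.comp_apply]

theorem effective_nhd_iff_stalk [QuasiCompact g] [QuasiSeparated g] [LocallyOfFinitePresentation g]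
    [Surjective g] (D : Desc.SchDDFam (fun _ : PUnit.{1} => g)) [Etale (D.obj PUnit.unit).hom]
    [QuasiCompact (D.obj PUnit.unit).hom] [QuasiSeparated (D.obj PUnit.unit).hom] (a : S) :
    (∃ W : S.Opens, a ∈ W ∧ (∃ U : Over (W : Scheme.{u}), Etale U.hom ∧
        Nonempty ((Desc.toDDFam (fun _ : PUnit.{1} => pullback.snd g W.ι)).obj U ≅
          (Desc.pullDDFam (f := fun _ : PUnit.{1} => g) (f' := fun _ : PUnit.{1} => pullback.snd g W.ι)
        (α := id) (p := W.ι) (p' := fun _ => pullback.fst g W.ι) (fun _ => pullback.condition)).obj D))) ↔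
      (∃ U : Over (Spec (S.presheaf.stalk a)), Etale U.hom ∧
        Nonempty ((Desc.toDDFam (fun _ : PUnit.{1} => pullback.snd g (S.fromSpecStalk a))).obj U ≅
          (Desc.pullDDFam (f := fun _ : PUnit.{1} => g) (f' := fun _ : PUnit.{1} => pullback.snd g (S.fromSpecStalk a))
        (α := id) (p := (S.fromSpecStalk a)) (p' := fun _ => pullback.fst g (S.fromSpecStalk a)) (fun _ => pullback.condition)).obj D)) := by
  let D₀ := (Desc.SchDDFam.toSchDD g).obj D
  haveI : Etale D₀.obj.hom := ‹Etale (D.obj PUnit.unit).hom›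
  haveI : QuasiCompact D₀.obj.hom := ‹QuasiCompact (D.obj PUnit.unit).hom›
  haveI : QuasiSeparated D₀.obj.hom := ‹QuasiSeparated (D.obj PUnit.unit).hom›
  constructor
  · rintro ⟨W, haW, U, hU, ⟨e⟩⟩
    obtain ⟨e₁⟩ := nonempty_toDD_pullDD (pullback.fst g W.ι) (pullback.snd g W.ι) W.ι pullback.condition D U e
    obtain ⟨σ, hσ, hP⟩ := exists_sec_of_iso W.ι D₀ U e₁
    obtain ⟨U', σ', hU', hσ', hP'⟩ := exists_sec_precomp W.ι D₀ U σ hσ hP (W.fromSpecStalkOfMem a haW)
      (W.fromSpecStalkOfMem_ι a haW)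
    exact ⟨U', hU', nonempty_iso_of_sec_pullback _ D U' σ' hσ' hP'⟩
  · rintro ⟨U, hU, ⟨e⟩⟩
    haveI := hU
    obtain ⟨e₁⟩ := nonempty_toDD_pullDD (pullback.fst g (S.fromSpecStalk a)) (pullback.snd g (S.fromSpecStalk a))
      (S.fromSpecStalk a) pullback.condition D U e
    obtain ⟨σ, hσ, hP⟩ := exists_sec_of_iso (S.fromSpecStalk a) D₀ U e₁
    obtain ⟨W, haW, U', σ', hU', hσ', _, hr⟩ := exists_open_sec_of_stalk D₀ a U σ hσ hP
    exact ⟨W, haW, U', hU', nonempty_iso_of_sec_pullback W.ι D U' σ' hσ'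
      (isPullback_of_openImmersion D₀ W U' σ' hσ' hr)⟩

end Groth.Agent.EtDD
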