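import Groth.Agent.EtDD.Closed
import Groth.Agent.EtH0Pair.ProperSets

/-!
# Compatible sections along proper morphisms; finite étale descent
-/

set_option autoImplicit false
set_option backward.isDefEq.respectTransparency false
set_option backward.isDefEq.respectTransparency.types false
set_option linter.style.haveILetI false

universe u

open CategoryTheory CategoryTheory.Limits AlgebraicGeometry

noncomputable section

namespace Groth.Agent.EtDD

theorem hasSecAll_proper {X S : Scheme.{u}} (f : X ⟶ S) [IsProper f] : HasSecAll f :=
  hasSecAll_of_univClosed f fun F =>
    EtH0Pair.isIso_baseChange0Sh_proper f _ _ f (IsPullback.of_hasPullback f f) F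

end Groth.Agent.EtDD
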