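import Groth.Agent.EtDD.FamPull

/-!
# Descent data through the single morphism `D ×_S X ⟶ D`, and limits of fibre products
-/

set_option autoImplicit false
set_option backward.isDefEq.respectTransparency false
set_option backward.isDefEq.respectTransparency.types false
set_option linter.style.haveILetI false
set_option maxHeartbeats 1000000

universe w u

open CategoryTheory CategoryTheory.Limits AlgebraicGeometry

noncomputable section

namespace Groth.Agent.EtDD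

open Groth.Agent.SchDescent

variable {X S : Scheme.{u}} (f : X ⟶ S)

/-- the data of a descent datum as one morphism with two identities -/
structure Psi (π : Over X) where
  /-- the structure morphism -/
  ψ : pullback (π.hom ≫ f) f ⟶ π.left
  lies : ψ ≫ π.hom = pullback.snd (π.hom ≫ f) f
  unit : pullback.lift (𝟙 π.left) π.hom (Category.id_comp _) ≫ ψ = 𝟙 _
  assoc : ∀ {T : Scheme.{u}} (v : T ⟶ π.left) (x₁ x₂ : T ⟶ X) (h₁ : v ≫ π.hom ≫ f = x₁ ≫ f)
    (h₂ : v ≫ π.hom ≫ f = x₂ ≫ f) (h₁₂ : (pullback.lift v x₁ h₁ ≫ ψ) ≫ π.hom ≫ f = x₂ ≫ f),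
    pullback.lift (pullback.lift v x₁ h₁ ≫ ψ) x₂ h₁₂ ≫ ψ = pullback.lift v x₂ h₂ ≫ ψ

namespace Psi

variable {f} {π : Over X} (P : Psi f π)

/-- the action on points -/
def act {T : Scheme.{u}} (v : T ⟶ π.left) (x : T ⟶ X) (h : v ≫ π.hom ≫ f = x ≫ f) : T ⟶ π.left :=
  pullback.lift v x h ≫ P.ψ

theorem act_over {T : Scheme.{u}} (v : T ⟶ π.left) (x : T ⟶ X) (h : v ≫ π.hom ≫ f = x ≫ f) :
    P.act v x h ≫ π.hom = x := by
  rw [act, Category.assoc, P.lies, pullback.lift_snd]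

theorem act_self {T : Scheme.{u}} (v : T ⟶ π.left) (x : T ⟶ X) (e : v ≫ π.hom = x)
    {h : v ≫ π.hom ≫ f = x ≫ f} : P.act v x h = v := by
  subst e
  have : pullback.lift (f := π.hom ≫ f) (g := f) v (v ≫ π.hom) h =
      v ≫ pullback.lift (𝟙 π.left) π.hom (Category.id_comp _) := by
    apply pullback.hom_ext <;> simp
  rw [act, this, Category.assoc, P.unit, Category.comp_id]

theorem comp_act {T T' : Scheme.{u}} (g : T' ⟶ T) (v : T ⟶ π.left) (x : T ⟶ X) (h : v ≫ π.hom ≫ f = x ≫ f) :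
    g ≫ P.act v x h = P.act (g ≫ v) (g ≫ x) (by simp only [Category.assoc, h]) := by
  rw [act, act, ← Category.assoc]
  congr 1
  apply pullback.hom_ext <;> simp

theorem act_act {T : Scheme.{u}} (v : T ⟶ π.left) (x₁ x₂ : T ⟶ X) (h₁ : v ≫ π.hom ≫ f = x₁ ≫ f)
    (h₁₂ : x₁ ≫ f = x₂ ≫ f) :
    P.act (P.act v x₁ h₁) x₂ (by rw [← Category.assoc, P.act_over, h₁₂]) = P.act v x₂ (h₁.trans h₁₂) :=
  P.assoc v x₁ x₂ h₁ (h₁.trans h₁₂) _

/-- the descent datum -/
def toSchDD : Desc.SchDD f where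
  obj := π
  φ T x₀ x₁ h :=
    { toFun := fun v => ⟨P.act v.1 x₁ (by rw [← Category.assoc, v.2, h]), P.act_over _ _ _⟩
      invFun := fun v => ⟨P.act v.1 x₀ (by rw [← Category.assoc, v.2, h]), P.act_over _ _ _⟩
      left_inv := fun v => Subtype.ext ((P.act_act v.1 x₁ x₀ _ h.symm).trans (P.act_self v.1 x₀ v.2))
      right_inv := fun v => Subtype.ext ((P.act_act v.1 x₀ x₁ _ h).trans (P.act_self v.1 x₁ v.2)) }
  φ_natural T T' g x₀ x₁ h h' v v' hv' := by
    obtain ⟨v', hv''⟩ := v'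
    change v' = g ≫ v.1 at hv'
    subst hv'
    exact (P.comp_act g v.1 x₁ _).symm
  φ_self T x v := Subtype.ext (P.act_self v.1 x v.2)
  φ_comp T x₀ x₁ x₂ h h' v := Subtype.ext (P.act_act v.1 x₁ x₂ _ h')

theorem tr_toSchDD {T : Scheme.{u}} (x : T ⟶ X) (v : T ⟶ π.left) (h : (v ≫ π.hom) ≫ f = x ≫ f) :
    tr P.toSchDD x v h = P.act v x ((Category.assoc _ _ _).symm.trans h) := rfl

end Psi

variable {f}

/-- the morphism of a descent datum -/
def psiOf (D : Desc.SchDD f) : pullback (D.obj.hom ≫ f) f ⟶ D.obj.left :=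
  tr D (pullback.snd _ _) (pullback.fst _ _) ((Category.assoc _ _ _).trans pullback.condition)

theorem psiOf_over (D : Desc.SchDD f) : psiOf D ≫ D.obj.hom = pullback.snd (D.obj.hom ≫ f) f := tr_over D _ _ _

theorem lift_psiOf (D : Desc.SchDD f) {T : Scheme.{u}} (v : T ⟶ D.obj.left) (x : T ⟶ X)
    (h : v ≫ D.obj.hom ≫ f = x ≫ f) :
    pullback.lift v x h ≫ psiOf D = tr D x v ((Category.assoc _ _ _).trans h) :=
  comp_tr D _ (pullback.lift_snd _ _ _) (pullback.lift_fst _ _ _)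

/-- **limits of fibre products over a fixed base** -/
def isLimitPairs {J : Type w} [Category.{w} J] [IsConnected J] {A B : J ⥤ Scheme.{u}} {cA : Cone A} {cB : Cone B}
    (hA : IsLimit cA) (hB : IsLimit cB) (a : ∀ j, A.obj j ⟶ S) (b : ∀ j, B.obj j ⟶ S)
    (α : cA.pt ⟶ S) (β : cB.pt ⟶ S) (hα : ∀ j, cA.π.app j ≫ a j = α) (hβ : ∀ j, cB.π.app j ≫ b j = β)
    {P : J ⥤ Scheme.{u}} (p₁ : P ⟶ A) (p₂ : P ⟶ B) (hP : ∀ j, IsPullback (p₁.app j) (p₂.app j) (a j) (b j))
    (c : Cone P) (π₁ : c.pt ⟶ cA.pt) (π₂ : c.pt ⟶ cB.pt) (hc : IsPullback π₁ π₂ α β)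
    (h₁ : ∀ j, c.π.app j ≫ p₁.app j = π₁ ≫ cA.π.app j) (h₂ : ∀ j, c.π.app j ≫ p₂.app j = π₂ ≫ cB.π.app j) :
    IsLimit c where
  lift s := hc.lift (hA.lift ((Cone.postcompose p₁).obj s)) (hB.lift ((Cone.postcompose p₂).obj s)) (by
    obtain ⟨j⟩ : Nonempty J := inferInstance
    rw [← hα j, ← hβ j, hA.fac_assoc, hB.fac_assoc]
    show (s.π.app j ≫ p₁.app j) ≫ a j = (s.π.app j ≫ p₂.app j) ≫ b j
    rw [Category.assoc, Category.assoc, (hP j).w])
  fac s j := by
    apply (hP j).hom_ext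
    · rw [Category.assoc, h₁, hc.lift_fst_assoc, hA.fac]; rfl
    · rw [Category.assoc, h₂, hc.lift_snd_assoc, hB.fac]; rfl
  uniq s m hm := by
    apply hc.hom_ext
    · rw [hc.lift_fst]
      refine hA.uniq ((Cone.postcompose p₁).obj s) _ fun j => ?_
      rw [Category.assoc, ← h₁, ← Category.assoc, hm]
      rfl
    · rw [hc.lift_snd]
      refine hB.uniq ((Cone.postcompose p₂).obj s) _ fun j => ?_
      rw [Category.assoc, ← h₂, ← Category.assoc, hm]
      rfl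

end Groth.Agent.EtDD
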