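import Groth.Agent.EtDD.Transfer
import Groth.Agent.EtShDesc.Charts
import Groth.Agent.EtInvariance.SchemePush

/-!
# Sections of pullbacks of representable sheaves on the small étale site
-/

set_option autoImplicit false
set_option backward.isDefEq.respectTransparency false
set_option backward.isDefEq.respectTransparency.types false
set_option linter.style.haveILetI false
set_option maxHeartbeats 1000000

universe u

open CategoryTheory CategoryTheory.Limits AlgebraicGeometry Opposite

noncomputable section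

namespace Groth.Agent.EtDD

open Groth.Agent.EtShLib Groth.Agent.EtShSep Groth.Agent.EtShDesc

variable {X : Scheme.{u}} (W : X.Etale)

/-- the representable presheaf is a sheaf -/
theorem isSheaf_rep : Presheaf.IsSheaf X.smallEtaleTopology (yoneda.obj W ⋙ uliftFunctor.{u + 1, u}) := by
  rw [isSheaf_iff_isSheaf_of_type]
  intro V R hR x hx
  haveI := V.prop
  haveI := W.prop
  choose V' g hg hv using fun v => EtInvariance.SchemePush.surjective_of_mem hR v
  let U := fun v => (V' v).left
  let G : (∐ U) ⟶ V.left := Sigma.desc fun v => (g v).left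
  haveI : Etale G := IsZariskiLocalAtSource.sigmaDesc (P := @Etale) fun v => EtShLib.etale_left (g v)
  haveI : Surjective G := ⟨fun v => by
    obtain ⟨w, hw⟩ := hv v
    exact ⟨Sigma.ι U v w, by rw [← Scheme.Hom.comp_apply, Sigma.ι_desc]; exact hw⟩⟩
  let m : (∐ U) ⟶ W.left := Sigma.desc fun v => (x (g v) (hg v)).down.left
  have hm : m ≫ W.hom = G ≫ V.hom := Sigma.hom_ext _ _ fun v => by
    simp only [m, G, Sigma.ι_desc_assoc]
    exact (MorphismProperty.Over.w (x (g v) (hg v)).down).trans (MorphismProperty.Over.w (g v)).symm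
  obtain ⟨e, ⟨he₁, he₂⟩, huniq⟩ := exists_desc (Purity.univSubmersive_of_universallyOpen G) V.hom W.hom m hm
    fun {Z} a b eab => by
      refine Scheme.Cover.hom_ext ((sigmaOpenCover U).pullback₁ a) _ _ fun i => ?_
      let p := pullback.fst a ((sigmaOpenCover U).f i)
      refine Scheme.Cover.hom_ext ((sigmaOpenCover U).pullback₁ (p ≫ b)) _ _ fun j => ?_
      let q := pullback.fst (p ≫ b) ((sigmaOpenCover U).f j)
      let mi : pullback (p ≫ b) ((sigmaOpenCover U).f j) ⟶ U i := q ≫ pullback.snd a ((sigmaOpenCover U).f i)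
      let mj : pullback (p ≫ b) ((sigmaOpenCover U).f j) ⟶ U j := pullback.snd (p ≫ b) ((sigmaOpenCover U).f j)
      have hi : q ≫ p ≫ a = mi ≫ Sigma.ι U i :=
        (congrArg (q ≫ ·) pullback.condition).trans (Category.assoc _ _ _).symm
      have hj : q ≫ p ≫ b = mj ≫ Sigma.ι U j := pullback.condition
      have hij : mi ≫ (g i).left = mj ≫ (g j).left := by
        have := congrArg (q ≫ p ≫ ·) eab
        simp only [← Category.assoc] at this
        simp only [Category.assoc q p, hi, hj] at this
        simpa only [Category.assoc, G, Sigma.ι_desc] using this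
      obtain ⟨P, α, β, hαβ, -⟩ := exists_fibreProd (g i) (g j)
      haveI := EtShLib.etale_left (g i)
      haveI := EtShLib.etale_left (g j)
      haveI := (V' i).prop
      let P' : X.Etale := Scheme.Etale.mk (pullback.fst (g i).left (g j).left ≫ (V' i).hom)
      let α' : P' ⟶ V' i := MorphismProperty.Over.homMk (pullback.fst (g i).left (g j).left) rfl
      let β' : P' ⟶ V' j := MorphismProperty.Over.homMk (pullback.snd (g i).left (g j).left) (by
        show pullback.snd (g i).left (g j).left ≫ (V' j).hom = pullback.fst (g i).left (g j).left ≫ (V' i).hom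
        rw [← MorphismProperty.Over.w (g i), ← MorphismProperty.Over.w (g j), pullback.condition_assoc])
      have key := hx α' β' (hg i) (hg j) (MorphismProperty.Over.Hom.ext pullback.condition)
      have key' : pullback.fst (g i).left (g j).left ≫ (x (g i) (hg i)).down.left =
          pullback.snd (g i).left (g j).left ≫ (x (g j) (hg j)).down.left :=
        congrArg (fun k => k.down.left) key
      show q ≫ p ≫ a ≫ m = q ≫ p ≫ b ≫ m
      calc q ≫ p ≫ a ≫ m = (q ≫ p ≫ a) ≫ m := by simp only [Category.assoc]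
        _ = mi ≫ (x (g i) (hg i)).down.left := by rw [hi, Category.assoc]; simp [m]
        _ = pullback.lift mi mj hij ≫ pullback.fst (g i).left (g j).left ≫ (x (g i) (hg i)).down.left := by
              rw [pullback.lift_fst_assoc]
        _ = mj ≫ (x (g j) (hg j)).down.left := by rw [key', pullback.lift_snd_assoc]
        _ = (q ≫ p ≫ b) ≫ m := by rw [hj, Category.assoc]; simp [m]
        _ = q ≫ p ≫ b ≫ m := by simp only [Category.assoc]
  refine ⟨⟨MorphismProperty.Over.homMk e he₁⟩, fun V₁ h₁ hh₁ => ?_, fun y hy => ?_⟩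
  · refine ULift.ext _ _ (MorphismProperty.Over.Hom.ext ?_)
    show h₁.left ≫ e = (x h₁ hh₁).down.left
    let q := pullback.fst h₁.left G
    haveI : Surjective q := inferInstance
    refine desc_ext q W.hom (((Category.assoc _ _ _).trans ((congrArg (h₁.left ≫ ·) he₁).trans
      (MorphismProperty.Over.w h₁))).trans (MorphismProperty.Over.w (x h₁ hh₁).down).symm) ?_
    rw [← Category.assoc, pullback.condition, Category.assoc, he₂]
    refine Scheme.Cover.hom_ext ((sigmaOpenCover U).pullback₁ (pullback.snd h₁.left G)) _ _ fun i => ?_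
    let q' := pullback.fst (pullback.snd h₁.left G) ((sigmaOpenCover U).f i)
    let mi : pullback (pullback.snd h₁.left G) ((sigmaOpenCover U).f i) ⟶ U i :=
      pullback.snd (pullback.snd h₁.left G) ((sigmaOpenCover U).f i)
    have hi : q' ≫ pullback.snd h₁.left G = mi ≫ Sigma.ι U i := pullback.condition
    have hsq : (q' ≫ q) ≫ h₁.left = mi ≫ (g i).left := by
      rw [Category.assoc, pullback.condition, ← Category.assoc, hi, Category.assoc, Sigma.ι_desc]
    haveI := EtShLib.etale_left h₁
    haveI := EtShLib.etale_left (g i)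
    haveI := V₁.prop
    let P' : X.Etale := Scheme.Etale.mk (pullback.fst h₁.left (g i).left ≫ V₁.hom)
    let α' : P' ⟶ V₁ := MorphismProperty.Over.homMk (pullback.fst h₁.left (g i).left) rfl
    let β' : P' ⟶ V' i := MorphismProperty.Over.homMk (pullback.snd h₁.left (g i).left) (by
      show pullback.snd h₁.left (g i).left ≫ (V' i).hom = pullback.fst h₁.left (g i).left ≫ V₁.hom
      rw [← MorphismProperty.Over.w (g i), ← MorphismProperty.Over.w h₁, pullback.condition_assoc])
    have key' : pullback.fst h₁.left (g i).left ≫ (x h₁ hh₁).down.left =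
        pullback.snd h₁.left (g i).left ≫ (x (g i) (hg i)).down.left :=
      congrArg (fun k => k.down.left) (hx α' β' hh₁ (hg i) (MorphismProperty.Over.Hom.ext pullback.condition))
    show q' ≫ pullback.snd h₁.left G ≫ m = q' ≫ q ≫ _
    calc q' ≫ pullback.snd h₁.left G ≫ m = mi ≫ (x (g i) (hg i)).down.left := by
          rw [← Category.assoc, hi, Category.assoc]; simp [m]
      _ = pullback.lift (q' ≫ q) mi hsq ≫ pullback.snd h₁.left (g i).left ≫ (x (g i) (hg i)).down.left := by
          rw [pullback.lift_snd_assoc]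
      _ = q' ≫ q ≫ (x h₁ hh₁).down.left := by rw [← key', pullback.lift_fst_assoc, Category.assoc]
  · refine ULift.ext _ _ (MorphismProperty.Over.Hom.ext ?_)
    refine huniq _ ⟨MorphismProperty.Over.w y.down, Sigma.hom_ext _ _ fun v => ?_⟩
    rw [← Category.assoc]
    simp only [G, m, Sigma.ι_desc]
    exact congrArg (fun k => k.down.left) (hy (g v) (hg v))

/-- the sheaf represented by an object of the small étale site -/
def repS : EtDesc.Sh X := ⟨_, isSheaf_rep W⟩

/-- a morphism over the base as a section -/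
def rs {o : X.Etale} (h : o ⟶ W) : EtDesc.sect (repS W) o := (⟨h⟩ : ULift.{u + 1} (o ⟶ W))

/-- the section pulled back along a point -/
def pt {T : Scheme.{u}} (u : T ⟶ X) (v : T ⟶ W.left) (hv : v ≫ W.hom = u) : Sec (repS W) u :=
  pb (repS W) u v hv (rs W (𝟙 W))

theorem res_pt {T T' : Scheme.{u}} (g : T' ⟶ T) (u : T ⟶ X) (u' : T' ⟶ X) (hu : g ≫ u = u') (v : T ⟶ W.left)
    (hv : v ≫ W.hom = u) :
    res (repS W) g u u' hu (pt W u v hv) = pt W u' (g ≫ v) (by rw [Category.assoc, hv, hu]) :=
  res_pb (repS W) g u u' hu v hv _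

theorem pb_eq_pt {T : Scheme.{u}} (u : T ⟶ X) {o : X.Etale} (n : T ⟶ o.left) (w : n ≫ o.hom = u) (h : o ⟶ W) :
    pb (repS W) u n w (rs W h) =
      pt W u (n ≫ h.left) ((Category.assoc _ _ _).trans ((congrArg (n ≫ ·) (MorphismProperty.Over.w h)).trans w)) := by
  have e : rs W h = (repS W).obj.map h.op (rs W (𝟙 W)) := by
    refine ULift.ext _ _ ?_
    exact (Category.comp_id h).symm
  rw [e, pb_res]
  rfl

theorem pt_injective {T : Scheme.{u}} (u : T ⟶ X) {v v' : T ⟶ W.left} (hv : v ≫ W.hom = u) (hv' : v' ≫ W.hom = u)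
    (e : pt W u v hv = pt W u v' hv') : v = v' := by
  haveI := W.prop
  let o : X.Etale := Scheme.Etale.mk (pullback.fst W.hom W.hom ≫ W.hom)
  let p₁ : o ⟶ W := MorphismProperty.Over.homMk (pullback.fst W.hom W.hom) rfl
  let p₂ : o ⟶ W := MorphismProperty.Over.homMk (pullback.snd W.hom W.hom) pullback.condition.symm
  let n : T ⟶ o.left := pullback.lift v v' (hv.trans hv'.symm)
  have hn₁ : n ≫ p₁.left = v := pullback.lift_fst _ _ _
  have hn₂ : n ≫ p₂.left = v' := pullback.lift_snd _ _ _
  have hn : n ≫ o.hom = u := by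
    show n ≫ pullback.fst W.hom W.hom ≫ W.hom = u
    rw [← Category.assoc, pullback.lift_fst, hv]
  have e' : pb (repS W) u n hn (rs W p₁) = pb (repS W) u n hn (rs W p₂) := by
    rw [pb_eq_pt, pb_eq_pt]
    simpa only [hn₁, hn₂] using e
  refine EtaleSections.eq_of_eqLocus_eq_univ W.hom v v' (hv.trans hv'.symm) (Set.eq_univ_of_forall fun p => ?_)
  have hp : n p ∈ eqLoc (repS W) o (rs W p₁) (rs W p₂) := by
    refine (mem_eqLoc_pb (repS W) u n hn (rs W p₁) (rs W p₂) p).mp ?_
    rw [e', eqLoc_self]
    trivial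
  obtain ⟨Z, c, ⟨z, hz⟩, hc⟩ := hp
  have hc' : c.left ≫ pullback.fst W.hom W.hom = c.left ≫ pullback.snd W.hom W.hom :=
    congrArg (fun k : ULift.{u + 1} (Z ⟶ W) => k.down.left) hc
  show n p ∈ Set.range (pullback.diagonal W.hom)
  refine ⟨(c.left ≫ pullback.fst W.hom W.hom) z, ?_⟩
  rw [← Scheme.Hom.comp_apply, show (c.left ≫ pullback.fst W.hom W.hom) ≫ pullback.diagonal W.hom = c.left by
    apply pullback.hom_ext
    · simp
    · simpa using hc']
  exact hz

/-- sections of the pullback of a representable sheaf are points -/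
theorem exists_pt {T : Scheme.{u}} (u : T ⟶ X) (x : Sec (repS W) u) :
    ∃ (v : T ⟶ W.left) (hv : v ≫ W.hom = u), x = pt W u v hv := by
  haveI := W.prop
  choose V o n w s hp e using fun p => exists_pb (repS W) u x p
  let c : ∀ p, (V p).left ⟶ W.left := fun p => n p ≫ (ULift.down (s p : ULift.{u + 1} (o p ⟶ W))).left
  have hc : ∀ p, c p ≫ W.hom = (V p).hom ≫ u := fun p =>
    (Category.assoc _ _ _).trans ((congrArg (n p ≫ ·)
      (MorphismProperty.Over.w (ULift.down (s p : ULift.{u + 1} (o p ⟶ W))))).trans (w p))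
  have hx : ∀ p, res (repS W) (V p).hom u _ rfl x = pt W _ (c p) (hc p) := fun p =>
    (e p).trans (pb_eq_pt W _ (n p) (w p) _)
  let U := fun p => (V p).left
  let G : (∐ U) ⟶ T := Sigma.desc fun p => (V p).hom
  haveI : Etale G := IsZariskiLocalAtSource.sigmaDesc (P := @Etale) fun p => (V p).prop
  haveI : Surjective G := ⟨fun p => by
    obtain ⟨q, hq⟩ := hp p
    exact ⟨Sigma.ι U p q, by rw [← Scheme.Hom.comp_apply, Sigma.ι_desc]; exact hq⟩⟩
  let m : (∐ U) ⟶ W.left := Sigma.desc c
  have hm : m ≫ W.hom = G ≫ u := Sigma.hom_ext _ _ fun p => by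
    simp only [m, G, Sigma.ι_desc_assoc]
    exact hc p
  have hGx : res (repS W) G u (G ≫ u) rfl x = pt W (G ≫ u) m hm := by
    refine sec_ext (repS W) _ _ _ fun q => ?_
    obtain ⟨p, z, hz⟩ := (sigmaOpenCover U).exists_eq q
    haveI : Etale (Sigma.ι U p) := inferInstanceAs (Etale ((sigmaOpenCover U).f p))
    refine ⟨Scheme.Etale.mk (Sigma.ι U p), ⟨z, hz⟩, ?_⟩
    show res (repS W) (Sigma.ι U p) (G ≫ u) _ rfl (res (repS W) G u (G ≫ u) rfl x) =
      res (repS W) (Sigma.ι U p) (G ≫ u) _ rfl (pt W (G ≫ u) m hm)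
    rw [res_res (repS W) G (Sigma.ι U p) (V p).hom (Sigma.ι_desc _ _), res_pt]
    have hh : Sigma.ι U p ≫ G ≫ u = (V p).hom ≫ u := by simp [G, U]
    have h3 : ∀ (w' : (V p).left ⟶ X) (hw : (V p).hom ≫ u = w') (hw' : c p ≫ W.hom = w'),
        res (repS W) (V p).hom u w' hw x = pt W w' (c p) hw' := by
      rintro _ rfl hw'; exact hx p
    refine (h3 _ hh.symm ((hc p).trans hh.symm)).trans ?_
    exact pb_congr (repS W) _ (by simp [m]) _ _
  obtain ⟨v, ⟨hv₁, hv₂⟩, -⟩ := exists_desc (Purity.univSubmersive_of_universallyOpen G) u W.hom m hm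
    fun {Z} a b eab => by
      have eab' : b ≫ G ≫ u = a ≫ G ≫ u := by rw [← Category.assoc, ← eab, Category.assoc]
      refine pt_injective W (a ≫ G ≫ u) (by rw [Category.assoc, hm]) (by rw [Category.assoc, hm, eab']) ?_
      rw [← res_pt W a (G ≫ u) _ rfl m hm, ← res_pt W b (G ≫ u) _ eab' m hm, ← hGx,
        res_res (repS W) G a (a ≫ G) rfl, res_res (repS W) G b (a ≫ G) eab.symm]
  refine ⟨v, hv₁, injective_res (repS W) G u (G ≫ u) rfl (surjective_subm (Purity.univSubmersive_of_universallyOpen G)).surj ?_⟩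
  rw [hGx, res_pt]
  exact pb_congr (repS W) _ hv₂.symm _ _

end Groth.Agent.EtDD
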