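import Groth.Agent.W7Hull.NearLimit
import Groth.Agent.LimModel.Cover

/-!
# Spreading morphisms from `Spec O_{S,a}` to neighbourhoods of `a`, in terms of points
-/

set_option autoImplicit false
set_option backward.isDefEq.respectTransparency false
set_option backward.isDefEq.respectTransparency.types false
set_option linter.style.haveILetI false
set_option maxHeartbeats 1000000

universe u

open CategoryTheory CategoryTheory.Limits AlgebraicGeometry
open Groth.Agent.W7Hull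

noncomputable section

namespace Groth.Agent.EtDD

variable {S : Scheme.{u}} (a : S)

/-- preimages of affine neighbourhoods contained in `V₀` are qcqs -/
structure GoodNear (V₀ : NearLimit.Idx a) {P : Scheme.{u}} (f : P ⟶ S) : Prop where
  compact : ∀ V : NearLimit.Idx a, V.1 ≤ V₀.1 → IsCompact ((f ⁻¹ᵁ V.1 : P.Opens) : Set P)
  qs : QuasiSeparatedSpace ↑(f ⁻¹ᵁ V₀.1 : P.Opens).toScheme

variable {a} {V₀ : NearLimit.Idx a} {P : Scheme.{u}} {f : P ⟶ S}

/-- the point of the preimage through which a point over `V` factors -/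
def inPre {T : Scheme.{u}} (V : S.Opens) (t : T ⟶ P) (h : Set.range (t ≫ f) ⊆ V) : T ⟶ (f ⁻¹ᵁ V).toScheme :=
  IsOpenImmersion.lift (f ⁻¹ᵁ V).ι t (by
    rw [Scheme.Opens.range_ι]
    rintro _ ⟨x, rfl⟩
    exact h ⟨x, Scheme.Hom.comp_apply _ _ x⟩)

@[reassoc (attr := simp)]
theorem inPre_ι {T : Scheme.{u}} (V : S.Opens) (t : T ⟶ P) (h : Set.range (t ≫ f) ⊆ V) :
    inPre V t h ≫ (f ⁻¹ᵁ V).ι = t := IsOpenImmersion.lift_fac _ _ _

theorem comp_inPre {T T' : Scheme.{u}} (g : T' ⟶ T) (V : S.Opens) (t : T ⟶ P) (h : Set.range (t ≫ f) ⊆ V)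
    (h' : Set.range ((g ≫ t) ≫ f) ⊆ V) : g ≫ inPre V t h = inPre V (g ≫ t) h' := by
  rw [← cancel_mono (f ⁻¹ᵁ V).ι]; simp

theorem inPre_self (V : S.Opens) (h : Set.range ((f ⁻¹ᵁ V).ι ≫ f) ⊆ V) : inPre V (f ⁻¹ᵁ V).ι h = 𝟙 _ := by
  rw [← cancel_mono (f ⁻¹ᵁ V).ι]; simp

theorem range_ι_comp (f : P ⟶ S) (V : S.Opens) : Set.range ((f ⁻¹ᵁ V).ι ≫ f) ⊆ V := by
  rintro _ ⟨x, rfl⟩
  rw [Scheme.Hom.comp_apply]
  exact x.2

theorem range_comp_fromSpecStalk_subset {T : Scheme.{u}} {t : T ⟶ P} {s : T ⟶ Spec (S.presheaf.stalk a)}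
    (e : t ≫ f = s ≫ S.fromSpecStalk a) (V : NearLimit.Idx a) : Set.range (t ≫ f) ⊆ V.1 := by
  rw [e]
  rintro _ ⟨x, rfl⟩
  rw [Scheme.Hom.comp_apply]
  have h : S.fromSpecStalk a (s x) ∈ Set.range (S.fromSpecStalk a) := ⟨_, rfl⟩
  rw [Scheme.range_fromSpecStalk] at h
  exact h.mem_open V.1.2 V.2.2

theorem range_mono {T : Scheme.{u}} {t : T ⟶ S} {V W : S.Opens} (h : V ≤ W) (ht : Set.range t ⊆ V) : Set.range t ⊆ W :=
  ht.trans h

variable (V₀) (f) in
/-- the restricted limit system -/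
def nearDiag : Over V₀ ⥤ Scheme.{u} := Over.forget V₀ ⋙ NearLimit.diag f a

variable (V₀) (f) in
/-- its cone -/
def nearCone : Cone (nearDiag V₀ f) := (NearLimit.cone f a).whisker (Over.forget V₀)

variable (V₀) (f) in
/-- which is a limit -/
def nearLimit : IsLimit (nearCone V₀ f) :=
  (Functor.Initial.isLimitWhiskerEquiv (Over.forget V₀) _).symm (NearLimit.isLimit f a)

instance {j k : Over V₀} (h : j ⟶ k) : IsAffineHom ((nearDiag V₀ f).map h) := NearLimit.isAffineHom_map f a h.left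

theorem GoodNear.compactSpace_obj (hf : GoodNear a V₀ f) (j : Over V₀) : CompactSpace ↑((nearDiag V₀ f).obj j) :=
  isCompact_iff_compactSpace.1 (hf.compact j.left (leOfHom j.hom))

theorem GoodNear.quasiSeparatedSpace_obj (hf : GoodNear a V₀ f) (j : Over V₀) :
    QuasiSeparatedSpace ↑((nearDiag V₀ f).obj j) :=
  haveI := hf.qs
  QuasiSeparatedSpace.of_isOpenEmbedding
    (P.homOfLE (f.preimage_mono (leOfHom j.hom))).isOpenEmbedding

theorem nearCone_app_eq (j : Over V₀) (h : Set.range (pullback.fst f (S.fromSpecStalk a) ≫ f) ⊆ j.left.1) :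
    (nearCone V₀ f).π.app j = inPre j.left.1 (pullback.fst f (S.fromSpecStalk a)) h := by
  rw [← cancel_mono (f ⁻¹ᵁ j.left.1).ι, inPre_ι]
  exact NearLimit.cone_fac f a j.left

/-- **morphisms spread** -/
theorem exists_stage_hom (hf : GoodNear a V₀ f) {Z D : Scheme.{u}} (q : P ⟶ Z) (π : D ⟶ Z)
    [LocallyOfFinitePresentation π] (m : pullback f (S.fromSpecStalk a) ⟶ D) (hm : m ≫ π = pullback.fst f _ ≫ q) :
    ∃ (V : NearLimit.Idx a) (_ : V.1 ≤ V₀.1) (m' : (f ⁻¹ᵁ V.1).toScheme ⟶ D), m' ≫ π = (f ⁻¹ᵁ V.1).ι ≫ q ∧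
      ∀ ⦃T : Scheme.{u}⦄ (t : T ⟶ P) (s : T ⟶ Spec (S.presheaf.stalk a)) (e : t ≫ f = s ≫ S.fromSpecStalk a),
        inPre V.1 t (range_comp_fromSpecStalk_subset e V) ≫ m' = pullback.lift t s e ≫ m := by
  haveI := hf.compactSpace_obj
  haveI := hf.quasiSeparatedSpace_obj
  obtain ⟨j, m', h₁, h₂⟩ := Scheme.exists_π_app_comp_eq_of_locallyOfFinitePresentation (nearDiag V₀ f)
    { app := fun j => (f ⁻¹ᵁ j.left.1).ι ≫ q, naturality := fun j k h => by
        simp [nearDiag, NearLimit.diag] } π (nearCone V₀ f) (nearLimit V₀ f) m (by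
      ext j
      simp only [NatTrans.comp_app, Functor.const_map_app]
      rw [hm, ← Category.assoc]
      exact congrArg (· ≫ q) (NearLimit.cone_fac f a j.left))
  refine ⟨j.left, leOfHom j.hom, m', h₂, fun T t s e => ?_⟩
  rw [← h₁, ← Category.assoc]
  refine congrArg (· ≫ m') ?_
  rw [← cancel_mono (f ⁻¹ᵁ j.left.1).ι, inPre_ι, Category.assoc]
  exact ((congrArg (pullback.lift t s e ≫ ·) (NearLimit.cone_fac f a j.left)).trans (pullback.lift_fst _ _ _)).symm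

/-- **equations spread** -/
theorem exists_stage_eq (hf : GoodNear a V₀ f) {V : NearLimit.Idx a} (hV : V.1 ≤ V₀.1) {Z D : Scheme.{u}} (q : P ⟶ Z)
    (π : D ⟶ Z) [LocallyOfFiniteType π] (h₁ h₂ : (f ⁻¹ᵁ V.1).toScheme ⟶ D)
    (e₁ : h₁ ≫ π = (f ⁻¹ᵁ V.1).ι ≫ q) (e₂ : h₂ ≫ π = (f ⁻¹ᵁ V.1).ι ≫ q)
    (H : ∀ ⦃T : Scheme.{u}⦄ (t : T ⟶ P) (s : T ⟶ Spec (S.presheaf.stalk a)) (e : t ≫ f = s ≫ S.fromSpecStalk a),
        inPre V.1 t (range_comp_fromSpecStalk_subset e V) ≫ h₁ = inPre V.1 t (range_comp_fromSpecStalk_subset e V) ≫ h₂) :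
    ∃ (W : NearLimit.Idx a) (hW : W.1 ≤ V.1), ∀ ⦃T : Scheme.{u}⦄ (t : T ⟶ P) (h : Set.range (t ≫ f) ⊆ W.1),
      inPre V.1 t (range_mono hW h) ≫ h₁ = inPre V.1 t (range_mono hW h) ≫ h₂ := by
  haveI := hf.compactSpace_obj
  haveI := hf.quasiSeparatedSpace_obj
  let j : Over V₀ := Over.mk (homOfLE (show V ≤ V₀ from hV))
  obtain ⟨k, φ, hk⟩ := Scheme.exists_hom_comp_eq_comp_of_locallyOfFiniteType (nearDiag V₀ f)
    { app := fun j => (f ⁻¹ᵁ j.left.1).ι ≫ q, naturality := fun j k h => by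
        simp [nearDiag, NearLimit.diag] } π (nearCone V₀ f) (nearLimit V₀ f) (i := j) h₁ h₂ e₁.symm e₂.symm (by
      rw [nearCone_app_eq j (range_comp_fromSpecStalk_subset pullback.condition V)]
      exact H _ _ pullback.condition)
  refine ⟨k.left, (leOfHom φ.left : k.left.1 ≤ V.1), fun T t h => ?_⟩
  have e : inPre k.left.1 t h ≫ P.homOfLE (f.preimage_mono (show k.left.1 ≤ V.1 from leOfHom φ.left)) =
      inPre V.1 t (range_mono (show k.left.1 ≤ V.1 from leOfHom φ.left) h) := by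
    rw [← cancel_mono (f ⁻¹ᵁ V.1).ι]; simp
  rw [← e, Category.assoc, Category.assoc]
  exact congrArg (inPre k.left.1 t h ≫ ·) hk

end Groth.Agent.EtDD
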