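import Groth.Agent.EtDD.FamPull
import Groth.Agent.EtDD.StageNear

/-!
# Effectivity of étale descent data spreads from `Spec O_{S,a}` to a neighbourhood of `a`
-/

set_option autoImplicit false
set_option backward.isDefEq.respectTransparency false
set_option backward.isDefEq.respectTransparency.types false
set_option linter.style.haveILetI false
set_option maxHeartbeats 2000000

universe u

open CategoryTheory CategoryTheory.Limits AlgebraicGeometry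
open Groth.Agent.W7Hull

noncomputable section

namespace Groth.Agent.EtDD

open Groth.Agent.SchDescent

variable {S : Scheme.{u}} {a : S}

/-- evaluation on points of a morphism defined on a preimage -/
def ev {P Q : Scheme.{u}} (f : P ⟶ S) {V : S.Opens} (m : (f ⁻¹ᵁ V).toScheme ⟶ Q) {T : Scheme.{u}} (t : T ⟶ P)
    (h : Set.range (t ≫ f) ⊆ V) : T ⟶ Q := inPre V t h ≫ m

theorem range_comp_mono {P : Scheme.{u}} {f : P ⟶ S} {T T' : Scheme.{u}} (g : T' ⟶ T) {t : T ⟶ P} {V : Set S}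
    (h : Set.range (t ≫ f) ⊆ V) : Set.range ((g ≫ t) ≫ f) ⊆ V := by
  rintro _ ⟨x, rfl⟩
  rw [Category.assoc, Scheme.Hom.comp_apply]
  exact h ⟨_, rfl⟩

theorem comp_ev {P Q : Scheme.{u}} (f : P ⟶ S) {V : S.Opens} (m : (f ⁻¹ᵁ V).toScheme ⟶ Q) {T T' : Scheme.{u}}
    (g : T' ⟶ T) (t : T ⟶ P) (h : Set.range (t ≫ f) ⊆ V) :
    g ≫ ev f m t h = ev f m (g ≫ t) (range_comp_mono g h) := by
  rw [ev, ← Category.assoc, comp_inPre]
  rfl

theorem ev_congr {P Q : Scheme.{u}} (f : P ⟶ S) {V : S.Opens} (m : (f ⁻¹ᵁ V).toScheme ⟶ Q) {T : Scheme.{u}}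
    {t t' : T ⟶ P} (e : t = t') {h : Set.range (t ≫ f) ⊆ V} {h' : Set.range (t' ≫ f) ⊆ V} :
    ev f m t h = ev f m t' h' := by
  subst e; rfl

theorem ev_over {P Q Z : Scheme.{u}} (f : P ⟶ S) {V : S.Opens} {m : (f ⁻¹ᵁ V).toScheme ⟶ Q} {q : P ⟶ Z} {π : Q ⟶ Z}
    (hm : m ≫ π = (f ⁻¹ᵁ V).ι ≫ q) {T : Scheme.{u}} (t : T ⟶ P) (h : Set.range (t ≫ f) ⊆ V) :
    ev f m t h ≫ π = t ≫ q := by
  rw [ev, Category.assoc, hm, inPre_ι_assoc]

variable {X : Scheme.{u}} {g : X ⟶ S}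

set_option maxHeartbeats 4000000 in
/-- **spreading out**: a bijective compatible section over the local scheme spreads to a neighbourhood -/
theorem exists_open_sec_of_stalk [QuasiCompact g] [QuasiSeparated g] [LocallyOfFinitePresentation g] [Surjective g]
    (D : Desc.SchDD g) [Etale D.obj.hom] [QuasiCompact D.obj.hom] [QuasiSeparated D.obj.hom] (a : S)
    (U : Over (Spec (S.presheaf.stalk a))) [Etale U.hom]
    (σ : pullback g (U.hom ≫ S.fromSpecStalk a) ⟶ D.obj.left) (hσ : SecCompat D (U.hom ≫ S.fromSpecStalk a) σ)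
    (hP : IsPullback σ (pullback.snd g (U.hom ≫ S.fromSpecStalk a) ≫ U.hom) (D.obj.hom ≫ g) (S.fromSpecStalk a)) :
    ∃ (W : S.Opens) (_ : a ∈ W) (U' : Over (W : Scheme.{u})) (σ' : pullback g (U'.hom ≫ W.ι) ⟶ D.obj.left),
      Etale U'.hom ∧ SecCompat D (U'.hom ≫ W.ι) σ' ∧ IsOpenImmersion σ' ∧
      ∀ d : D.obj.left, g (D.obj.hom d) ∈ W → d ∈ Set.range σ' := by
  let b := S.fromSpecStalk a
  let π := D.obj.hom
  -- `U` is qcqs
  let z := pullback.snd g (U.hom ≫ b)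
  haveI : Surjective z := inferInstance
  haveI : QuasiCompact (z ≫ U.hom) := MorphismProperty.of_isPullback (P := @QuasiCompact) hP inferInstance
  haveI : QuasiSeparated (z ≫ U.hom) := MorphismProperty.of_isPullback (P := @QuasiSeparated) hP inferInstance
  haveI : CompactSpace ↑(pullback g (U.hom ≫ b)) := QuasiCompact.compactSpace_of_compactSpace (z ≫ U.hom)
  haveI : QuasiSeparatedSpace ↑(pullback g (U.hom ≫ b)) := quasiSeparatedSpace_of_quasiSeparated (z ≫ U.hom)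
  haveI : CompactSpace U.left := ⟨by
    have := (isCompact_univ (X := ↑(pullback g (U.hom ≫ b)))).image z.continuous
    rwa [Set.image_univ, z.surjective.range_eq] at this⟩
  haveI : QuasiSeparatedSpace U.left := ⟨fun K L hKo hKc hLo hLc => by
    have := (IsCompact.inter_of_isOpen (QuasiCompact.isCompact_preimage (f := z) K hKo hKc)
      (QuasiCompact.isCompact_preimage (f := z) L hLo hLc) (hKo.preimage z.continuous)
      (hLo.preimage z.continuous)).image z.continuous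
    rwa [← Set.preimage_inter, Set.image_preimage_eq _ z.surjective] at this⟩
  haveI : QuasiCompact U.hom := inferInstance
  haveI : QuasiSeparated U.hom := inferInstance
  -- a model over an affine neighbourhood
  let V₀ : NearLimit.Idx a := Classical.arbitrary _
  have hid : GoodNear a V₀ (𝟙 S) := ⟨fun V _ => by simpa using V.2.1.isCompact, by
    haveI : IsAffine ↑((𝟙 S) ⁻¹ᵁ V₀.1) := V₀.2.1
    infer_instance⟩
  haveI := hid.compactSpace_obj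
  haveI := hid.quasiSeparatedSpace_obj
  let u' : U.left ⟶ (nearCone V₀ (𝟙 S)).pt := U.hom ≫ inv (pullback.snd (𝟙 S) b)
  haveI : Etale u' := inferInstanceAs (Etale (U.hom ≫ inv (pullback.snd (𝟙 S) b)))
  obtain ⟨j, U₀, f₀, r, hf₀, -, hqc₀, hqs₀, hsq⟩ := LimModel.exists_model_prop (nearDiag V₀ (𝟙 S)) (nearCone V₀ (𝟙 S))
    (nearLimit V₀ (𝟙 S)) u' @Etale LimMore.descendsToStage_etale ‹_›
  let V₁ := j.left
  let u₀ : U₀ ⟶ S := f₀ ≫ ((𝟙 S) ⁻¹ᵁ V₁.1).ι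
  haveI : Etale f₀ := hf₀
  haveI : Etale u₀ := inferInstanceAs (Etale (f₀ ≫ ((𝟙 S) ⁻¹ᵁ V₁.1).ι))
  have hcone : (nearCone V₀ (𝟙 S)).π.app j ≫ ((𝟙 S) ⁻¹ᵁ V₁.1).ι = pullback.snd (𝟙 S) b ≫ b := by
    refine (NearLimit.cone_fac (𝟙 S) a V₁).trans ?_
    rw [← pullback.condition, Category.comp_id]
  have hr : r ≫ u₀ = U.hom ≫ b := by
    show r ≫ f₀ ≫ _ = _
    rw [hsq.w_assoc]
    refine (congrArg (u' ≫ ·) hcone).trans ?_
    show (U.hom ≫ inv _) ≫ _ = _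
    rw [Category.assoc, IsIso.inv_hom_id_assoc]
  have hlift : ∀ {T : Scheme.{u}} (t : T ⟶ U₀) (s : T ⟶ Spec (S.presheaf.stalk a)), t ≫ u₀ = s ≫ b →
      ∃ v : T ⟶ U.left, v ≫ r = t ∧ v ≫ U.hom = s := by
    intro T t s e
    refine ⟨hsq.lift t (s ≫ inv (pullback.snd (𝟙 S) b)) ?_, hsq.lift_fst _ _ _, ?_⟩
    · rw [← cancel_mono ((𝟙 S) ⁻¹ᵁ V₁.1).ι, Category.assoc]
      refine e.trans ?_
      symm
      refine (Category.assoc _ _ _).trans ((congrArg (_ ≫ ·) hcone).trans ?_)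
      rw [Category.assoc, IsIso.inv_hom_id_assoc]
    · refine (cancel_mono (inv (pullback.snd (𝟙 S) b))).1 ?_
      rw [Category.assoc]
      exact hsq.lift_snd _ _ _
  have hU_ext : ∀ {T : Scheme.{u}} {v v' : T ⟶ U.left}, v ≫ r = v' ≫ r → v ≫ U.hom = v' ≫ U.hom → v = v' :=
    fun h h' => hsq.hom_ext h (by simp only [u', reassoc_of% h'])
  -- the qcqs schemes involved
  haveI : IsAffine ↑((𝟙 S) ⁻¹ᵁ V₁.1) := V₁.2.1
  haveI : QuasiCompact f₀ := hqc₀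
  haveI : QuasiSeparated f₀ := hqs₀
  haveI : QuasiSeparatedSpace U₀ := quasiSeparatedSpace_of_quasiSeparated f₀
  let A := pullback g u₀
  let fA : A ⟶ S := pullback.fst g u₀ ≫ g
  have hcA : ∀ V : NearLimit.Idx a, V.1 ≤ V₁.1 → IsCompact ((fA ⁻¹ᵁ V.1 : A.Opens) : Set A) := fun V hV => by
    have e : fA ⁻¹ᵁ V.1 = pullback.snd g u₀ ⁻¹ᵁ (f₀ ⁻¹ᵁ ((𝟙 S) ⁻¹ᵁ V₁.1).ι ⁻¹ᵁ V.1) := by
      rw [← Scheme.Hom.comp_preimage f₀, ← Scheme.Hom.comp_preimage (pullback.snd g u₀)]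
      exact congrArg (fun h : A ⟶ S => h ⁻¹ᵁ V.1) pullback.condition
    rw [e]
    refine QuasiCompact.isCompact_preimage (f := pullback.snd g u₀)
      ((f₀ ⁻¹ᵁ ((𝟙 S) ⁻¹ᵁ V₁.1).ι ⁻¹ᵁ V.1 : U₀.Opens) : Set U₀) (f₀ ⁻¹ᵁ ((𝟙 S) ⁻¹ᵁ V₁.1).ι ⁻¹ᵁ V.1).2 ?_
    refine QuasiCompact.isCompact_preimage (f := f₀)
      ((((𝟙 S) ⁻¹ᵁ V₁.1).ι ⁻¹ᵁ V.1 : ((𝟙 S) ⁻¹ᵁ V₁.1).toScheme.Opens) : Set ((𝟙 S) ⁻¹ᵁ V₁.1).toScheme)
      (((𝟙 S) ⁻¹ᵁ V₁.1).ι ⁻¹ᵁ V.1).2 ?_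
    exact (V.2.1.preimage_of_isOpenImmersion _ (by rw [Scheme.Opens.opensRange_ι]; exact hV)).isCompact
  haveI : QuasiSeparatedSpace A := quasiSeparatedSpace_of_quasiSeparated (pullback.snd g u₀)
  have hGA : GoodNear a V₁ fA := ⟨hcA, QuasiSeparatedSpace.of_isOpenEmbedding (fA ⁻¹ᵁ V₁.1).ι.isOpenEmbedding⟩
  let R := pullback (pullback.snd g u₀) (pullback.snd g u₀)
  let p₀ : R ⟶ A := pullback.fst _ _
  let p₁ : R ⟶ A := pullback.snd _ _
  let fR : R ⟶ S := p₀ ≫ fA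
  haveI : QuasiSeparatedSpace R := quasiSeparatedSpace_of_quasiSeparated p₀
  have hGR : GoodNear a V₁ fR := ⟨fun V hV => by
    rw [Scheme.Hom.comp_preimage]
    exact QuasiCompact.isCompact_preimage (f := p₀) _ (fA ⁻¹ᵁ V.1).2 (hcA V hV),
    QuasiSeparatedSpace.of_isOpenEmbedding (fR ⁻¹ᵁ V₁.1).ι.isOpenEmbedding⟩
  have hp₁ : p₁ ≫ fA = fR := by
    show p₁ ≫ pullback.fst g u₀ ≫ g = p₀ ≫ pullback.fst g u₀ ≫ g
    simp only [pullback.condition, p₀, p₁, pullback.condition_assoc]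
  let fB : D.obj.left ⟶ S := π ≫ g
  have hGB : GoodNear a V₁ fB := ⟨fun V _ => (fB.isCompact_preimage V.2.1.isCompact), by
    haveI : IsAffine (V₁.1 : Scheme.{u}) := V₁.2.1
    exact quasiSeparatedSpace_of_quasiSeparated (fB ∣_ V₁.1)⟩
  -- the morphisms over the local scheme
  have hm_ex : ∀ {T : Scheme.{u}} (t : T ⟶ A) (s : T ⟶ Spec (S.presheaf.stalk a)), t ≫ fA = s ≫ b →
      ∃ y : T ⟶ pullback g (U.hom ≫ b), y ≫ pullback.fst g (U.hom ≫ b) = t ≫ pullback.fst g u₀ ∧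
        y ≫ pullback.snd g (U.hom ≫ b) ≫ r = t ≫ pullback.snd g u₀ ∧
        y ≫ pullback.snd g (U.hom ≫ b) ≫ U.hom = s := by
    intro T t s e
    obtain ⟨v, hv₁, hv₂⟩ := hlift (t ≫ pullback.snd g u₀) s (by rw [Category.assoc, ← pullback.condition, e])
    refine ⟨pullback.lift (t ≫ pullback.fst g u₀) v (by rw [Category.assoc, ← reassoc_of% hv₂] at *; rw [e, reassoc_of% hv₂]),
      pullback.lift_fst _ _ _, ?_, ?_⟩
    · rw [pullback.lift_snd_assoc, hv₁]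
    · rw [pullback.lift_snd_assoc, hv₂]
  choose toU hT₁ hT₂ hT₃ using @hm_ex
  have htoU_ext : ∀ {T : Scheme.{u}} {y y' : T ⟶ pullback g (U.hom ≫ b)},
      y ≫ pullback.fst g (U.hom ≫ b) = y' ≫ pullback.fst g (U.hom ≫ b) →
      y ≫ pullback.snd g (U.hom ≫ b) ≫ r = y' ≫ pullback.snd g (U.hom ≫ b) ≫ r →
      y ≫ pullback.snd g (U.hom ≫ b) ≫ U.hom = y' ≫ pullback.snd g (U.hom ≫ b) ≫ U.hom → y = y' :=
    fun h₁ h₂ h₃ => pullback.hom_ext h₁ (hU_ext (by simpa only [Category.assoc] using h₂)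
      (by simpa only [Category.assoc] using h₃))
  have htoU_nat : ∀ {T T' : Scheme.{u}} (k : T' ⟶ T) (t : T ⟶ A) (s : T ⟶ Spec (S.presheaf.stalk a)) (e : t ≫ fA = s ≫ b)
      (e' : (k ≫ t) ≫ fA = (k ≫ s) ≫ b), k ≫ toU t s e = toU (k ≫ t) (k ≫ s) e' := fun k t s e e' =>
    htoU_ext (by rw [Category.assoc, hT₁, hT₁, Category.assoc]) (by rw [Category.assoc, hT₂, hT₂, Category.assoc])
      (by rw [Category.assoc, hT₃, hT₃])
  obtain ⟨V₂, hV₂, σ₁, hσ₁, hσ₁'⟩ := exists_stage_hom hGA (pullback.fst g u₀) π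
    (toU (pullback.fst fA b) (pullback.snd fA b) pullback.condition ≫ σ)
    (by rw [Category.assoc, hσ.lies, hT₁])
  obtain ⟨V₃, hV₃, τ₁, hτ₁, hτ₁'⟩ := exists_stage_hom hGB π (pullback.fst g u₀)
    (pullback.lift (hP.isoPullback.inv ≫ pullback.fst g (U.hom ≫ b))
      (hP.isoPullback.inv ≫ pullback.snd g (U.hom ≫ b) ≫ r) (by
        simp only [Category.assoc, pullback.condition, hr]))
    (by rw [pullback.lift_fst, ← hσ.lies, ← Category.assoc, hP.isoPullback_inv_fst])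
  have hσ₁'' : ∀ {T : Scheme.{u}} (t : T ⟶ A) (s : T ⟶ Spec (S.presheaf.stalk a)) (e : t ≫ fA = s ≫ b)
      (h : Set.range (t ≫ fA) ⊆ V₂.1), ev fA σ₁ t h = toU t s e ≫ σ := fun {T} t s e h => by
    refine (hσ₁' t s e).trans ?_
    rw [← Category.assoc]
    refine congrArg (· ≫ σ) (htoU_ext ?_ ?_ ?_)
    · rw [Category.assoc, hT₁, hT₁, pullback.lift_fst_assoc]
    · rw [Category.assoc, hT₂, hT₂, pullback.lift_fst_assoc]
    · rw [Category.assoc, hT₃, hT₃, pullback.lift_snd]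
  have hinv : ∀ {T : Scheme.{u}} (d : T ⟶ D.obj.left) (s : T ⟶ Spec (S.presheaf.stalk a)) (e : d ≫ fB = s ≫ b),
      ∃ y : T ⟶ pullback g (U.hom ≫ b), y ≫ σ = d ∧ y ≫ pullback.snd g (U.hom ≫ b) ≫ U.hom = s ∧
        ∀ (h : Set.range (d ≫ fB) ⊆ V₃.1), ev fB τ₁ d h ≫ pullback.fst g u₀ = y ≫ pullback.fst g (U.hom ≫ b) ∧
          ev fB τ₁ d h ≫ pullback.snd g u₀ = y ≫ pullback.snd g (U.hom ≫ b) ≫ r := by
    intro T d s e
    refine ⟨pullback.lift d s e ≫ hP.isoPullback.inv, ?_, ?_, fun h => ?_⟩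
    · rw [Category.assoc, hP.isoPullback_inv_fst, pullback.lift_fst]
    · rw [Category.assoc, hP.isoPullback_inv_snd, pullback.lift_snd]
    · rw [show ev fB τ₁ d h = _ from hτ₁' d s e]
      constructor <;> simp only [Category.assoc, pullback.lift_fst, pullback.lift_snd] <;> rfl
  obtain ⟨V₄, hV₄⟩ := NearLimit.exists_idx_le a (V₂.1 ⊓ V₃.1) ⟨V₂.2.2, V₃.2.2⟩
  have h42 : V₄.1 ≤ V₂.1 := hV₄.trans inf_le_left
  have h43 : V₄.1 ≤ V₃.1 := hV₄.trans inf_le_right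
  have h41 : V₄.1 ≤ V₁.1 := h42.trans hV₂
  -- ranges
  have hrσ : ∀ {T : Scheme.{u}} (t : T ⟶ A) (h : Set.range (t ≫ fA) ⊆ V₂.1) {V : Set S},
      Set.range (t ≫ fA) ⊆ V → Set.range (ev fA σ₁ t h ≫ fB) ⊆ V := fun {T} t h V hV => by
    rwa [show ev fA σ₁ t h ≫ fB = t ≫ fA by
      show _ ≫ π ≫ g = _; rw [← Category.assoc, ev_over fA hσ₁, Category.assoc]]
  have hrτ : ∀ {T : Scheme.{u}} (d : T ⟶ D.obj.left) (h : Set.range (d ≫ fB) ⊆ V₃.1) {V : Set S},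
      Set.range (d ≫ fB) ⊆ V → Set.range (ev fB τ₁ d h ≫ fA) ⊆ V := fun {T} d h V hV => by
    rwa [show ev fB τ₁ d h ≫ fA = d ≫ fB by
      show _ ≫ pullback.fst g u₀ ≫ g = _; rw [← Category.assoc, ev_over fB hτ₁, Category.assoc]]
  -- first identity
  let ιA := (fA ⁻¹ᵁ V₄.1).ι
  have rA := range_ι_comp fA V₄.1
  let dA := ev fA σ₁ ιA (range_mono h42 rA)
  have rdA : Set.range (dA ≫ fB) ⊆ V₄.1 := hrσ _ _ rA
  obtain ⟨W₁, hW₁, E₁⟩ := exists_stage_eq hGA h41 (pullback.fst g u₀) (pullback.fst g u₀) ιA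
    (ev fB τ₁ dA (range_mono h43 rdA)) rfl (by rw [ev_over fB hτ₁, ev_over fA hσ₁]) (fun T t s e => by
      rw [inPre_ι, comp_ev]
      have e₁ : inPre V₄.1 t (range_comp_fromSpecStalk_subset e V₄) ≫ dA = toU t s e ≫ σ := by
        rw [comp_ev, ← hσ₁'' t s e (range_comp_fromSpecStalk_subset e V₂)]
        exact ev_congr fA σ₁ (inPre_ι _ _ _)
      obtain ⟨y, hy₁, hy₂, hy₃⟩ := hinv (toU t s e ≫ σ) s (by
        show (toU t s e ≫ σ) ≫ π ≫ g = _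
        rw [Category.assoc, reassoc_of% hσ.lies, reassoc_of% hT₁ t s e, e])
      obtain rfl : y = toU t s e := by
        refine (cancel_mono hP.isoPullback.hom).1 (pullback.hom_ext ?_ ?_)
        · rw [Category.assoc, Category.assoc, hP.isoPullback_hom_fst, hy₁]
        · rw [Category.assoc, Category.assoc, hP.isoPullback_hom_snd, hy₂, hT₃]
      have r' : Set.range ((toU t s e ≫ σ) ≫ fB) ⊆ V₃.1 := by
        rw [← e₁]; exact range_comp_mono _ (range_mono h43 rdA)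
      obtain ⟨k₁, k₂⟩ := hy₃ r'
      rw [ev_congr fB τ₁ e₁ (h' := r')]
      exact (pullback.hom_ext (k₁.trans (hT₁ _ _ _)) (k₂.trans (hT₂ _ _ _))).symm)
  -- second identity
  let ιB := (fB ⁻¹ᵁ V₄.1).ι
  have rB := range_ι_comp fB V₄.1
  let tB := ev fB τ₁ ιB (range_mono h43 rB)
  have rtB : Set.range (tB ≫ fA) ⊆ V₄.1 := hrτ _ _ rB
  obtain ⟨W₂, hW₂, E₂⟩ := exists_stage_eq hGB h41 π π ιB (ev fA σ₁ tB (range_mono h42 rtB)) rfl
    (by rw [ev_over fA hσ₁, ev_over fB hτ₁]) (fun T d s e => by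
      rw [inPre_ι, comp_ev]
      obtain ⟨y, hy₁, hy₂, hy₃⟩ := hinv d s e
      have r₃ := range_comp_fromSpecStalk_subset e V₃
      have e₂ : inPre V₄.1 d (range_comp_fromSpecStalk_subset e V₄) ≫ tB = ev fB τ₁ d r₃ := by
        rw [comp_ev]; exact ev_congr fB τ₁ (inPre_ι _ _ _)
      obtain ⟨k₁, k₂⟩ := hy₃ r₃
      have e' : ev fB τ₁ d r₃ ≫ fA = s ≫ b := by
        show _ ≫ pullback.fst g u₀ ≫ g = _
        rw [← Category.assoc, ev_over fB hτ₁, Category.assoc]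
        exact e
      rw [ev_congr fA σ₁ e₂ (h' := range_comp_fromSpecStalk_subset e' V₂), hσ₁'' _ s e']
      refine hy₁.symm.trans (congrArg (· ≫ σ) (htoU_ext ?_ ?_ ?_))
      · rw [hT₁, k₁]
      · rw [hT₂, k₂]
      · rw [hT₃, hy₂])
  -- compatibility
  let ιR := (fR ⁻¹ᵁ V₄.1).ι
  have rR := range_ι_comp fR V₄.1
  have rR₀ : Set.range ((ιR ≫ p₀) ≫ fA) ⊆ V₄.1 := by simpa only [ιR, fR, Category.assoc] using rR
  have rR₁ : Set.range ((ιR ≫ p₁) ≫ fA) ⊆ V₄.1 := by simpa only [ιR, ← hp₁, Category.assoc] using rR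
  have hcond : ((ev fA σ₁ (ιR ≫ p₀) (range_mono h42 rR₀)) ≫ π) ≫ g = ((ιR ≫ p₁) ≫ pullback.fst g u₀) ≫ g := by
    rw [ev_over fA hσ₁]
    simp only [Category.assoc]
    exact congrArg (ιR ≫ ·) hp₁.symm
  obtain ⟨W₃, hW₃, E₃⟩ := exists_stage_eq hGR h41 (p₁ ≫ pullback.fst g u₀) π
    (tr D ((ιR ≫ p₁) ≫ pullback.fst g u₀) (ev fA σ₁ (ιR ≫ p₀) (range_mono h42 rR₀)) hcond)
    (ev fA σ₁ (ιR ≫ p₁) (range_mono h42 rR₁))
    ((tr_over D _ _ _).trans (Category.assoc _ _ _)) ((ev_over fA hσ₁ _ _).trans (Category.assoc _ _ _))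
    (fun T t s e => by
      have e₀ : (t ≫ p₀) ≫ fA = s ≫ b := by rw [Category.assoc]; exact e
      have e₁ : (t ≫ p₁) ≫ fA = s ≫ b := by rw [Category.assoc, hp₁]; exact e
      have c₀ : inPre V₄.1 t (range_comp_fromSpecStalk_subset e V₄) ≫ ev fA σ₁ (ιR ≫ p₀) (range_mono h42 rR₀) =
          toU (t ≫ p₀) s e₀ ≫ σ := by
        rw [comp_ev, ← hσ₁'' _ s e₀ (range_comp_fromSpecStalk_subset e₀ V₂)]
        exact ev_congr fA σ₁ (by rw [← Category.assoc, inPre_ι])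
      have c₁ : inPre V₄.1 t (range_comp_fromSpecStalk_subset e V₄) ≫ ev fA σ₁ (ιR ≫ p₁) (range_mono h42 rR₁) =
          toU (t ≫ p₁) s e₁ ≫ σ := by
        rw [comp_ev, ← hσ₁'' _ s e₁ (range_comp_fromSpecStalk_subset e₁ V₂)]
        exact ev_congr fA σ₁ (by rw [← Category.assoc, inPre_ι])
      have hs : toU (t ≫ p₀) s e₀ ≫ pullback.snd g (U.hom ≫ b) = toU (t ≫ p₁) s e₁ ≫ pullback.snd g (U.hom ≫ b) :=
        hU_ext (by rw [Category.assoc, hT₂, Category.assoc (toU (t ≫ p₁) s e₁), hT₂]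
                   simp only [p₀, p₁, Category.assoc, pullback.condition])
          (by rw [Category.assoc, hT₃, Category.assoc, hT₃])
      have key := hσ.compat (toU (t ≫ p₀) s e₀) (toU (t ≫ p₁) s e₁) hs
      rw [c₁]
      refine (comp_tr D _ (x' := (t ≫ p₁) ≫ pullback.fst g u₀) ?_ c₀ (h' := ?_)).trans ((tr_congr D (hT₁ _ _ e₁).symm rfl).trans key)
      · rw [Category.assoc (toU (t ≫ p₀) s e₀), hσ.lies, hT₁]
        simp only [Category.assoc] at e₀ e₁ ⊢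
        exact e₀.trans e₁.symm
      · rw [← Category.assoc, ← Category.assoc, inPre_ι])
  obtain ⟨W, hW⟩ := NearLimit.exists_idx_le a (W₁.1 ⊓ W₂.1 ⊓ W₃.1) ⟨⟨W₁.2.2, W₂.2.2⟩, W₃.2.2⟩
  have hw1 : W.1 ≤ W₁.1 := hW.trans (inf_le_left.trans inf_le_left)
  have hw2 : W.1 ≤ W₂.1 := hW.trans (inf_le_left.trans inf_le_right)
  have hw3 : W.1 ≤ W₃.1 := hW.trans inf_le_right
  have hw4 : W.1 ≤ V₄.1 := hw1.trans hW₁
  haveI : Etale (u₀ ∣_ W.1) := inferInstance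
  let u₁ : (u₀ ⁻¹ᵁ W.1).toScheme ⟶ (W.1 : Scheme.{u}) := u₀ ∣_ W.1
  let A' := pullback g (u₁ ≫ W.1.ι)
  let ψ : A' ⟶ A := pullback.lift (pullback.fst _ _) (pullback.snd _ _ ≫ (u₀ ⁻¹ᵁ W.1).ι) (by
    rw [Category.assoc, ← morphismRestrict_ι]; exact pullback.condition)
  have rψ : Set.range (ψ ≫ fA) ⊆ W.1 := by
    rw [show ψ ≫ fA = (pullback.snd g (u₁ ≫ W.1.ι) ≫ u₁) ≫ W.1.ι by
      show _ ≫ pullback.fst g u₀ ≫ g = _
      rw [pullback.lift_fst_assoc, pullback.condition, Category.assoc]]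
    rintro _ ⟨x, rfl⟩
    rw [Scheme.Hom.comp_apply]
    exact Subtype.mem _
  let σ' : A' ⟶ D.obj.left := ev fA σ₁ ψ (range_mono (hw4.trans h42) rψ)
  have hlies' : σ' ≫ π = pullback.fst g (u₁ ≫ W.1.ι) := by rw [ev_over fA hσ₁, pullback.lift_fst]
  have rσ' : Set.range (σ' ≫ fB) ⊆ W.1 := hrσ _ _ rψ
  -- the inverse on the preimage
  let ιW := (fB ⁻¹ᵁ W.1).ι
  have rW := range_ι_comp fB W.1
  let vW := ev fB τ₁ ιW (range_mono (hw4.trans h43) rW)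
  have rvW : Set.range (vW ≫ fA) ⊆ W.1 := hrτ _ _ rW
  obtain ⟨uW, huW⟩ := exists_lift_open (u₀ ⁻¹ᵁ W.1).ι (vW ≫ pullback.snd g u₀) fun o => by
    rw [Scheme.Opens.range_ι]
    show u₀ ((vW ≫ pullback.snd g u₀) o) ∈ W.1
    rw [← Scheme.Hom.comp_apply, Category.assoc, ← pullback.condition]
    exact rvW ⟨o, rfl⟩
  let τ' : (fB ⁻¹ᵁ W.1).toScheme ⟶ A' := pullback.lift (vW ≫ pullback.fst g u₀) uW (by
    show (vW ≫ pullback.fst g u₀) ≫ g = uW ≫ (u₀ ∣_ W.1) ≫ W.1.ι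
    rw [morphismRestrict_ι, ← Category.assoc uW, huW, Category.assoc, Category.assoc, pullback.condition])
  have hτψ : τ' ≫ ψ = vW := by
    apply pullback.hom_ext <;> simp [τ', ψ, huW]
  let σ'' : A' ⟶ (fB ⁻¹ᵁ W.1).toScheme := inPre W.1 σ' rσ'
  haveI : Mono ψ := ⟨fun p q e => pullback.hom_ext
    (by simpa [ψ] using congrArg (· ≫ pullback.fst g u₀) e)
    ((cancel_mono (u₀ ⁻¹ᵁ W.1).ι).1 (by simpa [ψ] using congrArg (· ≫ pullback.snd g u₀) e))⟩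
  haveI : IsIso σ'' := ⟨τ', by
    rw [← cancel_mono ψ, Category.id_comp, Category.assoc, hτψ]
    have k := E₁ ψ (range_mono hw1 rψ)
    rw [inPre_ι, comp_ev] at k
    refine Eq.trans ?_ k.symm
    refine (comp_ev fB τ₁ σ'' ιW _).trans (ev_congr fB τ₁ ?_)
    rw [inPre_ι, comp_ev]
    exact ev_congr fA σ₁ (inPre_ι _ _ _).symm, by
    rw [← cancel_mono ιW, Category.id_comp, Category.assoc, inPre_ι]
    have k := E₂ ιW (range_mono hw2 rW)
    rw [inPre_ι, comp_ev] at k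
    refine Eq.trans ?_ k.symm
    refine (comp_ev fA σ₁ τ' ψ _).trans (ev_congr fA σ₁ ?_)
    rw [hτψ, comp_ev]
    exact ev_congr fB τ₁ (inPre_ι _ _ _).symm⟩
  refine ⟨W.1, W.2.2, Over.mk u₁, σ', inferInstanceAs (Etale (u₀ ∣_ W.1)), ⟨hlies', fun T t₀ t₁ h => ?_⟩, ?_, fun d hd => ?_⟩
  · let ρ : T ⟶ R := pullback.lift (t₀ ≫ ψ) (t₁ ≫ ψ) (by simp only [ψ, Category.assoc, pullback.lift_snd]; exact (Category.assoc _ _ _).symm.trans ((congrArg (· ≫ (u₀ ⁻¹ᵁ W.1).ι) h).trans (Category.assoc _ _ _)))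
    have rρ : Set.range (ρ ≫ fR) ⊆ W₃.1 := by
      show Set.range (ρ ≫ p₀ ≫ fA) ⊆ _
      rw [pullback.lift_fst_assoc]
      exact range_mono hw3 (range_comp_mono t₀ rψ)
    have k := E₃ ρ rρ
    have c₀ : inPre V₄.1 ρ (range_mono hW₃ rρ) ≫ ev fA σ₁ (ιR ≫ p₀) (range_mono h42 rR₀) = t₀ ≫ σ' := by
      rw [comp_ev, comp_ev]
      exact ev_congr fA σ₁ (by rw [← Category.assoc, inPre_ι, pullback.lift_fst])
    have c₁ : inPre V₄.1 ρ (range_mono hW₃ rρ) ≫ ev fA σ₁ (ιR ≫ p₁) (range_mono h42 rR₁) = t₁ ≫ σ' := by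
      rw [comp_ev, comp_ev]
      exact ev_congr fA σ₁ (by rw [← Category.assoc, inPre_ι, pullback.lift_snd])
    rw [c₁] at k
    refine Eq.trans (Eq.symm ?_) k
    refine comp_tr D _ ?_ c₀
    rw [← Category.assoc, ← Category.assoc, inPre_ι, pullback.lift_snd, Category.assoc]
    simp [ψ]
  · rw [show σ' = σ'' ≫ ιW from (inPre_ι _ _ _).symm]
    infer_instance
  · obtain ⟨z', hz'⟩ := σ''.surjective ⟨d, hd⟩
    exact ⟨z', by rw [show σ' = σ'' ≫ ιW from (inPre_ι _ _ _).symm, Scheme.Hom.comp_apply]; exact congrArg ιW hz'⟩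

end Groth.Agent.EtDD
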