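import Groth.Agent.EtDD.PsiDD
import Groth.Agent.LimModel.Cover
import Groth.Agent.LimMore.Compact

/-!
# Étale descent data descend along limits of affine schemes over the base
-/

set_option autoImplicit false
set_option backward.isDefEq.respectTransparency false
set_option backward.isDefEq.respectTransparency.types false
set_option linter.style.haveILetI false
set_option maxHeartbeats 2000000

universe u

open CategoryTheory CategoryTheory.Limits AlgebraicGeometry
open Groth.Agent.LimDesc (stage toStage toBase tower towerCone isLimitTowerCone proj)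

noncomputable section

namespace Groth.Agent.EtDD

open Groth.Agent.SchDescent

variable {S : Scheme.{u}}

/-- a separated étale quasi-compact model -/
theorem exists_model_etale_sep {I : Type u} [SmallCategory I] [IsCofiltered I] (F : I ⥤ Scheme.{u})
    [∀ {i j} (h : i ⟶ j), IsAffineHom (F.map h)] [∀ i, CompactSpace (F.obj i)]
    [∀ i, QuasiSeparatedSpace (F.obj i)] (c : Cone F) (hc : IsLimit c) {Y : Scheme.{u}} (π : Y ⟶ c.pt)
    [Etale π] [IsSeparated π] [QuasiCompact π] :
    ∃ (j : I) (Yj : Scheme.{u}) (fj : Yj ⟶ F.obj j) (r : Y ⟶ Yj), Etale fj ∧ IsSeparated fj ∧ QuasiCompact fj ∧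
      IsPullback r π fj (c.π.app j) := by
  obtain ⟨j, Yj, fj, r, he, -, hq, hs, hsq⟩ := LimModel.exists_model_prop F c hc π @Etale
    LimMore.descendsToStage_etale ‹_›
  haveI := hq
  haveI := hs
  haveI : CompactSpace Yj := QuasiCompact.compactSpace_of_compactSpace fj
  obtain ⟨k, hk⟩ := LimMore.exists_isSeparated_of_compactSpace F c hc fj (𝟙 (F.obj j)) (LimMore.isPullback_id F c) hsq
  have hk' : IsSeparated (pullback.snd fj (F.map k.hom)) := (LimMore.stageMap_id_iff F fj @IsSeparated k).1 hk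
  exact ⟨k.left, stage F fj k, toStage F fj k, proj F fj c hsq k,
    MorphismProperty.of_isPullback (P := @Etale) (LimDesc.isPullback_stage F fj k) he, hk',
    MorphismProperty.of_isPullback (P := @QuasiCompact) (LimDesc.isPullback_stage F fj k) hq,
    LimDesc.isPullback_proj F fj c hsq k⟩

theorem isAffineHom_map_pullback {A A' B B' : Scheme.{u}} {a : A ⟶ S} {b : B ⟶ S} {a' : A' ⟶ S} {b' : B' ⟶ S}
    {m : A ⟶ A'} {n : B ⟶ B'} [IsAffineHom m] [IsAffineHom n] (e₁ : a = m ≫ a') (e₂ : b = n ≫ b') :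
    IsAffineHom (pullback.map a b a' b' m n (𝟙 _) ((Category.comp_id _).trans e₁) ((Category.comp_id _).trans e₂)) :=
  MorphismProperty.pullbackMap (P := @IsAffineHom) ‹IsAffineHom m› ‹IsAffineHom n› e₁ e₂

/-- the diagram of fibre products -/
def pairs {J : Type u} [SmallCategory J] {A B : J ⥤ Scheme.{u}} (a : ∀ j, A.obj j ⟶ S) (b : ∀ j, B.obj j ⟶ S)
    (ha : ∀ {j k} (h : j ⟶ k), A.map h ≫ a k = a j) (hb : ∀ {j k} (h : j ⟶ k), B.map h ≫ b k = b j) :
    J ⥤ Scheme.{u} where
  obj j := pullback (a j) (b j)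
  map h := pullback.map _ _ _ _ (A.map h) (B.map h) (𝟙 _) (by rw [Category.comp_id, ha]) (by rw [Category.comp_id, hb])
  map_id j := by apply pullback.hom_ext <;> simp
  map_comp h h' := by apply pullback.hom_ext <;> simp

/-- its cone -/
def pairsCone {J : Type u} [SmallCategory J] {A B : J ⥤ Scheme.{u}} {a : ∀ j, A.obj j ⟶ S} {b : ∀ j, B.obj j ⟶ S}
    (ha : ∀ {j k} (h : j ⟶ k), A.map h ≫ a k = a j) (hb : ∀ {j k} (h : j ⟶ k), B.map h ≫ b k = b j)
    (cA : Cone A) (cB : Cone B) (α : cA.pt ⟶ S) (β : cB.pt ⟶ S) (hα : ∀ j, cA.π.app j ≫ a j = α)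
    (hβ : ∀ j, cB.π.app j ≫ b j = β) : Cone (pairs a b ha hb) where
  pt := pullback α β
  π :=
    { app := fun j => pullback.map _ _ _ _ (cA.π.app j) (cB.π.app j) (𝟙 _) (by rw [Category.comp_id, hα])
        (by rw [Category.comp_id, hβ])
      naturality := fun j k h => by apply pullback.hom_ext <;> simp [pairs] }

/-- which is a limit -/
def pairsLimit {J : Type u} [SmallCategory J] [IsConnected J] {A B : J ⥤ Scheme.{u}} {a : ∀ j, A.obj j ⟶ S}
    {b : ∀ j, B.obj j ⟶ S} (ha : ∀ {j k} (h : j ⟶ k), A.map h ≫ a k = a j)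
    (hb : ∀ {j k} (h : j ⟶ k), B.map h ≫ b k = b j) {cA : Cone A} {cB : Cone B} (hA : IsLimit cA) (hB : IsLimit cB)
    (α : cA.pt ⟶ S) (β : cB.pt ⟶ S) (hα : ∀ j, cA.π.app j ≫ a j = α) (hβ : ∀ j, cB.π.app j ≫ b j = β) :
    IsLimit (pairsCone ha hb cA cB α β hα hβ) :=
  isLimitPairs hA hB a b α β hα hβ
    { app := fun j => pullback.fst (a j) (b j), naturality := fun j k h => by simp [pairs] }
    { app := fun j => pullback.snd (a j) (b j), naturality := fun j k h => by simp [pairs] }
    (fun j => IsPullback.of_hasPullback _ _) _ (pullback.fst α β) (pullback.snd α β) (IsPullback.of_hasPullback _ _)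
    (fun j => pullback.lift_fst _ _ _) (fun j => pullback.lift_snd _ _ _)

set_option maxHeartbeats 4000000 in
/-- **descent to a stage**: over a limit of affine schemes, effectivity follows from effectivity at the stages -/
theorem exists_effective_of_limit [IsAffine S] {I : Type u} [SmallCategory I] [IsCofiltered I] (F : I ⥤ Over S)
    [∀ i, IsAffine (F.obj i).left] (c : Cone F) (hc : IsLimit ((Over.forget S).mapCone c))
    (H : ∀ i, SGA1.UnivSubmersive (F.obj i).hom ∧ HasSecQC (F.obj i).hom)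
    (D : Desc.SchDD c.pt.hom) [Etale D.obj.hom] [IsSeparated D.obj.hom] [QuasiCompact D.obj.hom] :
    ∃ W : Over S, Etale W.hom ∧ Nonempty ((Desc.toDD c.pt.hom).obj W ≅ D) := by
  let F₀ := F ⋙ Over.forget S
  haveI : ∀ i, IsAffine (F₀.obj i) := fun i => inferInstanceAs (IsAffine (F.obj i).left)
  haveI : ∀ {i j} (h : i ⟶ j), IsAffineHom (F₀.map h) := fun h => inferInstance
  haveI : ∀ i, CompactSpace (F₀.obj i) := fun i => inferInstance
  haveI : ∀ i, QuasiSeparatedSpace (F₀.obj i) := fun i => inferInstance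
  let c₀ : Cone F₀ := (Over.forget S).mapCone c
  let g := c.pt.hom
  let π := D.obj.hom
  haveI : Etale (π : D.obj.left ⟶ c₀.pt) := ‹Etale D.obj.hom›
  haveI : IsSeparated (π : D.obj.left ⟶ c₀.pt) := ‹IsSeparated D.obj.hom›
  haveI : QuasiCompact (π : D.obj.left ⟶ c₀.pt) := ‹QuasiCompact D.obj.hom›
  obtain ⟨j, D₁, f₁, r, hfe, hfs, hfq, hsq⟩ := exists_model_etale_sep F₀ c₀ hc (π : D.obj.left ⟶ c₀.pt)
  haveI := hfe; haveI := hfs; haveI := hfq
  haveI : CompactSpace D₁ := QuasiCompact.compactSpace_of_compactSpace f₁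
  haveI : QuasiSeparatedSpace D₁ := quasiSeparatedSpace_of_quasiSeparated f₁
  haveI : IsConnected (Over j) := IsCofiltered.isConnected _
  -- the towers
  let A := tower F₀ f₁
  let cA : Cone A := towerCone F₀ f₁ c₀ hsq
  have hA : IsLimit cA := isLimitTowerCone F₀ f₁ c₀ hsq hc
  let B : Over j ⥤ Scheme.{u} := Over.forget j ⋙ F₀
  let cB : Cone B := c₀.whisker (Over.forget j)
  have hB : IsLimit cB := (Functor.Initial.isLimitWhiskerEquiv (Over.forget j) _).symm hc
  haveI : ∀ {l m} (h : l ⟶ m), IsAffineHom (A.map h) := fun h => LimDesc.isAffineHom_tower_map F₀ f₁ h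
  haveI : ∀ {l m} (h : l ⟶ m), IsAffineHom (B.map h) := fun h => inferInstanceAs (IsAffineHom (F₀.map h.left))
  let t : ∀ l : Over j, B.obj l ⟶ S := fun l => (F.obj l.left).hom
  let st : ∀ l : Over j, A.obj l ⟶ B.obj l := fun l => toStage F₀ f₁ l
  let a : ∀ l, A.obj l ⟶ S := fun l => st l ≫ t l
  have hb : ∀ {l m : Over j} (h : l ⟶ m), B.map h ≫ t m = t l := fun h => Over.w (F.map h.left)
  have ha : ∀ {l m : Over j} (h : l ⟶ m), A.map h ≫ a m = a l := fun {l m} h => by
    show LimDesc.trans F₀ f₁ h ≫ toStage F₀ f₁ m ≫ t m = toStage F₀ f₁ l ≫ t l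
    rw [← Category.assoc, show LimDesc.trans F₀ f₁ h ≫ toStage F₀ f₁ m = toStage F₀ f₁ l ≫ F₀.map h.left from
      pullback.lift_snd _ _ _, Category.assoc]
    exact congrArg (_ ≫ ·) (hb h)
  have hβ : ∀ l, cB.π.app l ≫ t l = g := fun l => Over.w (c.π.app l.left)
  have hα : ∀ l, cA.π.app l ≫ a l = π ≫ g := fun l => by
    show proj F₀ f₁ c₀ hsq l ≫ toStage F₀ f₁ l ≫ t l = _
    rw [LimDesc.proj_toStage_assoc]
    exact congrArg (π ≫ ·) (hβ l)
  let P := pairs (A := A) (B := B) a t ha hb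
  let cP := pairsCone (A := A) (B := B) (a := a) (b := t) ha hb cA cB (π ≫ g) g hα hβ
  have hP : IsLimit cP := pairsLimit (A := A) (B := B) (a := a) (b := t) ha hb hA hB (π ≫ g) g hα hβ
  haveI : ∀ {l m} (h : l ⟶ m), IsAffineHom (P.map h) := fun h => isAffineHom_map_pullback (ha h).symm (hb h).symm
  haveI : ∀ l, CompactSpace (A.obj l) := fun l => LimDesc.compactSpace_stage F₀ f₁ l
  haveI : ∀ l, QuasiSeparatedSpace (A.obj l) := fun l => LimDesc.quasiSeparatedSpace_stage F₀ f₁ l
  haveI : ∀ l, IsAffine (B.obj l) := fun l => inferInstanceAs (IsAffine (F₀.obj l.left))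
  haveI : ∀ l, IsAffineHom (t l) := fun l => inferInstance
  haveI : ∀ l, CompactSpace (P.obj l) := fun l =>
    QuasiCompact.compactSpace_of_compactSpace (pullback.fst (a l) (t l))
  haveI : ∀ l, QuasiSeparatedSpace (P.obj l) := fun l =>
    quasiSeparatedSpace_of_quasiSeparated (pullback.fst (a l) (t l))
  -- the gluing morphism at a stage
  let ψ := psiOf D
  have hψ : ψ ≫ π = pullback.snd (π ≫ g) g := psiOf_over D
  obtain ⟨l, ψ₁, hψ₁, hψ₁'⟩ := Scheme.exists_π_app_comp_eq_of_locallyOfFinitePresentation P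
    { app := fun m => pullback.snd (a m) (t m) ≫ F₀.map m.hom
      naturality := fun m m' h => by
        simp only [P, pairs, Functor.const_obj_map, Category.comp_id, pullback.lift_snd_assoc, Category.assoc]
        refine congrArg (_ ≫ ·) ?_
        show F₀.map h.left ≫ F₀.map m'.hom = _
        rw [← F₀.map_comp, Over.w h]
        exact (Category.comp_id _).symm } f₁ cP hP (ψ ≫ r) (by
      ext m
      simp only [NatTrans.comp_app, Functor.const_map_app, cP, pairsCone, pullback.lift_snd_assoc, Category.assoc]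
      rw [hsq.w, ← Category.assoc ψ, hψ]
      refine congrArg (_ ≫ ·) ?_
      exact c₀.w m.hom)
  let ψl : P.obj l ⟶ A.obj l := pullback.lift ψ₁ (pullback.snd (a l) (t l)) hψ₁'
  have hψl₂ : ψl ≫ toStage F₀ f₁ l = pullback.snd (a l) (t l) := pullback.lift_snd _ _ _
  have hπl : cP.π.app l ≫ ψl = ψ ≫ cA.π.app l := by
    apply pullback.hom_ext
    · rw [Category.assoc, pullback.lift_fst, hψ₁, Category.assoc]
      exact congrArg (ψ ≫ ·) (LimDesc.proj_toBase F₀ f₁ c₀ hsq l).symm
    · rw [Category.assoc, pullback.lift_snd, Category.assoc]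
      refine (pullback.lift_snd _ _ _).trans ?_
      refine Eq.trans ?_ (congrArg (ψ ≫ ·) (LimDesc.proj_toStage F₀ f₁ c₀ hsq l).symm)
      rw [← Category.assoc ψ, hψ]
      rfl
  -- unit
  let e₀ : A.obj l ⟶ P.obj l := pullback.lift (𝟙 _) (toStage F₀ f₁ l) (Category.id_comp _)
  obtain ⟨m₁, k₁, hk₁⟩ := Scheme.exists_hom_comp_eq_comp_of_locallyOfFiniteType A
    { app := fun m => toBase F₀ f₁ m ≫ f₁
      naturality := fun m m' h => (Category.assoc _ _ _).symm.trans
        ((congrArg (· ≫ f₁) ((pullback.lift_fst _ _ _).trans (Category.comp_id _))).trans (Category.comp_id _).symm) }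
    f₁ cA hA (i := l) (e₀ ≫ ψ₁) (toBase F₀ f₁ l) (by
      rw [Category.assoc, hψ₁']
      simp only [e₀, pullback.lift_snd_assoc]
      exact pullback.condition) rfl (by
      have h1 : cA.π.app l ≫ e₀ = pullback.lift (𝟙 _) π (Category.id_comp _) ≫ cP.π.app l := by
        apply pullback.hom_ext
        · simp [e₀, cP, pairsCone]
          exact (Category.id_comp _).symm
        · simp only [e₀, cP, pairsCone, Category.assoc, pullback.lift_snd, pullback.lift_snd_assoc]
          exact LimDesc.proj_toStage F₀ f₁ c₀ hsq l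
      rw [reassoc_of% h1, hψ₁, ← Category.assoc, lift_psiOf D, tr_self D (Category.id_comp _)]
      exact (Category.id_comp r).trans (LimDesc.proj_toBase F₀ f₁ c₀ hsq l).symm)
  -- associativity
  let b₂ : ∀ m, P.obj m ⟶ S := fun m => pullback.snd (a m) (t m) ≫ t m
  have hb₂ : ∀ {m m' : Over j} (h : m ⟶ m'), P.map h ≫ b₂ m' = b₂ m := fun {m m'} h => by
    simp only [P, pairs, b₂, pullback.lift_snd_assoc, Category.assoc]
    exact congrArg (_ ≫ ·) (hb h)
  have hα₂ : ∀ m, cP.π.app m ≫ b₂ m = pullback.snd (π ≫ g) g ≫ g := fun m => by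
    simp only [cP, pairsCone, b₂, pullback.lift_snd_assoc, Category.assoc]
    exact congrArg (_ ≫ ·) (hβ m)
  let Q := pairs (A := P) (B := B) b₂ t hb₂ hb
  let cQ := pairsCone (A := P) (B := B) (a := b₂) (b := t) hb₂ hb cP cB (pullback.snd (π ≫ g) g ≫ g) g hα₂ hβ
  have hQ : IsLimit cQ := pairsLimit (A := P) (B := B) (a := b₂) (b := t) hb₂ hb hP hB (pullback.snd (π ≫ g) g ≫ g) g hα₂ hβ
  haveI : ∀ {m m'} (h : m ⟶ m'), IsAffineHom (Q.map h) := fun h => isAffineHom_map_pullback (hb₂ h).symm (hb h).symm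
  haveI : ∀ m, CompactSpace (Q.obj m) := fun m =>
    QuasiCompact.compactSpace_of_compactSpace (pullback.fst (b₂ m) (t m))
  haveI : ∀ m, QuasiSeparatedSpace (Q.obj m) := fun m =>
    quasiSeparatedSpace_of_quasiSeparated (pullback.fst (b₂ m) (t m))
  let q₁ : Q.obj l ⟶ P.obj l := pullback.fst (b₂ l) (t l)
  let q₂ : Q.obj l ⟶ F₀.obj l.left := pullback.snd (b₂ l) (t l)
  have hq : q₁ ≫ pullback.snd (a l) (t l) ≫ t l = q₂ ≫ t l := pullback.condition
  let u : Q.obj l ⟶ P.obj l := pullback.lift (q₁ ≫ ψl) q₂ (by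
    rw [Category.assoc]
    show q₁ ≫ ψl ≫ toStage F₀ f₁ l ≫ t l = _
    rw [reassoc_of% hψl₂, hq])
  let v : Q.obj l ⟶ P.obj l := pullback.lift (q₁ ≫ pullback.fst (a l) (t l)) q₂ (by
    rw [Category.assoc, pullback.condition, hq])
  obtain ⟨m₂, k₂, hk₂⟩ := Scheme.exists_hom_comp_eq_comp_of_locallyOfFiniteType Q
    { app := fun m => pullback.snd (b₂ m) (t m) ≫ F₀.map m.hom
      naturality := fun m m' h => by
        simp only [Q, pairs, Functor.const_obj_map, Category.comp_id, pullback.lift_snd_assoc, Category.assoc]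
        refine congrArg (_ ≫ ·) ?_
        show F₀.map h.left ≫ F₀.map m'.hom = _
        rw [← F₀.map_comp, Over.w h]
        exact (Category.comp_id _).symm }
    f₁ cQ hQ (i := l) (u ≫ ψ₁) (v ≫ ψ₁) (by
      rw [Category.assoc, hψ₁']; simp only [u, q₂, pullback.lift_snd_assoc]) (by
      rw [Category.assoc, hψ₁']; simp only [v, q₂, pullback.lift_snd_assoc]) (by
      let p₁ := pullback.fst (pullback.snd (π ≫ g) g ≫ g) g
      let p₂ := pullback.snd (pullback.snd (π ≫ g) g ≫ g) g
      have hp : p₁ ≫ pullback.snd (π ≫ g) g ≫ g = p₂ ≫ g := pullback.condition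
      have h1 : cQ.π.app l ≫ u = pullback.lift (p₁ ≫ ψ) p₂ (by rw [Category.assoc, reassoc_of% hψ, hp]) ≫ cP.π.app l := by
        have e1 : cQ.π.app l ≫ q₁ = p₁ ≫ cP.π.app l := pullback.lift_fst _ _ _
        apply pullback.hom_ext
        · simp only [u, Category.assoc, pullback.lift_fst, reassoc_of% e1, hπl]
          rw [show cP.π.app l ≫ pullback.fst (a l) (t l) = pullback.fst (π ≫ g) g ≫ cA.π.app l from pullback.lift_fst _ _ _,
            pullback.lift_fst_assoc, Category.assoc]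
        · simp only [u, Category.assoc, pullback.lift_snd]
          refine (pullback.lift_snd _ _ _).trans ?_
          rw [show cP.π.app l ≫ pullback.snd (a l) (t l) = pullback.snd (π ≫ g) g ≫ cB.π.app l from pullback.lift_snd _ _ _,
            pullback.lift_snd_assoc]
      have h2 : cQ.π.app l ≫ v = pullback.lift (p₁ ≫ pullback.fst (π ≫ g) g) p₂ (by
          rw [Category.assoc, pullback.condition, hp]) ≫ cP.π.app l := by
        have e1 : cQ.π.app l ≫ q₁ = p₁ ≫ cP.π.app l := pullback.lift_fst _ _ _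
        apply pullback.hom_ext
        · simp only [v, Category.assoc, pullback.lift_fst, reassoc_of% e1]
          rw [show cP.π.app l ≫ pullback.fst (a l) (t l) = pullback.fst (π ≫ g) g ≫ cA.π.app l from pullback.lift_fst _ _ _,
            pullback.lift_fst_assoc, Category.assoc]
        · simp only [v, Category.assoc, pullback.lift_snd]
          refine (pullback.lift_snd _ _ _).trans ?_
          rw [show cP.π.app l ≫ pullback.snd (a l) (t l) = pullback.snd (π ≫ g) g ≫ cB.π.app l from pullback.lift_snd _ _ _,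
            pullback.lift_snd_assoc]
      rw [reassoc_of% h1, reassoc_of% h2, hψ₁]
      refine (Category.assoc _ _ _).symm.trans ((congrArg (· ≫ r) ((lift_psiOf D _ _ _).trans (Eq.trans ?_ (lift_psiOf D _ _ _).symm))).trans (Category.assoc _ _ _))
      exact tr_tr' D (comp_tr D p₁ rfl rfl (h' := by simp only [Category.assoc, pullback.condition])).symm)
  -- the common stage
  obtain ⟨m, n₁, n₂, hn⟩ : ∃ (m : Over j) (n₁ : m ⟶ m₁) (n₂ : m ⟶ m₂), n₁ ≫ k₁ = n₂ ≫ k₂ := by
    obtain ⟨m, n₁, n₂, -⟩ := IsCofilteredOrEmpty.cone_objs m₁ m₂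
    obtain ⟨m', h, hh⟩ := IsCofilteredOrEmpty.cone_maps (n₁ ≫ k₁) (n₂ ≫ k₂)
    exact ⟨m', h ≫ n₁, h ≫ n₂, by simpa only [Category.assoc] using hh⟩
  let k := n₁ ≫ k₁
  have hk₁' : A.map k ≫ e₀ ≫ ψ₁ = A.map k ≫ toBase F₀ f₁ l := by
    simp only [k, Functor.map_comp, Category.assoc, hk₁]
  have hk₂' : Q.map k ≫ u ≫ ψ₁ = Q.map k ≫ v ≫ ψ₁ := by
    simp only [k, hn, Functor.map_comp, Category.assoc, hk₂]
  let gm := t m
  let fm := st m
  let ψm : P.obj m ⟶ A.obj m := pullback.lift (P.map k ≫ ψ₁) (pullback.snd (a m) (t m)) (by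
    rw [Category.assoc, hψ₁']
    simp only [P, pairs, pullback.lift_snd_assoc, Category.assoc]
    refine congrArg (_ ≫ ·) ?_
    show F₀.map k.left ≫ F₀.map l.hom = _
    rw [← F₀.map_comp, Over.w k])
  have hψm₁ : ψm ≫ toBase F₀ f₁ m = P.map k ≫ ψ₁ := pullback.lift_fst _ _ _
  have hψm₂ : ψm ≫ st m = pullback.snd (a m) (t m) := pullback.lift_snd _ _ _
  have hAk : A.map k ≫ toBase F₀ f₁ l = toBase F₀ f₁ m := (pullback.lift_fst _ _ _).trans (Category.comp_id _)
  have hstk : A.map k ≫ st l = st m ≫ B.map k := pullback.lift_snd _ _ _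
  have hψlm : P.map k ≫ ψl = ψm ≫ A.map k := by
    apply pullback.hom_ext
    · refine (Category.assoc _ _ _).trans ((congrArg (_ ≫ ·) (pullback.lift_fst _ _ _)).trans ?_)
      exact ((Category.assoc _ _ _).trans ((congrArg (ψm ≫ ·) hAk).trans hψm₁)).symm
    · refine (Category.assoc _ _ _).trans ((congrArg (_ ≫ ·) (pullback.lift_snd _ _ _)).trans ?_)
      refine (pullback.lift_snd _ _ _).trans ?_
      exact ((Category.assoc _ _ _).trans ((congrArg (ψm ≫ ·) hstk).trans
        ((Category.assoc _ _ _).symm.trans (congrArg (· ≫ B.map k) hψm₂)))).symm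
  have hPk₁ : P.map k ≫ pullback.fst (a l) (t l) = pullback.fst (a m) (t m) ≫ A.map k := pullback.lift_fst _ _ _
  have hPk₂ : P.map k ≫ pullback.snd (a l) (t l) = pullback.snd (a m) (t m) ≫ B.map k := pullback.lift_snd _ _ _
  have hunit : pullback.lift (f := a m) (g := t m) (𝟙 (A.obj m)) (st m) (Category.id_comp _) ≫ P.map k =
      A.map k ≫ e₀ := by
    apply pullback.hom_ext
    · refine (Category.assoc _ _ _).trans ((congrArg (_ ≫ ·) hPk₁).trans ?_)
      rw [pullback.lift_fst_assoc, Category.id_comp, Category.assoc]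
      exact ((congrArg (A.map k ≫ ·) (pullback.lift_fst _ _ _)).trans (Category.comp_id _)).symm
    · refine (Category.assoc _ _ _).trans ((congrArg (_ ≫ ·) hPk₂).trans ?_)
      rw [pullback.lift_snd_assoc, Category.assoc]
      exact (hstk.symm.trans (congrArg (A.map k ≫ ·) (pullback.lift_snd _ _ _).symm))
  have hassoc : ∀ {T : Scheme.{u}} (z : T ⟶ A.obj m) (x₁ x₂ : T ⟶ B.obj m) (h₁ : z ≫ a m = x₁ ≫ t m)
      (h₂ : z ≫ a m = x₂ ≫ t m) (h₁₂ : (pullback.lift z x₁ h₁ ≫ ψm) ≫ a m = x₂ ≫ t m),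
      pullback.lift (pullback.lift z x₁ h₁ ≫ ψm) x₂ h₁₂ ≫ P.map k ≫ ψ₁ = pullback.lift z x₂ h₂ ≫ P.map k ≫ ψ₁ := by
    intro T z x₁ x₂ h₁ h₂ h₁₂
    let w₁ : T ⟶ P.obj m := pullback.lift z x₁ h₁
    let w : T ⟶ Q.obj m := pullback.lift w₁ x₂ (by
      show w₁ ≫ pullback.snd (a m) (t m) ≫ t m = x₂ ≫ t m
      refine Eq.trans ?_ h₁₂
      show _ = (w₁ ≫ ψm) ≫ st m ≫ t m
      rw [Category.assoc w₁, ← Category.assoc ψm, hψm₂])
    have q1 : Q.map k ≫ q₁ = pullback.fst (b₂ m) (t m) ≫ P.map k := pullback.lift_fst _ _ _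
    have q2 : Q.map k ≫ q₂ = pullback.snd (b₂ m) (t m) ≫ B.map k := pullback.lift_snd _ _ _
    have u₁ : u ≫ pullback.fst (a l) (t l) = q₁ ≫ ψl := pullback.lift_fst _ _ _
    have u₂ : u ≫ pullback.snd (a l) (t l) = q₂ := pullback.lift_snd _ _ _
    have v₁ : v ≫ pullback.fst (a l) (t l) = q₁ ≫ pullback.fst (a l) (t l) := pullback.lift_fst _ _ _
    have v₂ : v ≫ pullback.snd (a l) (t l) = q₂ := pullback.lift_snd _ _ _
    have w1 : w ≫ pullback.fst (b₂ m) (t m) = w₁ := pullback.lift_fst _ _ _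
    have w2 : w ≫ pullback.snd (b₂ m) (t m) = x₂ := pullback.lift_snd _ _ _
    have e1 : pullback.lift (pullback.lift z x₁ h₁ ≫ ψm) x₂ h₁₂ ≫ P.map k = w ≫ Q.map k ≫ u := by
      apply pullback.hom_ext
      · refine (Category.assoc _ _ _).trans ((congrArg (_ ≫ ·) hPk₁).trans ?_)
        rw [pullback.lift_fst_assoc, Category.assoc, Category.assoc, Category.assoc, u₁, reassoc_of% q1,
          reassoc_of% w1, hψlm]
      · refine (Category.assoc _ _ _).trans ((congrArg (_ ≫ ·) hPk₂).trans ?_)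
        rw [pullback.lift_snd_assoc, Category.assoc, Category.assoc, u₂, q2, reassoc_of% w2]
    have e2 : pullback.lift z x₂ h₂ ≫ P.map k = w ≫ Q.map k ≫ v := by
      apply pullback.hom_ext
      · refine (Category.assoc _ _ _).trans ((congrArg (_ ≫ ·) hPk₁).trans ?_)
        rw [pullback.lift_fst_assoc, Category.assoc, Category.assoc, v₁, reassoc_of% q1, reassoc_of% w1, hPk₁]
        exact (pullback.lift_fst_assoc _ _ _ _).symm
      · refine (Category.assoc _ _ _).trans ((congrArg (_ ≫ ·) hPk₂).trans ?_)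
        rw [pullback.lift_snd_assoc, Category.assoc, Category.assoc, v₂, q2, reassoc_of% w2]
    rw [reassoc_of% e1, reassoc_of% e2, hk₂']
  let Ψ : Psi gm (Over.mk fm) :=
    { ψ := ψm
      lies := hψm₂
      unit := by
        apply pullback.hom_ext
        · refine (Category.assoc _ _ _).trans ((congrArg (_ ≫ ·) hψm₁).trans ?_)
          refine (Category.assoc _ _ _).symm.trans ((congrArg (· ≫ ψ₁) hunit).trans ?_)
          exact (Category.assoc _ _ _).trans (hk₁'.trans (hAk.trans (Category.id_comp _).symm))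
        · refine (Category.assoc _ _ _).trans ((congrArg (_ ≫ ·) hψm₂).trans ?_)
          exact (pullback.lift_snd _ _ _).trans (Category.id_comp _).symm
      assoc := fun {T} z x₁ x₂ h₁ h₂ h₁₂ => by
        apply pullback.hom_ext
        · refine (Category.assoc _ _ _).trans ((congrArg (_ ≫ ·) hψm₁).trans ?_)
          refine (hassoc z x₁ x₂ h₁ h₂ h₁₂).trans ?_
          exact ((Category.assoc _ _ _).trans (congrArg (_ ≫ ·) hψm₁)).symm
        · refine (Category.assoc _ _ _).trans ((congrArg (_ ≫ ·) hψm₂).trans ?_)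
          refine (pullback.lift_snd _ _ _).trans ?_
          exact ((Category.assoc _ _ _).trans ((congrArg (_ ≫ ·) hψm₂).trans (pullback.lift_snd _ _ _))).symm }
  let E := Ψ.toSchDD
  haveI : Etale E.obj.hom := MorphismProperty.of_isPullback (P := @Etale) (LimDesc.isPullback_stage F₀ f₁ m) hfe
  haveI : IsSeparated E.obj.hom := MorphismProperty.of_isPullback (P := @IsSeparated) (LimDesc.isPullback_stage F₀ f₁ m) hfs
  haveI : QuasiCompact E.obj.hom := MorphismProperty.of_isPullback (P := @QuasiCompact) (LimDesc.isPullback_stage F₀ f₁ m) hfq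
  obtain ⟨hg, hsec⟩ := H m.left
  obtain ⟨W, hWe, -, ⟨e⟩⟩ := exists_effective (D := E) hg (hsec E inferInstance inferInstance inferInstance)
  refine ⟨W, hWe, ?_⟩
  let σ : pullback gm W.hom ⟶ A.obj m := e.hom.hom.left
  haveI : IsIso σ := ⟨e.inv.hom.left, congrArg (fun h : (Desc.toDD gm).obj W ⟶ (Desc.toDD gm).obj W => h.hom.left)
    e.hom_inv_id, congrArg (fun h : E ⟶ E => h.hom.left) e.inv_hom_id⟩
  have hσ : SecCompat E W.hom σ := secCompat_of_hom e.hom
  let κ : pullback g W.hom ⟶ pullback gm W.hom :=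
    pullback.map g W.hom gm W.hom (cB.π.app m) (𝟙 _) (𝟙 _) (by rw [Category.comp_id]; exact (hβ m).symm) (by simp)
  have hs := LimDesc.isPullback_proj F₀ f₁ c₀ hsq m
  have hσl : σ ≫ fm = pullback.fst gm W.hom := hσ.lies
  let σD : pullback g W.hom ⟶ D.obj.left := hs.lift (κ ≫ σ) (pullback.fst g W.hom) (by
    rw [Category.assoc, hσl]
    exact pullback.lift_fst _ _ _)
  have hσD₁ : σD ≫ cA.π.app m = κ ≫ σ := hs.lift_fst _ _ _
  have hσD₂ : σD ≫ π = pullback.fst g W.hom := hs.lift_snd _ _ _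
  have H₁ : IsPullback σD κ (cA.π.app m) σ := by
    refine (IsPullback.of_bot ?_ hσD₁.symm hs).flip
    rw [hσD₂, hσl]
    refine IsPullback.of_right ?_ (pullback.lift_fst _ _ _) (IsPullback.of_hasPullback gm W.hom).flip
    rw [show κ ≫ pullback.snd gm W.hom = pullback.snd g W.hom by simp [κ]]
    have := (IsPullback.of_hasPullback g W.hom).flip
    exact (congrArg (fun q => IsPullback (pullback.snd g W.hom) (pullback.fst g W.hom) W.hom q) (hβ m)).mpr this
  haveI : IsIso σD := H₁.isIso_fst_of_isIso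
  refine nonempty_iso_of_sec (D := D) W.hom σD ⟨hσD₂, fun T t₀ t₁ h => ?_⟩
  apply hs.hom_ext
  · have h' : (t₀ ≫ κ) ≫ pullback.snd gm W.hom = (t₁ ≫ κ) ≫ pullback.snd gm W.hom := by
      simpa [κ] using h
    have key := hσ.compat (t₀ ≫ κ) (t₁ ≫ κ) h'
    rw [Category.assoc t₁ σD, show σD ≫ proj F₀ f₁ c₀ hsq m = κ ≫ σ from hσD₁]
    refine Eq.trans ?_ (key.trans (Category.assoc _ _ _))
    rw [← lift_psiOf D (t₀ ≫ σD) (t₁ ≫ pullback.fst g W.hom) (by
      show (t₀ ≫ σD) ≫ π ≫ g = (t₁ ≫ pullback.fst g W.hom) ≫ g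
      rw [Category.assoc, reassoc_of% hσD₂, Category.assoc, pullback.condition, reassoc_of% h]),
      Category.assoc]
    have hπm : ψ ≫ cA.π.app m = cP.π.app m ≫ ψm := by
      have p1 : P.map k ≫ ψl = ψm ≫ A.map k := by
        apply pullback.hom_ext
        · rw [Category.assoc, pullback.lift_fst, Category.assoc,
            show A.map k ≫ toBase F₀ f₁ l = toBase F₀ f₁ m from (pullback.lift_fst _ _ _).trans (Category.comp_id _)]
          exact (pullback.lift_fst _ _ _).symm
        · rw [Category.assoc, pullback.lift_snd, Category.assoc,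
            show A.map k ≫ toStage F₀ f₁ l = toStage F₀ f₁ m ≫ B.map k from pullback.lift_snd _ _ _,
            ← Category.assoc, show ψm ≫ toStage F₀ f₁ m = pullback.snd (a m) (t m) from pullback.lift_snd _ _ _]
          exact pullback.lift_snd _ _ _
      apply pullback.hom_ext
      · rw [Category.assoc, Category.assoc, pullback.lift_fst, ← Category.assoc (cP.π.app m), cP.w, hψ₁]
        exact congrArg (ψ ≫ ·) (LimDesc.proj_toBase F₀ f₁ c₀ hsq m)
      · rw [Category.assoc, Category.assoc, pullback.lift_snd]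
        refine (congrArg (ψ ≫ ·) (LimDesc.proj_toStage F₀ f₁ c₀ hsq m)).trans ?_
        rw [← Category.assoc ψ, hψ]
        exact (pullback.lift_snd _ _ _).symm
    refine (congrArg (_ ≫ ·) hπm).trans ?_
    refine Eq.trans ?_ (Psi.tr_toSchDD Ψ _ _ _).symm
    show _ ≫ cP.π.app m ≫ ψm = pullback.lift _ _ _ ≫ ψm
    rw [← Category.assoc]
    refine congrArg (· ≫ ψm) ?_
    apply pullback.hom_ext
    · simp only [cP, pairsCone, Category.assoc, pullback.lift_fst, pullback.lift_fst_assoc]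
      exact (pullback.lift_fst_assoc _ _ _ _).trans ((Category.assoc _ _ _).trans (congrArg (t₀ ≫ ·) hσD₁))
    · simp [cP, pairsCone, κ]
      exact (pullback.lift_snd_assoc _ _ _ _).trans (Category.assoc _ _ _)
  · exact (tr_over D _ _ _).trans ((Category.assoc _ _ _).trans (congrArg (t₁ ≫ ·) hσD₂)).symm

end Groth.Agent.EtDD
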