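import Groth.Agent.EtDD.SubtrLim
import Groth.Agent.EtDD.FP
import Groth.Agent.HTopVLim.Sheaf

/-!
# Compatible sections along quasi-compact universally subtrusive morphisms
-/

set_option autoImplicit false
set_option backward.isDefEq.respectTransparency false
set_option backward.isDefEq.respectTransparency.types false
set_option linter.style.haveILetI false
set_option maxHeartbeats 1000000

universe u

open CategoryTheory CategoryTheory.Limits AlgebraicGeometry Topology

noncomputable section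

namespace Groth.Agent.EtDD

theorem subtr_comp {X Y Z : Scheme.{u}} {k : X ⟶ Y} {f : Y ⟶ Z} (hk : Subtr.UnivSSubtrusive k)
    (hf : Subtr.UnivSSubtrusive f) : Subtr.UnivSSubtrusive (k ≫ f) := by
  intro X' Z' a b h sq
  have sq := sq.flip
  let p := pullback.lift (f := f) (g := b) (a ≫ k) h (by rw [Category.assoc]; exact sq.w)
  have hp₁ : p ≫ pullback.fst f b = a ≫ k := pullback.lift_fst _ _ _
  have hp₂ : p ≫ pullback.snd f b = h := pullback.lift_snd _ _ _
  have h1 : IsPullback a p k (pullback.fst f b) :=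
    IsPullback.of_bot (by rw [hp₂]; exact sq) hp₁.symm (IsPullback.of_hasPullback f b)
  intro y y' hy
  obtain ⟨w, w', hw, e, e'⟩ := hf _ _ _ (IsPullback.of_hasPullback f b).flip hy
  obtain ⟨x, x', hx, d, d'⟩ := hk _ _ _ h1.flip hw
  exact ⟨x, x', hx, by rw [← hp₂, Scheme.Hom.comp_apply, d, e], by rw [← hp₂, Scheme.Hom.comp_apply, d', e']⟩

theorem subtr_of_comp {X Y Z : Scheme.{u}} {k : X ⟶ Y} {f : Y ⟶ Z} (h : Subtr.UnivSSubtrusive (k ≫ f)) :
    Subtr.UnivSSubtrusive f := by
  intro Y' Z' a b f' sq y y' hy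
  obtain ⟨x, x', hx, e, e'⟩ := h _ _ _ (IsPullback.of_hasPullback (k ≫ f) b).flip hy
  let l := sq.flip.lift (pullback.fst (k ≫ f) b ≫ k) (pullback.snd (k ≫ f) b)
    (by rw [Category.assoc]; exact pullback.condition)
  have hl : l ≫ f' = pullback.snd (k ≫ f) b := sq.flip.lift_snd _ _ _
  exact ⟨l x, l x', hx.map l.continuous, by rw [← Scheme.Hom.comp_apply, hl, e],
    by rw [← Scheme.Hom.comp_apply, hl, e']⟩

theorem subtr_of_flat {X Y : Scheme.{u}} (f : X ⟶ Y) [Flat f] [Surjective f] : Subtr.UnivSSubtrusive f := by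
  intro X' Y' i₁ i₂ f' h y y' hy
  haveI : Flat f' := MorphismProperty.of_isPullback h.flip ‹Flat f›
  haveI : Surjective f' := MorphismProperty.of_isPullback h.flip ‹Surjective f›
  obtain ⟨x, rfl⟩ := f'.surjective y
  obtain ⟨x', hx, hx'⟩ := Flat.generalizingMap f' hy
  exact ⟨x, x', hx, rfl, hx'⟩

theorem isClosed_image_of_stable_spec {X Y : Scheme.{u}} [IsAffine Y] (f : X ⟶ Y) [QuasiCompact f] (Z : Set X)
    (hZ : IsClosed Z) (hs : StableUnderSpecialization (f '' Z)) : IsClosed (f '' Z) := by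
  wlog hY : ∃ R, Y = Spec R
  · let e := Y.isoSpec.hom
    have := this (f ≫ e) Z hZ (by
      have h1 : (f ≫ e) '' Z = e.homeomorph '' (f '' Z) := by
        rw [← Set.image_comp]; rfl
      rw [h1]
      intro a a' ha
      rintro ⟨c, hc, rfl⟩
      refine ⟨e.homeomorph.symm a', hs ?_ hc, e.homeomorph.apply_symm_apply a'⟩
      have := ha.map e.homeomorph.symm.continuous
      rwa [Homeomorph.symm_apply_apply] at this) ⟨_, rfl⟩
    have h1 : f '' Z = e.homeomorph ⁻¹' ((f ≫ e) '' Z) := by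
      rw [show (f ≫ e) '' Z = e.homeomorph '' (f '' Z) by rw [← Set.image_comp]; rfl,
        e.homeomorph.preimage_image]
    rw [h1]
    exact this.preimage e.homeomorph.continuous
  obtain ⟨R, rfl⟩ := hY
  wlog hX : ∃ A, X = Spec A
  · obtain ⟨A, g, hg⟩ := compactSpace_iff_exists.mp (QuasiCompact.compactSpace_of_compactSpace f)
    have inst : QuasiCompact (g ≫ f) := HasAffineProperty.iff_of_isAffine.mpr (by infer_instance)
    have := this (f := g ≫ f) (g ⁻¹' Z) (hZ.preimage g.continuous)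
    simp_rw [Scheme.Hom.comp_base, TopCat.comp_app, ← Set.image_image,
      Set.image_preimage_eq _ hg] at this
    exact this hs ⟨_, rfl⟩
  obtain ⟨A, rfl⟩ := hX
  obtain ⟨φ, rfl⟩ := Spec.homEquiv.symm.surjective f
  exact PrimeSpectrum.isClosed_image_of_stableUnderSpecialization φ.hom Z hZ hs

theorem subm_of_subtr_qc {X S : Scheme.{u}} (f : X ⟶ S) [QuasiCompact f] (hf : Subtr.UnivSSubtrusive f) :
    SGA1.UnivSubmersive f := by
  intro X' S' b a f' sq
  haveI : QuasiCompact f' := MorphismProperty.of_isPullback (P := @QuasiCompact) sq.flip ‹_›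
  have hsub : Subtr.IsSSubtrusive f' := hf _ _ _ sq
  have hsurj : Function.Surjective f' := fun t => by
    obtain ⟨x, -, -, hx, -⟩ := hsub (specializes_rfl (x := t))
    exact ⟨x, hx⟩
  have hstab : Subtr.UnivSSubtrusive f' := (MorphismProperty.universally_isStableUnderBaseChange _).of_isPullback sq.flip hf
  show IsQuotientMap (f' : X' → S')
  refine ⟨isCoinducing_iff.mpr fun E => ⟨fun hE => isOpen_iff_forall_mem_open.mpr fun t ht => ?_,
    fun hE => hE.preimage f'.continuous⟩, hsurj⟩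
  obtain ⟨O, hO, hts⟩ := exists_affine_nhd t
  haveI : IsAffine (O : Scheme.{u}) := hO
  let fO := f' ∣_ O
  let C : Set (O : Scheme.{u}) := O.ι ⁻¹' Eᶜ
  have hcl : IsClosed (fO ⁻¹' C) := by
    have : IsClosed ((f' ⁻¹ᵁ O).ι ⁻¹' (f' ⁻¹' Eᶜ)) := hE.isClosed_compl.preimage (f' ⁻¹ᵁ O).ι.continuous
    convert this using 1
    ext x
    show O.ι (fO x) ∈ Eᶜ ↔ f' ((f' ⁻¹ᵁ O).ι x) ∈ Eᶜ
    rw [← Scheme.Hom.comp_apply, morphismRestrict_ι, Scheme.Hom.comp_apply]
  have hsO : Subtr.IsSSubtrusive fO := hstab _ _ _ (isPullback_morphismRestrict f' O)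
  have himg : fO '' (fO ⁻¹' C) = C := Set.image_preimage_eq _ fun x => by
    obtain ⟨z, -, -, hz, -⟩ := hsO (specializes_rfl (x := x))
    exact ⟨z, hz⟩
  have hst : StableUnderSpecialization (fO '' (fO ⁻¹' C)) := by
    rw [himg]
    intro y y' hyy hy
    obtain ⟨x, x', hx, e, e'⟩ := hsO hyy
    have : x ∈ fO ⁻¹' C := hcl.stableUnderSpecialization hx (by rw [Set.mem_preimage, e']; exact hy)
    rwa [Set.mem_preimage, e] at this
  have hC : IsClosed C := himg ▸ isClosed_image_of_stable_spec fO _ hcl hst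
  have hopen : IsOpen (O.ι '' (O.ι ⁻¹' E)) := O.ι.isOpenEmbedding.isOpenMap _ (by
    simpa [C] using hC.isOpen_compl)
  obtain ⟨v, hv⟩ := (Scheme.Opens.range_ι O).ge (show t ∈ O from hts)
  exact ⟨_, Set.image_preimage_subset _ _, hopen, v, by rw [Set.mem_preimage, hv]; exact ht, hv⟩

/-- an affine datum: the source and base affine -/
theorem hasSecQC_subtr_affine {X S : Scheme.{u}} [IsAffine X] [IsAffine S] (g : X ⟶ S)
    (hg : Subtr.UnivSSubtrusive g) : HasSecQC g := by
  intro D hDe hDs hDq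
  obtain ⟨I, _, _, F, c, hc, e, haff, hfp⟩ := HTopVLim.exists_fp_limit g
  haveI : ∀ i, IsAffine (F.obj i).left := haff
  have hk : e.hom.left ≫ g = c.pt.hom := Over.w e.hom
  haveI : IsIso e.hom.left := inferInstanceAs (IsIso ((Over.forget S).map e.hom))
  have hc' : Subtr.UnivSSubtrusive c.pt.hom :=
    hk ▸ subtr_comp (subtr_of_flat e.hom.left) hg
  have hsub : SGA1.UnivSubmersive (e.hom.left ≫ g) :=
    subm_comp (subm_of_isIso _) (subm_of_subtr_qc g hg)
  haveI := hDe; haveI := hDs; haveI := hDq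
  refine hasSec_of_refine D e.hom.left hsub ?_
  have H : ∀ i, SGA1.UnivSubmersive (F.obj i).hom ∧ HasSecQC (F.obj i).hom := fun i => by
    haveI := hfp i
    have hi : Subtr.UnivSSubtrusive (F.obj i).hom :=
      subtr_of_comp (k := (c.π.app i).left) (by
        have := Over.w (c.π.app i)
        rw [this]; exact hc')
    exact ⟨subm_of_subtr_fp _ hi, (hasSecAll_subtr_fp _ hi).qc⟩
  let D' := pullDD D e.hom.left c.pt.hom (𝟙 S) (hk.trans (Category.comp_id _).symm)
  refine hasSec_pullDD_congr e.hom.left (𝟙 S) D hk.symm (hk.trans (Category.comp_id _).symm) _ ?_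
  obtain ⟨W, hW, ⟨eW⟩⟩ := exists_effective_of_limit F c hc H D'
  exact hasSec_of_effective W eW

theorem hasSecQC_subtr {X S : Scheme.{u}} (g : X ⟶ S) [QuasiCompact g] (hg : Subtr.UnivSSubtrusive g) :
    HasSecQC g := by
  intro D hDe hDs hDq
  refine hasSec_of_local D fun s => ?_
  obtain ⟨O, hO, hs⟩ := exists_affine_nhd s
  haveI : IsAffine (O : Scheme.{u}) := hO
  let g₁ := pullback.snd g O.ι
  have hg₁ : Subtr.UnivSSubtrusive g₁ :=
    (MorphismProperty.universally_isStableUnderBaseChange _).of_isPullback (IsPullback.of_hasPullback g O.ι) hg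
  haveI : CompactSpace ↑(pullback g O.ι) := QuasiCompact.compactSpace_of_compactSpace g₁
  let C := (pullback g O.ι).affineCover.finiteSubcover
  let k : ∐ C.X ⟶ pullback g O.ι := Sigma.desc C.f
  haveI : ∀ i, IsAffine (C.X i) := fun i => inferInstanceAs (IsAffine ((pullback g O.ι).affineCover.X _))
  haveI : Etale k := IsZariskiLocalAtSource.sigmaDesc (P := @Etale) fun i => inferInstance
  haveI : Surjective k := ⟨fun x => by
    obtain ⟨i, y, hy⟩ := C.exists_eq x
    exact ⟨Sigma.ι C.X i y, by rw [← Scheme.Hom.comp_apply, Sigma.ι_desc]; exact hy⟩⟩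
  have hkg : Subtr.UnivSSubtrusive (k ≫ g₁) := subtr_comp (subtr_of_flat k) hg₁
  refine ⟨O, O.ι, inferInstance, (Scheme.Opens.range_ι O).ge hs, ?_⟩
  exact hasSecQC_of_refine g₁ k (subm_of_subtr_qc _ hkg) (hasSecQC_subtr_affine _ hkg) _
    inferInstance inferInstance inferInstance

theorem exists_effective_subtr_qc {X S : Scheme.{u}} (g : X ⟶ S) [QuasiCompact g] (hg : Subtr.UnivSSubtrusive g)
    (D : Desc.SchDD g) [QuasiCompact D.obj.hom] [IsSeparated D.obj.hom] [Etale D.obj.hom] :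
    ∃ U : Over S, QuasiCompact U.hom ∧ IsSeparated U.hom ∧ Etale U.hom ∧ Nonempty ((Desc.toDD g).obj U ≅ D) :=
  exists_effective_qc (subm_of_subtr_qc g hg) (hasSecQC_subtr g hg D ‹_› ‹_› ‹_›)

end Groth.Agent.EtDD
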