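import Groth.Agent.EtDD.Effective

/-!
# Refinement, composition and locality for compatible sections of étale descent data
-/

set_option autoImplicit false
set_option backward.isDefEq.respectTransparency false
set_option backward.isDefEq.respectTransparency.types false
set_option linter.style.haveILetI false
set_option maxHeartbeats 1000000

universe u

open CategoryTheory CategoryTheory.Limits AlgebraicGeometry

noncomputable section

namespace Groth.Agent.EtDD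

open Groth.Agent.SchDescent

variable {X S : Scheme.{u}} {f : X ⟶ S}

/-! ## pulled back data -/

section Pull

variable (D : Desc.SchDD f) {Y S₁ : Scheme.{u}} (k : Y ⟶ X) (f₁ : Y ⟶ S₁) (j : S₁ ⟶ S) (w : k ≫ f = f₁ ≫ j)

include w in
theorem pull_cond {T : Scheme.{u}} (y₁ : T ⟶ Y) (v : T ⟶ pullback D.obj.hom k) (y₀ : T ⟶ Y)
    (hv : v ≫ pullback.snd D.obj.hom k = y₀) (h : y₀ ≫ f₁ = y₁ ≫ f₁) :
    ((v ≫ pullback.fst D.obj.hom k) ≫ D.obj.hom) ≫ f = (y₁ ≫ k) ≫ f := by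
  rw [Category.assoc v, pullback.condition, ← Category.assoc v, hv, Category.assoc, Category.assoc, w,
    ← Category.assoc, h, Category.assoc]

/-- transport in the pulled back datum -/
def pullTr {T : Scheme.{u}} {y₀ : T ⟶ Y} (y₁ : T ⟶ Y) (v : T ⟶ pullback D.obj.hom k)
    (hv : v ≫ pullback.snd D.obj.hom k = y₀) (h : y₀ ≫ f₁ = y₁ ≫ f₁) : T ⟶ pullback D.obj.hom k :=
  pullback.lift (tr D (y₁ ≫ k) (v ≫ pullback.fst D.obj.hom k) (pull_cond D k f₁ j w y₁ v y₀ hv h)) y₁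
    (tr_over D _ _ _)

theorem pullTr_fst {T : Scheme.{u}} {y₀ : T ⟶ Y} (y₁ : T ⟶ Y) (v : T ⟶ pullback D.obj.hom k)
    (hv : v ≫ pullback.snd D.obj.hom k = y₀) (h : y₀ ≫ f₁ = y₁ ≫ f₁) :
    pullTr D k f₁ j w y₁ v hv h ≫ pullback.fst D.obj.hom k =
      tr D (y₁ ≫ k) (v ≫ pullback.fst D.obj.hom k) (pull_cond D k f₁ j w y₁ v y₀ hv h) :=
  pullback.lift_fst _ _ _

theorem pullTr_snd {T : Scheme.{u}} {y₀ : T ⟶ Y} (y₁ : T ⟶ Y) (v : T ⟶ pullback D.obj.hom k)
    (hv : v ≫ pullback.snd D.obj.hom k = y₀) (h : y₀ ≫ f₁ = y₁ ≫ f₁) :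
    pullTr D k f₁ j w y₁ v hv h ≫ pullback.snd D.obj.hom k = y₁ := pullback.lift_snd _ _ _

theorem pullTr_pullTr {T : Scheme.{u}} {y₀ y₁ : T ⟶ Y} (y₂ : T ⟶ Y) (v : T ⟶ pullback D.obj.hom k)
    (hv : v ≫ pullback.snd D.obj.hom k = y₀) (h : y₀ ≫ f₁ = y₁ ≫ f₁) (h' : y₁ ≫ f₁ = y₂ ≫ f₁) :
    pullTr D k f₁ j w y₂ (pullTr D k f₁ j w y₁ v hv h) (pullTr_snd D k f₁ j w y₁ v hv h) h' =
      pullTr D k f₁ j w y₂ v hv (h.trans h') := by
  apply pullback.hom_ext
  · rw [pullTr_fst, pullTr_fst D k f₁ j w y₂ v hv]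
    exact tr_tr' D (pullTr_fst D k f₁ j w y₁ v hv h).symm
  · rw [pullTr_snd, pullTr_snd]

theorem pullTr_self {T : Scheme.{u}} {y : T ⟶ Y} (v : T ⟶ pullback D.obj.hom k)
    (hv : v ≫ pullback.snd D.obj.hom k = y) : pullTr D k f₁ j w y v hv rfl = v := by
  apply pullback.hom_ext
  · rw [pullTr_fst]
    exact tr_self D (by rw [Category.assoc, pullback.condition, ← Category.assoc, hv])
  · rw [pullTr_snd, hv]

/-- the datum pulled back along a commutative square -/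
def pullDD : Desc.SchDD f₁ where
  obj := Over.mk (pullback.snd D.obj.hom k)
  φ T y₀ y₁ h :=
    { toFun := fun v => ⟨pullTr D k f₁ j w y₁ v.1 v.2 h, pullTr_snd D k f₁ j w y₁ v.1 v.2 h⟩
      invFun := fun v => ⟨pullTr D k f₁ j w y₀ v.1 v.2 h.symm, pullTr_snd D k f₁ j w y₀ v.1 v.2 h.symm⟩
      left_inv := fun v => Subtype.ext ((pullTr_pullTr D k f₁ j w y₀ v.1 v.2 h h.symm).trans
        (pullTr_self D k f₁ j w v.1 v.2))
      right_inv := fun v => Subtype.ext ((pullTr_pullTr D k f₁ j w y₁ v.1 v.2 h.symm h).trans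
        (pullTr_self D k f₁ j w v.1 v.2)) }
  φ_natural T T' g y₀ y₁ h h' v v' hv' := by
    show pullTr D k f₁ j w _ v'.1 v'.2 h' = g ≫ pullTr D k f₁ j w y₁ v.1 v.2 h
    apply pullback.hom_ext
    · refine (pullTr_fst D k f₁ j w _ v'.1 v'.2 h').trans ?_
      refine Eq.trans ?_ (((Category.assoc g _ _).trans (congrArg (g ≫ ·) (pullTr_fst D k f₁ j w y₁ v.1 v.2 h))).symm)
      exact (comp_tr D g (Category.assoc _ _ _).symm
        ((Category.assoc _ _ _).symm.trans (congrArg (· ≫ _) hv'.symm))).symm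
    · rw [pullTr_snd, Category.assoc, pullTr_snd]
  φ_self T x v := Subtype.ext (pullTr_self D k f₁ j w v.1 v.2)
  φ_comp T y₀ y₁ y₂ h h' v := Subtype.ext (pullTr_pullTr D k f₁ j w y₂ v.1 v.2 h h')

instance etale_pullDD [Etale D.obj.hom] : Etale (pullDD D k f₁ j w).obj.hom :=
  inferInstanceAs (Etale (pullback.snd D.obj.hom k))

instance isSeparated_pullDD [IsSeparated D.obj.hom] : IsSeparated (pullDD D k f₁ j w).obj.hom :=
  inferInstanceAs (IsSeparated (pullback.snd D.obj.hom k))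

instance quasiCompact_pullDD [QuasiCompact D.obj.hom] : QuasiCompact (pullDD D k f₁ j w).obj.hom :=
  inferInstanceAs (QuasiCompact (pullback.snd D.obj.hom k))

theorem pull_hh {U : Scheme.{u}} {a : U ⟶ S₁} {σ : pullback f₁ a ⟶ (pullDD D k f₁ j w).obj.left}
    (hσ : SecCompat (pullDD D k f₁ j w) a σ) {T : Scheme.{u}} (t₀ t₁ : T ⟶ pullback f₁ a)
    (h : t₀ ≫ pullback.snd f₁ a = t₁ ≫ pullback.snd f₁ a) :
    ((t₀ ≫ σ ≫ pullback.fst D.obj.hom k) ≫ D.obj.hom) ≫ f = ((t₁ ≫ pullback.fst f₁ a) ≫ k) ≫ f := by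
  have hl : σ ≫ pullback.snd D.obj.hom k = pullback.fst f₁ a := hσ.lies
  simp only [Category.assoc, pullback.condition_assoc]
  rw [reassoc_of% hl, w, pullback.condition_assoc, reassoc_of% h]

/-- compatible sections of a pulled back datum, in terms of the datum -/
theorem pull_compat {U : Scheme.{u}} {a : U ⟶ S₁} {σ : pullback f₁ a ⟶ (pullDD D k f₁ j w).obj.left}
    (hσ : SecCompat (pullDD D k f₁ j w) a σ) {T : Scheme.{u}} (t₀ t₁ : T ⟶ pullback f₁ a)
    (h : t₀ ≫ pullback.snd f₁ a = t₁ ≫ pullback.snd f₁ a)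
    {hh : ((t₀ ≫ σ ≫ pullback.fst D.obj.hom k) ≫ D.obj.hom) ≫ f = ((t₁ ≫ pullback.fst f₁ a) ≫ k) ≫ f} :
    tr D ((t₁ ≫ pullback.fst f₁ a) ≫ k) (t₀ ≫ σ ≫ pullback.fst D.obj.hom k) hh =
      t₁ ≫ σ ≫ pullback.fst D.obj.hom k := by
  have key := congrArg (· ≫ pullback.fst D.obj.hom k) (hσ.compat t₀ t₁ h)
  refine Eq.trans ?_ (key.trans (Category.assoc _ _ _))
  have hl : σ ≫ pullback.snd D.obj.hom k = pullback.fst f₁ a := hσ.lies
  have h' : ((t₀ ≫ σ) ≫ pullback.snd D.obj.hom k) ≫ f₁ = (t₁ ≫ pullback.fst f₁ a) ≫ f₁ := by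
    rw [Category.assoc t₀, hl, Category.assoc, Category.assoc, pullback.condition, ← Category.assoc, h, Category.assoc]
  refine Eq.trans ?_ (pullTr_fst D k f₁ j w (t₁ ≫ pullback.fst f₁ a) (t₀ ≫ σ) rfl h').symm
  exact tr_congr D rfl (Category.assoc _ _ _).symm

end Pull

/-! ## locality on the base -/

/-- compatible sections exist if they exist locally on the base for the étale topology -/
theorem hasSec_of_local (D : Desc.SchDD f)
    (H : ∀ s : S, ∃ (S₁ : Scheme.{u}) (j : S₁ ⟶ S) (_ : Etale j), s ∈ Set.range j ∧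
      HasSec (pullDD D (pullback.fst f j) (pullback.snd f j) j pullback.condition)) : HasSec D := by
  intro d
  obtain ⟨S₁, j, _, ⟨s₁, hs₁⟩, h⟩ := H (f (D.obj.hom d))
  obtain ⟨x₁, hx₁, -⟩ := Scheme.Pullback.exists_preimage_pullback (f := f) (g := j) (D.obj.hom d) s₁ hs₁.symm
  obtain ⟨d₁, hd₁, -⟩ := Scheme.Pullback.exists_preimage_pullback (f := D.obj.hom) (g := pullback.fst f j) d x₁
    hx₁.symm
  obtain ⟨U, a, _, σ, hσ, z, hz⟩ := h d₁
  let i : pullback f (a ≫ j) ⟶ pullback (pullback.snd f j) a :=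
    pullback.lift (pullback.lift (pullback.fst f (a ≫ j)) (pullback.snd f (a ≫ j) ≫ a)
      (by rw [Category.assoc]; exact pullback.condition)) (pullback.snd f (a ≫ j)) (pullback.lift_snd _ _ _)
  let i' : pullback (pullback.snd f j) a ⟶ pullback f (a ≫ j) :=
    pullback.lift (pullback.fst (pullback.snd f j) a ≫ pullback.fst f j) (pullback.snd (pullback.snd f j) a) (by
      rw [Category.assoc, pullback.condition (f := f), ← Category.assoc, pullback.condition, Category.assoc])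
  have hi₁ : i ≫ pullback.fst (pullback.snd f j) a ≫ pullback.fst f j = pullback.fst f (a ≫ j) := by
    simp [i]
  have hii : i' ≫ i = 𝟙 _ := by
    apply pullback.hom_ext
    · apply pullback.hom_ext
      · simp [i, i']
      · simp [i, i', pullback.condition]
    · simp [i, i']
  have hlies : σ ≫ pullback.snd D.obj.hom (pullback.fst f j) = pullback.fst (pullback.snd f j) a := hσ.lies
  refine ⟨U, a ≫ j, inferInstance, i ≫ σ ≫ pullback.fst D.obj.hom (pullback.fst f j), ⟨?_, fun T t₀ t₁ e => ?_⟩,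
    ⟨i' z, ?_⟩⟩
  · simp only [Category.assoc, pullback.condition]
    rw [reassoc_of% hlies]
    exact hi₁
  · have e' : (t₀ ≫ i) ≫ pullback.snd (pullback.snd f j) a = (t₁ ≫ i) ≫ pullback.snd (pullback.snd f j) a := by
      simpa [i] using e
    refine (tr_congr D ?_ (Category.assoc _ _ _).symm).trans
      ((pull_compat D _ _ _ _ hσ (t₀ ≫ i) (t₁ ≫ i) e' (hh := pull_hh D _ _ _ _ hσ (t₀ ≫ i) (t₁ ≫ i) e')).trans
        (Category.assoc _ _ _))
    simp only [Category.assoc, hi₁]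
  · rw [← Scheme.Hom.comp_apply, reassoc_of% hii, Scheme.Hom.comp_apply, hz]
    exact hd₁

/-! ## refinement -/

/-- compatible sections descend along refinements -/
theorem hasSec_of_refine (D : Desc.SchDD f) [Etale D.obj.hom] {Y : Scheme.{u}} (k : Y ⟶ X)
    (hk : SGA1.UnivSubmersive (k ≫ f))
    (H : HasSec (pullDD D k (k ≫ f) (𝟙 S) (Category.comp_id _).symm)) : HasSec D := by
  let π₀ := D.obj.hom
  intro d
  let d₀ := D.obj.left.fromSpecResidueField d
  haveI := surjective_subm hk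
  obtain ⟨L, _, kL, y, hy, -, -⟩ := exists_field_point (K := D.obj.left.residueField d) (k ≫ f) ((d₀ ≫ π₀) ≫ f)
  have hy' : ((kL ≫ d₀) ≫ π₀) ≫ f = (y ≫ k) ≫ f := by
    simp only [Category.assoc] at hy ⊢; exact hy.symm
  let p : Spec (CommRingCat.of L) ⟶ pullback π₀ k := pullback.lift (tr D (y ≫ k) (kL ≫ d₀) hy') y (tr_over D _ _ _)
  obtain ⟨U, a, _, σY, hσY, z, hz⟩ := H (p default)
  obtain ⟨w, -, -⟩ := Scheme.Pullback.exists_preimage_pullback (f := σY) (g := p) z default hz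
  let τ := (pullback σY p).fromSpecResidueField w
  let t := τ ≫ pullback.fst σY p
  let m := τ ≫ pullback.snd σY p
  have htm : t ≫ σY = m ≫ p := by simp only [t, m, Category.assoc, pullback.condition]
  have hliesY : σY ≫ pullback.snd π₀ k = pullback.fst (k ≫ f) a := hσY.lies
  let s := σY ≫ pullback.fst π₀ k
  have hs : (s ≫ π₀) = pullback.fst (k ≫ f) a ≫ k := by
    simp only [s, Category.assoc, pullback.condition]
    exact (Category.assoc _ _ _).symm.trans (congrArg (· ≫ k) hliesY)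
  let g := pullback.fst (pullback.snd f a) (pullback.snd (k ≫ f) a)
  let n := pullback.snd (pullback.snd f a) (pullback.snd (k ≫ f) a)
  have hg : SGA1.UnivSubmersive g := subm_fst _ (subm_snd a hk)
  have hc : ((n ≫ s) ≫ π₀) ≫ f = (g ≫ pullback.fst f a) ≫ f := by
    rw [Category.assoc n, hs, Category.assoc g, pullback.condition, ← Category.assoc g, show g ≫ pullback.snd f a =
      n ≫ pullback.snd (k ≫ f) a from pullback.condition, Category.assoc n]
    simp only [Category.assoc]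
    rw [pullback.condition]
  obtain ⟨σ, ⟨hσ₁, hσ₂⟩, -⟩ := exists_desc hg (pullback.fst f a) π₀ (tr D (g ≫ pullback.fst f a) (n ≫ s) hc)
    (tr_over D _ _ _) fun {T} b₀ b₁ e => by
      have hn : (b₀ ≫ n) ≫ pullback.snd (k ≫ f) a = (b₁ ≫ n) ≫ pullback.snd (k ≫ f) a := by
        simp only [n, Category.assoc, ← pullback.condition]
        simpa only [Category.assoc] using congrArg (· ≫ pullback.snd f a) e
      have hr : ∀ b : T ⟶ pullback (pullback.snd f a) (pullback.snd (k ≫ f) a),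
          (((b ≫ n) ≫ s) ≫ π₀) ≫ f = ((b ≫ g) ≫ pullback.fst f a) ≫ f := fun b => by
        simpa only [Category.assoc] using congrArg (b ≫ ·) hc
      have h₀₁ : ((((b₁ ≫ n)) ≫ s) ≫ π₀) ≫ f = (((b₁ ≫ n) ≫ pullback.fst (k ≫ f) a) ≫ k) ≫ f := by
        rw [Category.assoc (b₁ ≫ n) s, hs, ← Category.assoc]
      have key : tr D (((b₁ ≫ n) ≫ pullback.fst (k ≫ f) a) ≫ k) ((b₀ ≫ n) ≫ s) _ = (b₁ ≫ n) ≫ s :=
        pull_compat D k (k ≫ f) (𝟙 S) _ hσY (b₀ ≫ n) (b₁ ≫ n) hn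
          (hh := pull_hh D k (k ≫ f) (𝟙 S) _ hσY (b₀ ≫ n) (b₁ ≫ n) hn)
      have hb := hr b₁
      calc b₀ ≫ tr D (g ≫ pullback.fst f a) (n ≫ s) hc
          = tr D ((b₀ ≫ g) ≫ pullback.fst f a) ((b₀ ≫ n) ≫ s) (hr b₀) :=
            comp_tr D b₀ (Category.assoc _ _ _).symm (Category.assoc _ _ _).symm
        _ = tr D ((b₁ ≫ g) ≫ pullback.fst f a) ((b₀ ≫ n) ≫ s)
              ((hr b₀).trans (by rw [e])) := tr_congr D (by rw [e]) rfl
        _ = tr D ((b₁ ≫ g) ≫ pullback.fst f a) ((b₁ ≫ n) ≫ s) hb := (tr_tr' D key).symm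
        _ = b₁ ≫ tr D (g ≫ pullback.fst f a) (n ≫ s) hc :=
            (comp_tr D b₁ (Category.assoc _ _ _).symm (Category.assoc _ _ _).symm).symm
  refine ⟨U, a, inferInstance, σ, ⟨hσ₁, fun T t₀ t₁ h => ?_⟩, ?_⟩
  · let g' := pullback.fst (t₀ ≫ pullback.snd f a) (pullback.snd (k ≫ f) a)
    let n' := pullback.snd (t₀ ≫ pullback.snd f a) (pullback.snd (k ≫ f) a)
    haveI : Surjective g' := surjective_subm (subm_fst _ (subm_snd a hk))
    have hl₀ : (g' ≫ t₀) ≫ pullback.snd f a = n' ≫ pullback.snd (k ≫ f) a :=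
      (Category.assoc _ _ _).trans pullback.condition
    have hl₁ : (g' ≫ t₁) ≫ pullback.snd f a = n' ≫ pullback.snd (k ≫ f) a :=
      (Category.assoc _ _ _).trans ((congrArg (g' ≫ ·) h.symm).trans ((Category.assoc _ _ _).symm.trans hl₀))
    have hv : ∀ {t : T ⟶ pullback f a} (ht : (g' ≫ t) ≫ pullback.snd f a = n' ≫ pullback.snd (k ≫ f) a),
        ∃ hh, g' ≫ t ≫ σ = tr D ((g' ≫ t) ≫ pullback.fst f a) (n' ≫ s) hh := fun {t} ht => by
      let l := pullback.lift (g' ≫ t) n' ht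
      refine ⟨?_, ?_⟩
      · rw [Category.assoc n' s, hs]
        simp only [Category.assoc, pullback.condition]
        rw [← Category.assoc g' t, ← Category.assoc (g' ≫ t), ht, Category.assoc]
      · have hlg : l ≫ g = g' ≫ t := pullback.lift_fst _ _ ht
        refine (Category.assoc g' t σ).symm.trans ((congrArg (· ≫ σ) hlg.symm).trans ((Category.assoc l g σ).trans
          ((congrArg (l ≫ ·) hσ₂).trans (comp_tr D l ?_ ?_))))
        · exact (Category.assoc _ _ _).symm.trans (congrArg (· ≫ pullback.fst f a) hlg)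
        · exact (Category.assoc _ _ _).symm.trans (congrArg (· ≫ s) (pullback.lift_snd _ _ _))
    obtain ⟨_, e₀⟩ := hv hl₀
    obtain ⟨_, e₁⟩ := hv hl₁
    refine desc_ext g' π₀ ((tr_over D _ _ _).trans (by rw [Category.assoc, hσ₁])) ?_
    rw [e₁]
    have hh' : ((tr D ((g' ≫ t₀) ≫ pullback.fst f a) (n' ≫ s) ‹_›) ≫ D.obj.hom) ≫ f =
        ((g' ≫ t₁) ≫ pullback.fst f a) ≫ f := by
      rw [tr_over, Category.assoc (g' ≫ t₀), pullback.condition, ← Category.assoc, hl₀, ← hl₁,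
        Category.assoc (g' ≫ t₁) (pullback.fst f a) f, pullback.condition, Category.assoc]
    refine (comp_tr D g' (h' := hh') (Category.assoc _ _ _).symm e₀).trans ?_
    exact tr_tr' D rfl
  · have htn : ((m ≫ kL ≫ d₀) ≫ π₀) ≫ f = (t ≫ pullback.snd (k ≫ f) a) ≫ a := by
      have hts : t ≫ pullback.fst (k ≫ f) a = m ≫ y := by
        rw [← hliesY, reassoc_of% htm, pullback.lift_snd]
      rw [Category.assoc t, ← pullback.condition, ← Category.assoc t, hts]
      simp only [Category.assoc] at hy ⊢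
      rw [hy]
    let l : _ ⟶ pullback f a := pullback.lift ((m ≫ kL ≫ d₀) ≫ π₀) (t ≫ pullback.snd (k ≫ f) a) htn
    let l' : _ ⟶ pullback (pullback.snd f a) (pullback.snd (k ≫ f) a) :=
      pullback.lift l t (pullback.lift_snd _ _ _)
    have hl' : l ≫ σ = m ≫ kL ≫ d₀ := by
      refine (congrArg (· ≫ σ) (pullback.lift_fst _ _ _ : l' ≫ g = l).symm).trans
        ((Category.assoc _ _ _).trans ((congrArg (l' ≫ ·) hσ₂).trans ?_))
      refine (comp_tr D l' (x' := (m ≫ kL ≫ d₀) ≫ π₀) (v' := m ≫ tr D (y ≫ k) (kL ≫ d₀) hy') (h' := ?_) ?_ ?_).trans ?_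
      · rw [Category.assoc m (tr D _ _ _), tr_over]
        simp only [Category.assoc] at hy' ⊢
        rw [hy']
      · rw [← Category.assoc, show l' ≫ g = l from pullback.lift_fst _ _ _]; exact pullback.lift_fst _ _ _
      · rw [← Category.assoc, show l' ≫ n = t from pullback.lift_snd _ _ _]
        simp only [s, reassoc_of% htm, p, pullback.lift_fst]
      · refine (tr_tr' D (h₂ := rfl) (comp_tr D m rfl rfl (h' := ?_)).symm).trans (tr_self D rfl)
        simp only [Category.assoc] at hy' ⊢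
        rw [hy']
    refine ⟨l default, ?_⟩
    rw [← Scheme.Hom.comp_apply, hl', Scheme.Hom.comp_apply, Scheme.Hom.comp_apply]
    exact Scheme.fromSpecResidueField_apply _ _

/-! ## composition -/

section Compose

variable {Z : Scheme.{u}} {a : X ⟶ Z} {b : Z ⟶ S} (D : Desc.SchDD (a ≫ b))

/-- a datum for a composite restricted to the first factor -/
def restrDD : Desc.SchDD a where
  obj := D.obj
  φ T x₀ x₁ h := D.φ x₀ x₁ (by rw [← Category.assoc, h, Category.assoc])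
  φ_natural T T' g x₀ x₁ h h' v v' hv := D.φ_natural g x₀ x₁ _ _ v v' hv
  φ_self T x v := D.φ_self x v
  φ_comp T x₀ x₁ x₂ h h' v := D.φ_comp x₀ x₁ x₂ _ _ v

end Compose

/-- compatible sections for a composite: the restriction to the first factor is effective and the
second factor has sections for data on the descended scheme -/
theorem hasSec_comp {Z : Scheme.{u}} {a : X ⟶ Z} {b : Z ⟶ S} (ha : SGA1.UnivSubmersive a)
    (D : Desc.SchDD (a ≫ b)) (E : Over Z) [Etale E.hom] (e : (Desc.toDD a).obj E ≅ restrDD D)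
    (Hb : ∀ DE : Desc.SchDD b, DE.obj = E → HasSec DE) : HasSec D := by
  let ε : pullback a E.hom ⟶ D.obj.left := e.hom.hom.left
  have hεπ : ε ≫ D.obj.hom = pullback.fst a E.hom := Over.w e.hom.hom
  let η : D.obj.left ⟶ pullback a E.hom := e.inv.hom.left
  have hεη : ε ≫ η = 𝟙 _ := congrArg (fun g : (Desc.toDD a).obj E ⟶ (Desc.toDD a).obj E => g.hom.left) e.hom_inv_id
  have hηε : η ≫ ε = 𝟙 _ := congrArg (fun g : restrDD D ⟶ restrDD D => g.hom.left) e.inv_hom_id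
  have hηπ : η ≫ pullback.fst a E.hom = D.obj.hom := Over.w e.inv.hom
  let π : D.obj.left ⟶ E.left := η ≫ pullback.snd a E.hom
  have hA : ∀ {T : Scheme.{u}} (v : T ⟶ D.obj.left), (v ≫ π) ≫ E.hom = (v ≫ D.obj.hom) ≫ a := fun v => by
    simp only [π, Category.assoc, ← pullback.condition, ← hηπ]
  have hB : ∀ {T : Scheme.{u}} {x : T ⟶ X} {e₁ : T ⟶ E.left} (h : x ≫ a = e₁ ≫ E.hom),
      (pullback.lift x e₁ h ≫ ε) ≫ D.obj.hom = x ∧ (pullback.lift x e₁ h ≫ ε) ≫ π = e₁ := fun {T x e₁} h => by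
    refine ⟨by rw [Category.assoc, hεπ, pullback.lift_fst], ?_⟩
    simp only [π, Category.assoc, reassoc_of% hεη, pullback.lift_snd]
  have huniq : ∀ {T : Scheme.{u}} {v v' : T ⟶ D.obj.left}, v ≫ D.obj.hom = v' ≫ D.obj.hom → v ≫ π = v' ≫ π →
      v = v' := fun {T v v'} h h' => by
    have : v ≫ η = v' ≫ η := pullback.hom_ext (by simpa only [Category.assoc, hηπ] using h)
      (by simpa only [π, Category.assoc] using h')
    simpa only [Category.assoc, hηε, Category.comp_id] using congrArg (· ≫ ε) this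
  have hC : ∀ {T : Scheme.{u}} (x : T ⟶ X) (v : T ⟶ D.obj.left) (hv : (v ≫ D.obj.hom) ≫ a ≫ b = x ≫ a ≫ b)
      (_ : (v ≫ D.obj.hom) ≫ a = x ≫ a), tr D x v hv ≫ π = v ≫ π := fun {T} x v hv ha' => by
    have key := e.inv.comm (v ≫ D.obj.hom) x ha' ⟨v, rfl⟩
      ⟨v ≫ η, by show (v ≫ η) ≫ pullback.fst a E.hom = v ≫ D.obj.hom; rw [Category.assoc, hηπ]⟩ rfl
    have k2 := congrArg (· ≫ pullback.snd a E.hom) key
    refine Eq.trans ?_ (k2.symm.trans ?_)
    · exact (Category.assoc _ _ _).symm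
    · exact (pullback.lift_snd _ _ _).trans (Category.assoc _ _ _)
  -- the datum on `E`
  have hval : ∀ {T : Scheme.{u}} (y₁ : T ⟶ Z) (e₀ : T ⟶ E.left), (e₀ ≫ E.hom) ≫ b = y₁ ≫ b →
      ∃ e' : T ⟶ E.left, e' ≫ E.hom = y₁ ∧ ∀ {T' : Scheme.{u}} (g : T' ⟶ T) (x₁ : T' ⟶ X) (v : T' ⟶ D.obj.left)
        (hh : (v ≫ D.obj.hom) ≫ a ≫ b = x₁ ≫ a ≫ b), v ≫ π = g ≫ e₀ → x₁ ≫ a = g ≫ y₁ →
          tr D x₁ v hh ≫ π = g ≫ e' := by
    intro T y₁ e₀ hy
    let p₀ := pullback.snd a (e₀ ≫ E.hom)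
    let p₁ := pullback.snd a y₁
    let g := pullback.fst p₀ p₁ ≫ p₀
    have hg : SGA1.UnivSubmersive g := subm_comp (subm_fst p₀ (subm_snd y₁ ha)) (subm_snd _ ha)
    let x₀ := pullback.fst p₀ p₁ ≫ pullback.fst a (e₀ ≫ E.hom)
    let x₁ := pullback.snd p₀ p₁ ≫ pullback.fst a y₁
    have hx₀ : x₀ ≫ a = (g ≫ e₀) ≫ E.hom := by
      show (_ ≫ _) ≫ a = _
      rw [Category.assoc, pullback.condition]
      simp only [g, p₀, Category.assoc]
    have hx₁ : x₁ ≫ a = g ≫ y₁ := by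
      simp only [x₁, g, Category.assoc, pullback.condition (f := a)]
      exact (pullback.condition_assoc _).symm
    let v := pullback.lift x₀ (g ≫ e₀) hx₀ ≫ ε
    have hvπ : v ≫ π = g ≫ e₀ := (hB hx₀).2
    have hh : (v ≫ D.obj.hom) ≫ a ≫ b = x₁ ≫ a ≫ b := by
      rw [(hB hx₀).1, reassoc_of% hx₀, reassoc_of% hx₁]
      simp only [Category.assoc] at hy
      rw [hy]
    -- comparison of two choices
    have hcmp : ∀ {T' : Scheme.{u}} (h : T' ⟶ T) (x x' : T' ⟶ X) (v v' : T' ⟶ D.obj.left)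
        (hv : (v ≫ D.obj.hom) ≫ a ≫ b = x ≫ a ≫ b) (hv' : (v' ≫ D.obj.hom) ≫ a ≫ b = x' ≫ a ≫ b),
        v ≫ π = v' ≫ π → x ≫ a = x' ≫ a → tr D x v hv ≫ π = tr D x' v' hv' ≫ π := by
      intro T' _ x x' v v' hv hv' hπ hxa
      have ha' : (v ≫ D.obj.hom) ≫ a = (v' ≫ D.obj.hom) ≫ a := by rw [← hA, ← hA, hπ]
      have h1 : tr D (v' ≫ D.obj.hom) v (by rw [← Category.assoc, ← Category.assoc (v' ≫ _), ha']) = v' :=
        huniq (tr_over D _ _ _) ((hC _ _ _ ha').trans hπ)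
      have h2 : tr D x' v' hv' = tr D x' v (hv.trans (by rw [reassoc_of% hxa])) := tr_tr' D h1
      have h3 : tr D x' (tr D x v hv) (by rw [tr_over, reassoc_of% hxa]) =
          tr D x' v (hv.trans (by rw [reassoc_of% hxa])) := tr_tr' D rfl
      rw [h2, ← h3]
      exact (hC _ _ _ (by rw [tr_over, hxa])).symm
    obtain ⟨e', ⟨he'₁, he'₂⟩, -⟩ := exists_desc hg y₁ E.hom (tr D x₁ v hh ≫ π)
      (by rw [hA, tr_over, hx₁]) fun {T'} b₀ b₁ eb => by
        have hb : ∀ c : T' ⟶ pullback p₀ p₁, ((c ≫ v) ≫ D.obj.hom) ≫ a ≫ b = (c ≫ x₁) ≫ a ≫ b := fun c => by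
          simpa only [Category.assoc] using congrArg (c ≫ ·) hh
        have e₁ : ∀ c : T' ⟶ pullback p₀ p₁, c ≫ tr D x₁ v hh ≫ π = tr D (c ≫ x₁) (c ≫ v) (hb c) ≫ π :=
          fun c => by rw [← Category.assoc, comp_tr D c rfl rfl (h' := hb c)]
        rw [e₁, e₁]
        refine hcmp (b₀ ≫ g) _ _ _ _ _ _ ?_ ?_
        · rw [Category.assoc b₀ v π, Category.assoc b₁ v π, hvπ, reassoc_of% eb]
        · rw [Category.assoc b₀ x₁ a, Category.assoc b₁ x₁ a, hx₁, reassoc_of% eb]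
    refine ⟨e', he'₁, fun {T'} h x v' hh' hv' hx => ?_⟩
    let l₀ := pullback.lift (f := a) (g := e₀ ≫ E.hom) (v' ≫ D.obj.hom) h (by
      rw [← hA, hv', Category.assoc])
    let l₁ := pullback.lift (f := a) (g := y₁) x h hx
    let l : T' ⟶ pullback p₀ p₁ := pullback.lift l₀ l₁ ((pullback.lift_snd _ _ _).trans (pullback.lift_snd _ _ _).symm)
    have hlg : l ≫ g = h := by simp [l, g, l₀, p₀]
    have hlx : l ≫ x₁ = x := by simp [l, x₁, l₁]
    rw [← hlg, Category.assoc l g e', he'₂, ← Category.assoc l (tr D x₁ v hh) π]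
    rw [comp_tr D l rfl rfl (h' := by simpa only [Category.assoc] using congrArg (l ≫ ·) hh)]
    refine hcmp h _ _ _ _ _ _ ?_ ?_
    · rw [hv', Category.assoc l v π, hvπ, reassoc_of% hlg]
    · rw [hlx]
  choose ev hev₁ hev₂ using @hval
  have hev_eq : ∀ {T : Scheme.{u}} {y₁ : T ⟶ Z} {e₀ : T ⟶ E.left} (h : (e₀ ≫ E.hom) ≫ b = y₁ ≫ b)
      {e₁ : T ⟶ E.left}, e₁ ≫ E.hom = y₁ →
      (∀ {T' : Scheme.{u}} (g : T' ⟶ T) (x₀ x₁ : T' ⟶ X) (hx₀ : x₀ ≫ a = (g ≫ e₀) ≫ E.hom) (_ : x₁ ≫ a = g ≫ y₁)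
        (hh : ((pullback.lift x₀ (g ≫ e₀) hx₀ ≫ ε) ≫ D.obj.hom) ≫ a ≫ b = x₁ ≫ a ≫ b),
        tr D x₁ (pullback.lift x₀ (g ≫ e₀) hx₀ ≫ ε) hh ≫ π = g ≫ e₁) → ev y₁ e₀ h = e₁ := by
    intro T y₁ e₀ h e₁ he₁ H
    let g := pullback.fst (pullback.snd a (e₀ ≫ E.hom)) (pullback.snd a y₁) ≫ pullback.snd a (e₀ ≫ E.hom)
    haveI : Surjective g := surjective_subm (subm_comp (subm_fst _ (subm_snd y₁ ha)) (subm_snd _ ha))
    let x₀ := pullback.fst (pullback.snd a (e₀ ≫ E.hom)) (pullback.snd a y₁) ≫ pullback.fst a (e₀ ≫ E.hom)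
    let x₁ := pullback.snd (pullback.snd a (e₀ ≫ E.hom)) (pullback.snd a y₁) ≫ pullback.fst a y₁
    have hx₀ : x₀ ≫ a = (g ≫ e₀) ≫ E.hom := by
      show (_ ≫ _) ≫ a = _
      rw [Category.assoc, pullback.condition]
      simp only [g, Category.assoc]
    have hx₁ : x₁ ≫ a = g ≫ y₁ := by
      simp only [x₁, g, Category.assoc, pullback.condition (f := a)]
      exact (pullback.condition_assoc _).symm
    have hh : ((pullback.lift x₀ (g ≫ e₀) hx₀ ≫ ε) ≫ D.obj.hom) ≫ a ≫ b = x₁ ≫ a ≫ b := by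
      rw [(hB hx₀).1, reassoc_of% hx₀, reassoc_of% hx₁]
      simp only [Category.assoc] at h
      rw [h]
    refine desc_ext g E.hom ((hev₁ y₁ e₀ h).trans he₁.symm) ?_
    exact (hev₂ y₁ e₀ h g x₁ _ hh (hB hx₀).2 hx₁).symm.trans (H g x₀ x₁ hx₀ hx₁ hh)
  have hself : ∀ {T : Scheme.{u}} (e₀ : T ⟶ E.left), ev (e₀ ≫ E.hom) e₀ rfl = e₀ := fun e₀ =>
    hev_eq rfl rfl fun g x₀ x₁ hx₀ hx₁ hh => by
      rw [hC _ _ _ (by rw [(hB hx₀).1, hx₀, hx₁, Category.assoc]), (hB hx₀).2]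
  have htrans : ∀ {T : Scheme.{u}} (y₁ y₂ : T ⟶ Z) (e₀ : T ⟶ E.left) (h : (e₀ ≫ E.hom) ≫ b = y₁ ≫ b)
      (h' : (ev y₁ e₀ h ≫ E.hom) ≫ b = y₂ ≫ b),
      ev y₂ (ev y₁ e₀ h) h' = ev y₂ e₀ (h.trans ((congrArg (· ≫ b) (hev₁ y₁ e₀ h).symm).trans h')) := by
    intro T y₁ y₂ e₀ h h'
    symm
    refine hev_eq _ (hev₁ _ _ _) fun g x₀ x₂ hx₀ hx₂ hh => ?_
    let g₂ := pullback.snd a (g ≫ y₁)
    haveI : Surjective g₂ := surjective_subm (subm_snd _ ha)
    refine desc_ext g₂ E.hom ?_ ?_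
    · rw [hA, tr_over, hx₂, Category.assoc, hev₁]
    let x₁ := pullback.fst a (g ≫ y₁)
    have hx₁ : x₁ ≫ a = (g₂ ≫ g) ≫ y₁ := pullback.condition.trans (Category.assoc _ _ _).symm
    let v := g₂ ≫ pullback.lift x₀ (g ≫ e₀) hx₀ ≫ ε
    have hv : v ≫ π = (g₂ ≫ g) ≫ e₀ :=
      (Category.assoc g₂ _ π).trans ((congrArg (g₂ ≫ ·) (hB hx₀).2).trans (Category.assoc _ _ _).symm)
    have hv₂ : (v ≫ D.obj.hom) ≫ a ≫ b = (g₂ ≫ x₂) ≫ a ≫ b := by
      simpa only [v, Category.assoc] using congrArg (g₂ ≫ ·) hh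
    have hv₁ : (v ≫ D.obj.hom) ≫ a ≫ b = x₁ ≫ a ≫ b := by
      rw [hv₂, Category.assoc, reassoc_of% hx₂, reassoc_of% hx₁]
      have := congrArg (g₂ ≫ g ≫ ·) h'
      simp only [hev₁, Category.assoc] at this
      rw [this]
    have k₁ := hev₂ y₁ e₀ h (g₂ ≫ g) x₁ v hv₁ hv hx₁
    have k₂ := hev₂ y₂ (ev y₁ e₀ h) h' (g₂ ≫ g) (g₂ ≫ x₂) (tr D x₁ v hv₁)
      (by rw [tr_over]; exact hv₁.symm.trans hv₂) k₁ (by rw [Category.assoc, hx₂, Category.assoc])
    rw [← Category.assoc, comp_tr D g₂ rfl rfl (h' := hv₂)]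
    refine Eq.trans ?_ ((k₂.trans (Category.assoc _ _ _)))
    rw [tr_tr' D rfl (h₂ := hv₂)]
  let DE : Desc.SchDD b :=
    { obj := E
      φ := fun T y₀ y₁ h =>
        { toFun := fun e₀ => ⟨ev y₁ e₀.1 ((congrArg (· ≫ b) e₀.2).trans h), hev₁ _ _ _⟩
          invFun := fun e₁ => ⟨ev y₀ e₁.1 ((congrArg (· ≫ b) e₁.2).trans h.symm), hev₁ _ _ _⟩
          left_inv := fun e₀ => Subtype.ext (by
            obtain ⟨e₀, rfl⟩ := e₀
            exact (htrans _ _ _ _ _).trans (hself e₀))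
          right_inv := fun e₁ => Subtype.ext (by
            obtain ⟨e₁, rfl⟩ := e₁
            exact (htrans _ _ _ _ _).trans (hself e₁)) }
      φ_natural := fun T T' g y₀ y₁ h h' v v' hv' => by
        show ev (g ≫ y₁) v'.1 _ = g ≫ ev y₁ v.1 _
        obtain ⟨v', hv''⟩ := v'
        obtain ⟨v, hv⟩ := v
        change v' = g ≫ v at hv'
        subst hv'
        refine hev_eq _ (by rw [Category.assoc, hev₁]) fun g' x₀ x₁ hx₀ hx₁ hh => ?_
        exact (hev₂ _ v _ (g' ≫ g) x₁ _ hh ((hB hx₀).2.trans (Category.assoc _ _ _).symm)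
          (hx₁.trans (Category.assoc _ _ _).symm)).trans (Category.assoc _ _ _)
      φ_self := fun T y v => Subtype.ext (by
        obtain ⟨v, rfl⟩ := v
        exact hself v)
      φ_comp := fun T y₀ y₁ y₂ h h' v => Subtype.ext (htrans _ _ _ _ _) }
  have hDE : ∀ {T : Scheme.{u}} (y₁ : T ⟶ Z) (e₀ : T ⟶ E.left) (h : (e₀ ≫ E.hom) ≫ b = y₁ ≫ b),
      tr DE y₁ e₀ h = ev y₁ e₀ h := fun _ _ _ => rfl
  intro d
  obtain ⟨U, u', _, σE, hσE, z, hz⟩ := Hb DE rfl (π d)
  have hliesE : σE ≫ E.hom = pullback.fst b u' := hσE.lies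
  let l : pullback (a ≫ b) u' ⟶ pullback b u' := pullback.lift (pullback.fst (a ≫ b) u' ≫ a) (pullback.snd (a ≫ b) u')
    (by rw [Category.assoc]; exact pullback.condition)
  have hl : pullback.fst (a ≫ b) u' ≫ a = (l ≫ σE) ≫ E.hom := by rw [Category.assoc, hliesE, pullback.lift_fst]
  let σ := pullback.lift (pullback.fst (a ≫ b) u') (l ≫ σE) hl ≫ ε
  have hσ₁ : σ ≫ D.obj.hom = pullback.fst (a ≫ b) u' := (hB hl).1
  have hσ₂ : σ ≫ π = l ≫ σE := (hB hl).2
  refine ⟨U, u', inferInstance, σ, ⟨hσ₁, fun T t₀ t₁ h => ?_⟩, ?_⟩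
  · refine huniq ((tr_over D _ _ _).trans (by rw [Category.assoc, hσ₁])) ?_
    have hlt : (t₀ ≫ l) ≫ pullback.snd b u' = (t₁ ≫ l) ≫ pullback.snd b u' := by simpa [l] using h
    have key := hσE.compat (t₀ ≫ l) (t₁ ≫ l) hlt
    rw [hDE] at key
    refine (hev₂ _ _ _ (𝟙 T) _ (t₀ ≫ σ) _ ?_ ?_).trans ((Category.id_comp _).trans (key.trans ?_))
    · rw [Category.id_comp, Category.assoc t₀ σ π, hσ₂, Category.assoc]
    · rw [Category.id_comp, Category.assoc t₁ l, pullback.lift_fst, Category.assoc]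
    · rw [Category.assoc t₁ σ π, hσ₂, Category.assoc]
  · obtain ⟨w, -, hw⟩ := Scheme.Pullback.exists_preimage_pullback (f := σE) (g := π) z d hz
    let τ := (pullback σE π).fromSpecResidueField w
    let t := τ ≫ pullback.fst σE π
    let v := τ ≫ pullback.snd σE π
    have htv : t ≫ σE = v ≫ π := by simp only [t, v, Category.assoc, pullback.condition]
    let p := pullback.lift (f := a ≫ b) (g := u') (v ≫ D.obj.hom) (t ≫ pullback.snd b u') (by
      have h1 : (v ≫ π) ≫ E.hom = t ≫ pullback.fst b u' := by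
        rw [← htv, Category.assoc]; exact congrArg (t ≫ ·) hliesE
      rw [Category.assoc t, ← pullback.condition, ← Category.assoc t, ← h1, hA, Category.assoc (v ≫ D.obj.hom)])
    have hpl : p ≫ l = t := by
      apply pullback.hom_ext
      · simp only [l, p, Category.assoc, pullback.lift_fst, pullback.lift_fst_assoc]
        rw [← hliesE, reassoc_of% htv]
        simpa only [Category.assoc] using (hA v).symm
      · simp [l, p]
    have hp : p ≫ σ = v := huniq (by rw [Category.assoc, hσ₁, pullback.lift_fst])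
      (by rw [Category.assoc, hσ₂, reassoc_of% hpl, htv])
    refine ⟨p default, ?_⟩
    rw [← Scheme.Hom.comp_apply, hp, Scheme.Hom.comp_apply, Scheme.fromSpecResidueField_apply]
    exact hw

/-- **composition**: compatible sections exist for composites -/
theorem hasSecAll_comp {Z : Scheme.{u}} {a : X ⟶ Z} {b : Z ⟶ S} (ha : SGA1.UnivSubmersive a)
    (Ha : HasSecAll a) (Hb : HasSecAll b) : HasSecAll (a ≫ b) := by
  intro D hDe hDs
  haveI : Etale (restrDD D).obj.hom := hDe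
  haveI : IsSeparated (restrDD D).obj.hom := hDs
  obtain ⟨E, hEe, hEs, ⟨e⟩⟩ := exists_effective ha (Ha (restrDD D) hDe hDs)
  exact hasSec_comp ha D E e fun DE h => Hb DE (h ▸ hEe) (h ▸ hEs)

/-- a datum which is effective with étale object has compatible sections -/
theorem hasSec_of_effective {D : Desc.SchDD f} (U : Over S) [Etale U.hom] (e : (Desc.toDD f).obj U ≅ D) :
    HasSec D := by
  intro d
  let σ : pullback f U.hom ⟶ D.obj.left := e.hom.hom.left
  have hlies : σ ≫ D.obj.hom = pullback.fst f U.hom := Over.w e.hom.hom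
  let η : D.obj.left ⟶ pullback f U.hom := e.inv.hom.left
  have hηε : η ≫ σ = 𝟙 _ := congrArg (fun g : D ⟶ D => g.hom.left) e.inv_hom_id
  refine ⟨U.left, U.hom, inferInstance, σ, ⟨hlies, fun T t₀ t₁ h => ?_⟩, η d, ?_⟩
  · have hx : (t₀ ≫ pullback.fst f U.hom) ≫ f = (t₁ ≫ pullback.fst f U.hom) ≫ f := by
      simp only [Category.assoc, pullback.condition, reassoc_of% h]
    have key := e.hom.comm (t₀ ≫ pullback.fst f U.hom) (t₁ ≫ pullback.fst f U.hom) hx ⟨t₀, rfl⟩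
      ⟨t₀ ≫ σ, by rw [Category.assoc, hlies]⟩ rfl
    rw [phi_eq_tr D] at key
    refine key.trans (congrArg (· ≫ σ) ?_)
    apply pullback.hom_ext
    · exact pullback.lift_fst _ _ _
    · exact (pullback.lift_snd _ _ _).trans h
  · rw [← Scheme.Hom.comp_apply, hηε]; simp

end Groth.Agent.EtDD
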