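import Groth.Agent.EtDD.SubtrQC
import Groth.Agent.SchDescent.StableOpen
import Groth.Agent.SchDescent.FiniteFlat

/-!
# Compatible sections along universally open surjective morphisms
-/

set_option autoImplicit false
set_option backward.isDefEq.respectTransparency false
set_option backward.isDefEq.respectTransparency.types false
set_option linter.style.haveILetI false
set_option maxHeartbeats 1000000

universe u

open CategoryTheory CategoryTheory.Limits AlgebraicGeometry Topology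

noncomputable section

namespace Groth.Agent.EtDD

open Groth.Agent.SchDescent

variable {X S : Scheme.{u}} {g : X ⟶ S}

theorem SecCompat.map {D D' : Desc.SchDD g} (m : D ⟶ D') {U : Scheme.{u}} {a : U ⟶ S}
    {σ : pullback g a ⟶ D.obj.left} (h : SecCompat D a σ) : SecCompat D' a (σ ≫ m.hom.left) := by
  refine ⟨by rw [Category.assoc, Over.w m.hom, h.lies], fun T t₀ t₁ e => ?_⟩
  have key := h.compat t₀ t₁ e
  have hc : ((t₀ ≫ σ) ≫ D.obj.hom) ≫ g = (t₁ ≫ pullback.fst g a) ≫ g := by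
    rw [Category.assoc t₀, h.lies]
    simp only [Category.assoc, pullback.condition]
    rw [← Category.assoc, e, Category.assoc]
  have hm := m.comm ((t₀ ≫ σ) ≫ D.obj.hom) (t₁ ≫ pullback.fst g a) hc ⟨t₀ ≫ σ, rfl⟩
    ⟨(t₀ ≫ σ) ≫ m.hom.left, by rw [Category.assoc, Over.w m.hom]⟩ rfl
  rw [phi_eq_tr D'] at hm
  refine (tr_congr D' rfl (Category.assoc _ _ _).symm).trans (hm.trans ?_)
  exact (congrArg (· ≫ m.hom.left) key).trans (Category.assoc _ _ _)

/-- the action `X ×_S D ⟶ D` -/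
abbrev actMap (D : Desc.SchDD g) : pullback g (D.obj.hom ≫ g) ⟶ D.obj.left :=
  SchDescent.tr D (pullback.fst g (D.obj.hom ≫ g)) (pullback.snd g (D.obj.hom ≫ g))
    (by rw [Category.assoc, pullback.condition])

theorem isOpenMap_actMap (D : Desc.SchDD g) [UniversallyOpen g] : IsOpenMap (actMap D) := by
  let s := actMap D
  let p₁ := pullback.fst g (D.obj.hom ≫ g)
  let p₂ := pullback.snd g (D.obj.hom ≫ g)
  have hs : s ≫ D.obj.hom = p₁ := tr_over D _ _ _
  let i : pullback g (D.obj.hom ≫ g) ⟶ pullback g (D.obj.hom ≫ g) :=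
    pullback.lift (p₂ ≫ D.obj.hom) s (by rw [Category.assoc, reassoc_of% hs, pullback.condition])
  have hi : i ≫ i = 𝟙 _ := by
    apply pullback.hom_ext
    · simp only [i, p₂, Category.assoc, pullback.lift_fst, pullback.lift_snd_assoc, Category.id_comp]
      exact hs
    · simp only [i, Category.assoc, pullback.lift_snd, Category.id_comp]
      refine (comp_tr D _ (pullback.lift_fst _ _ _) (pullback.lift_snd _ _ _)
        (h' := by rw [hs, Category.assoc, pullback.condition])).trans ?_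
      exact (tr_tr D _ _ _ _ _).trans (tr_self D rfl)
  haveI : IsIso i := ⟨i, hi, hi⟩
  have e : s = i ≫ p₂ := (pullback.lift_snd _ _ _).symm
  show IsOpenMap s
  rw [e]
  exact Scheme.Hom.isOpenMap (i ≫ p₂)

theorem hasSec_univOpen_affine [IsAffine X] [IsAffine S] [UniversallyOpen g] [Surjective g]
    (D : Desc.SchDD g) [Etale D.obj.hom] [IsSeparated D.obj.hom] : HasSec D := by
  intro e
  obtain ⟨O, hO, he⟩ := exists_affine_nhd e
  let p₂ := pullback.snd g (D.obj.hom ≫ g)
  let W : D.obj.left.Opens := ⟨sat D O, isOpenMap_actMap D _ (O.2.preimage p₂.continuous)⟩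
  have hOW : (O : Set D.obj.left) ⊆ W := fun z hz => by
    have h := apply_mem_sat D (A := (O : Set D.obj.left)) D.obj.hom (𝟙 D.obj.left) (by simp) z hz
    rwa [tr_self D (Category.id_comp _), show (𝟙 D.obj.left : D.obj.left ⟶ D.obj.left) z = z by simp] at h
  have hW : IsStableOpen D W := by
    intro T x₀ x₁ hx v hv
    rintro _ ⟨t, rfl⟩
    obtain ⟨z, hz, hzt⟩ := hv ⟨t, rfl⟩
    change actMap D z = v.1 t at hzt
    obtain ⟨w, hw₁, hw₂⟩ := Scheme.Pullback.exists_preimage_pullback (f := v.1) (g := actMap D) t z hzt.symm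
    let k := (pullback v.1 (actMap D)).fromSpecResidueField w
    let l := k ≫ pullback.fst v.1 (actMap D)
    let n := k ≫ pullback.snd v.1 (actMap D)
    have hln : l ≫ v.1 = n ≫ actMap D := by simp only [l, n, Category.assoc, pullback.condition]
    have h₀ : ((n ≫ pullback.snd g (D.obj.hom ≫ g)) ≫ D.obj.hom) ≫ g = (n ≫ pullback.fst g (D.obj.hom ≫ g)) ≫ g := by
      simp only [Category.assoc, pullback.condition]
    have e₁ : l ≫ v.1 = tr D (n ≫ pullback.fst g (D.obj.hom ≫ g)) (n ≫ pullback.snd g (D.obj.hom ≫ g)) h₀ :=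
      hln.trans (comp_tr D n rfl rfl)
    have hv' : ((l ≫ v.1) ≫ D.obj.hom) ≫ g = (l ≫ x₁) ≫ g := by
      rw [Category.assoc l v.1, v.2, Category.assoc, hx]
      simp only [l, Category.assoc]
    have e₂ : l ≫ (D.φ x₀ x₁ hx v).1 = tr D (l ≫ x₁) (l ≫ v.1) hv' := by
      obtain ⟨v, hv⟩ := v
      rw [phi_eq_tr D]
      exact comp_tr D l rfl rfl
    have h₂ : ((n ≫ pullback.snd g (D.obj.hom ≫ g)) ≫ D.obj.hom) ≫ g = (l ≫ x₁) ≫ g := by
      rw [h₀, ← hv', e₁, tr_over]
    have e₃ : l ≫ (D.φ x₀ x₁ hx v).1 = tr D (l ≫ x₁) (n ≫ pullback.snd g (D.obj.hom ≫ g)) h₂ := by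
      rw [e₂]
      exact tr_tr' D e₁.symm
    have key := apply_mem_sat D (A := (O : Set D.obj.left)) (l ≫ x₁) (n ≫ pullback.snd g (D.obj.hom ≫ g)) h₂
      (IsLocalRing.closedPoint _) (by
        show pullback.snd g (D.obj.hom ≫ g) (pullback.snd v.1 (actMap D) (k _)) ∈ O
        rw [show k (IsLocalRing.closedPoint _) = w from Scheme.fromSpecResidueField_apply _ _, hw₂]
        exact hz)
    rw [← e₃, Scheme.Hom.comp_apply, show l (IsLocalRing.closedPoint _) = t by
      show pullback.fst v.1 (actMap D) (k _) = t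
      rw [show k (IsLocalRing.closedPoint _) = w from Scheme.fromSpecResidueField_apply _ _, hw₁]] at key
    exact key
  haveI : CompactSpace W.toScheme := isCompact_iff_compactSpace.1
    ((QuasiCompact.isCompact_preimage (f := p₂) (O : Set D.obj.left) O.2 hO.isCompact).image (Scheme.Hom.continuous _))
  let DW := restrict W hW
  haveI : Etale DW.obj.hom := inferInstanceAs (Etale (W.ι ≫ D.obj.hom))
  haveI : IsSeparated DW.obj.hom := inferInstanceAs (IsSeparated (W.ι ≫ D.obj.hom))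
  haveI : QuasiCompact DW.obj.hom := by
    show QuasiCompact (W.ι ≫ D.obj.hom)
    exact HasAffineProperty.iff_of_isAffine.mpr ‹CompactSpace W.toScheme›
  have hsub : Subtr.UnivSSubtrusive g := FlatBlowUp.univSSubtrusive_of_universallyOpen g
  obtain ⟨U, a, ha, σ, hσ, z, hz⟩ := hasSecQC_subtr g hsub DW ‹_› ‹_› ‹_› ⟨e, hOW he⟩
  refine ⟨U, a, ha, σ ≫ (restrictHom W hW).hom.left, hσ.map (restrictHom W hW), z, ?_⟩
  rw [Scheme.Hom.comp_apply, hz]
  rfl

theorem hasSec_univOpen [UniversallyOpen g] [Surjective g] (D : Desc.SchDD g) [Etale D.obj.hom]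
    [IsSeparated D.obj.hom] : HasSec D := by
  refine hasSec_of_local D fun s => ?_
  obtain ⟨O, hO, hs⟩ := exists_affine_nhd s
  haveI : IsAffine (O : Scheme.{u}) := hO
  let g₁ := pullback.snd g O.ι
  let Y := pullback g O.ι
  obtain ⟨t, ht⟩ := (isCompact_univ (X := (O : Scheme.{u}))).elim_finite_subcover
    (fun V : Y.affineOpens => g₁ '' (V.1 : Set Y)) (fun V => g₁.isOpenMap _ V.1.2) (fun o _ => by
      obtain ⟨y, hy⟩ := g₁.surjective o
      obtain ⟨V, hV, hyV⟩ := exists_affine_nhd y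
      exact Set.mem_iUnion.2 ⟨⟨V, hV⟩, y, hyV, hy⟩)
  let C : t → Scheme.{u} := fun V => (V.1.1 : Y.Opens).toScheme
  haveI : ∀ V, IsAffine (C V) := fun V => V.1.2
  let k : ∐ C ⟶ Y := Sigma.desc fun V => (V.1.1 : Y.Opens).ι
  haveI : UniversallyOpen k := IsZariskiLocalAtSource.sigmaDesc (P := @UniversallyOpen) fun i => inferInstance
  haveI : Surjective (k ≫ g₁) := ⟨fun o => by
    obtain ⟨V, hV, y, hy, hyo⟩ := Set.mem_iUnion₂.1 (ht (Set.mem_univ o))
    refine ⟨Sigma.ι C ⟨V, hV⟩ ⟨y, hy⟩, ?_⟩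
    have e : Sigma.ι C ⟨V, hV⟩ ≫ k ≫ g₁ = V.1.ι ≫ g₁ := by
      rw [← Category.assoc, Sigma.ι_desc]
    rw [← Scheme.Hom.comp_apply, e]
    exact hyo⟩
  refine ⟨O, O.ι, inferInstance, (Scheme.Opens.range_ι O).ge hs, ?_⟩
  refine hasSec_of_refine _ k (Purity.univSubmersive_of_universallyOpen (k ≫ g₁)) ?_
  exact hasSec_univOpen_affine _

theorem exists_effective_univOpen [UniversallyOpen g] [Surjective g] (D : Desc.SchDD g) [Etale D.obj.hom]
    [IsSeparated D.obj.hom] :
    ∃ U : Over S, IsSeparated U.hom ∧ Etale U.hom ∧ Nonempty ((Desc.toDD g).obj U ≅ D) := by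
  obtain ⟨U, he, hs, e⟩ := exists_effective (Purity.univSubmersive_of_universallyOpen g) (hasSec_univOpen D)
  exact ⟨U, hs, he, e⟩

end Groth.Agent.EtDD
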